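import Mathlib

/-!
# Normal form of seven idempotents (helper476, for S5806)

`Rels e1 e2 e3 e4 e5 e6 e8` : the relations between the idempotents `(1 - r) / 2` of seven reflections `r` of a
`6`-dimensional symplectic representation of `± U₃(3)`. `p1, p2, p3` is an orthonormal frame over `ε = e2`.
-/

set_option autoImplicit false

namespace Cfsg.Agent.H476.JTwo

/-- an anti-automorphism of order two -/
structure Adj {R : Type*} [Ring R] (st : R → R) : Prop where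
  add : ∀ a b, st (a + b) = st a + st b
  mul : ∀ a b, st (a * b) = st b * st a
  st_st : ∀ a, st (st a) = a

namespace Adj

variable {R : Type*} [Ring R] {st : R → R} (S : Adj st)
include S

theorem zero : st 0 = 0 := by
  have h := S.add 0 0
  rw [add_zero] at h
  exact left_eq_add.1 h

theorem neg (a : R) : st (-a) = -st a := by
  have h := S.add a (-a)
  rw [add_neg_cancel, S.zero] at h
  exact eq_neg_of_add_eq_zero_right h.symm

theorem sub (a b : R) : st (a - b) = st a - st b := by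
  rw [sub_eq_add_neg, S.add, S.neg, ← sub_eq_add_neg]

theorem one : st 1 = 1 := by
  have h := S.mul 1 (st 1)
  rw [one_mul, S.st_st, one_mul] at h
  exact h.symm

theorem natCast (n : ℕ) : st (n : R) = n := by
  induction n with
  | zero => rw [Nat.cast_zero, S.zero]
  | succ n ih => rw [Nat.cast_add, Nat.cast_one, S.add, ih, S.one]

theorem two : st (2 : R) = 2 := by
  have := S.natCast 2
  exact_mod_cast this

theorem four : st (4 : R) = 4 := by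
  have := S.natCast 4
  exact_mod_cast this

end Adj

/-- the relations -/
structure Rels {R : Type*} [Ring R] (st : R → R) (e1 e2 e3 e4 e5 e6 e8 : R) : Prop where
  tw : ∀ x y : R, 2 * x = 2 * y → x = y
  ad : Adj st
  i1 : e1 * e1 = e1
  i2 : e2 * e2 = e2
  i3 : e3 * e3 = e3
  i4 : e4 * e4 = e4
  i5 : e5 * e5 = e5
  i6 : e6 * e6 = e6
  i8 : e8 * e8 = e8
  s1 : st e1 = e1
  s2 : st e2 = e2
  s3 : st e3 = e3
  s4 : st e4 = e4
  s5 : st e5 = e5
  s6 : st e6 = e6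
  s8 : st e8 = e8
  sum : e1 + e2 + e3 = 1
  z12 : e1 * e2 = 0
  z14 : e1 * e4 = 0
  z35 : e3 * e5 = 0
  z18 : e1 * e8 = 0
  h24 : 2 * (e2 * e4 * e2) = e2
  h42 : 2 * (e4 * e2 * e4) = e4
  h34 : 2 * (e3 * e4 * e3) = e3
  h43 : 2 * (e4 * e3 * e4) = e4
  h25 : 2 * (e2 * e5 * e2) = e2
  h52 : 2 * (e5 * e2 * e5) = e5
  h15 : 2 * (e1 * e5 * e1) = e1
  h51 : 2 * (e5 * e1 * e5) = e5
  h28 : 2 * (e2 * e8 * e2) = e2
  h38 : 2 * (e3 * e8 * e3) = e3
  h83 : 2 * (e8 * e3 * e8) = e8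
  h48 : 2 * (e4 * e8 * e4) = e4
  h16 : 2 * (e1 * e6 * e1) = e1
  h56 : 2 * (e5 * e6 * e5) = e5
  h26 : 4 * (e2 * e6 * e2) = e2
  z64 : e6 * ((1 - 2 * e3) * e4 * (1 - 2 * e3)) = 0
  h96 : 4 * (((1 - 2 * e8) * (1 - 2 * e3) * (1 - 2 * e4) * e5 * (1 - 2 * e4) * (1 - 2 * e3) * (1 - 2 * e8)) * e6 *
      ((1 - 2 * e8) * (1 - 2 * e3) * (1 - 2 * e4) * e5 * (1 - 2 * e4) * (1 - 2 * e3) * (1 - 2 * e8))) =
      (1 - 2 * e8) * (1 - 2 * e3) * (1 - 2 * e4) * e5 * (1 - 2 * e4) * (1 - 2 * e3) * (1 - 2 * e8)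

namespace Rels

variable {R : Type*} [Ring R] {st : R → R} {e1 e2 e3 e4 e5 e6 e8 : R} (H : Rels st e1 e2 e3 e4 e5 e6 e8)
include H

theorem z21 : e2 * e1 = 0 := by
  have h := congrArg st H.z12
  rwa [H.ad.mul, H.s1, H.s2, H.ad.zero] at h

theorem z41 : e4 * e1 = 0 := by
  have h := congrArg st H.z14
  rwa [H.ad.mul, H.s1, H.s4, H.ad.zero] at h

theorem z53 : e5 * e3 = 0 := by
  have h := congrArg st H.z35
  rwa [H.ad.mul, H.s3, H.s5, H.ad.zero] at h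

theorem z81 : e8 * e1 = 0 := by
  have h := congrArg st H.z18
  rwa [H.ad.mul, H.s1, H.s8, H.ad.zero] at h

theorem z13 : e1 * e3 = 0 := by
  linear_combination (norm := noncomm_ring) e1 * H.sum - H.i1 - H.z12

theorem z31 : e3 * e1 = 0 := by
  linear_combination (norm := noncomm_ring) H.sum * e1 - H.i1 - H.z21

theorem z23 : e2 * e3 = 0 := by
  linear_combination (norm := noncomm_ring) e2 * H.sum - H.i2 - H.z21

theorem z32 : e3 * e2 = 0 := by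
  linear_combination (norm := noncomm_ring) H.sum * e2 - H.i2 - H.z12

/-! ### the frame -/

omit H in
/-- `q a` -/
theorem st_p (H : Rels st e1 e2 e3 e4 e5 e6 e8) : st (2 * (e1 * e5 * e2)) = 2 * (e2 * e5 * e1) ∧
    st (2 * (e3 * e4 * e2)) = 2 * (e2 * e4 * e3) := by
  constructor
  · rw [H.ad.mul, H.ad.mul, H.ad.mul, H.ad.two, H.s1, H.s2, H.s5]; noncomm_ring
  · rw [H.ad.mul, H.ad.mul, H.ad.mul, H.ad.two, H.s3, H.s2, H.s4]; noncomm_ring

theorem q1p1 : (2 * (e2 * e5 * e1)) * (2 * (e1 * e5 * e2)) = e2 := by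
  linear_combination (norm := noncomm_ring) 4 * (e2 * e5) * H.i1 * (e5 * e2) + 2 * e2 * H.h51 * e2 + H.h25

theorem q3p3 : (2 * (e2 * e4 * e3)) * (2 * (e3 * e4 * e2)) = e2 := by
  linear_combination (norm := noncomm_ring) 4 * (e2 * e4) * H.i3 * (e4 * e2) + 2 * e2 * H.h43 * e2 + H.h24

theorem p1q1 : (2 * (e1 * e5 * e2)) * (2 * (e2 * e5 * e1)) = e1 := by
  linear_combination (norm := noncomm_ring) 4 * (e1 * e5) * H.i2 * (e5 * e1) + 2 * e1 * H.h52 * e1 + H.h15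

theorem p3q3 : (2 * (e3 * e4 * e2)) * (2 * (e2 * e4 * e3)) = e3 := by
  linear_combination (norm := noncomm_ring) 4 * (e3 * e4) * H.i2 * (e4 * e3) + 2 * e3 * H.h42 * e3 + H.h34

theorem q1p2 : (2 * (e2 * e5 * e1)) * e2 = 0 := by
  linear_combination (norm := noncomm_ring) 2 * (e2 * e5) * H.z12

theorem q2p1 : e2 * (2 * (e1 * e5 * e2)) = 0 := by
  linear_combination (norm := noncomm_ring) 2 * H.z21 * (e5 * e2)

theorem q1p3 : (2 * (e2 * e5 * e1)) * (2 * (e3 * e4 * e2)) = 0 := by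
  linear_combination (norm := noncomm_ring) 4 * (e2 * e5) * H.z13 * (e4 * e2)

theorem q3p1 : (2 * (e2 * e4 * e3)) * (2 * (e1 * e5 * e2)) = 0 := by
  linear_combination (norm := noncomm_ring) 4 * (e2 * e4) * H.z31 * (e5 * e2)

theorem q2p3 : e2 * (2 * (e3 * e4 * e2)) = 0 := by
  linear_combination (norm := noncomm_ring) 2 * H.z23 * (e4 * e2)

theorem q3p2 : (2 * (e2 * e4 * e3)) * e2 = 0 := by
  linear_combination (norm := noncomm_ring) 2 * (e2 * e4) * H.z32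

/-- `2 e4 = (p2 + p3) (q2 + q3)` -/
theorem form4 : 2 * e4 = (e2 + 2 * (e3 * e4 * e2)) * (e2 + 2 * (e2 * e4 * e3)) := by
  linear_combination (norm := noncomm_ring) -H.p3q3 - H.i2 - 2 * H.i2 * (e4 * e3) - 2 * (e3 * e4) * H.i2 -
    2 * H.sum * e4 * (e2 + e3) - 2 * e4 * H.sum + 2 * H.z14 * (e2 + e3) + 2 * H.z41 + H.h24 + H.h34

/-- `2 e5 = (p1 + p2) (q1 + q2)` -/
theorem form5 : 2 * e5 = (2 * (e1 * e5 * e2) + e2) * (2 * (e2 * e5 * e1) + e2) := by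
  linear_combination (norm := noncomm_ring) -H.p1q1 - H.i2 - 2 * H.i2 * (e5 * e1) - 2 * (e1 * e5) * H.i2 -
    2 * H.sum * e5 * (e2 + e1) - 2 * e5 * H.sum + 2 * H.z35 * (e2 + e1) + 2 * H.z53 + H.h25 + H.h15

end Rels

/-- the frame, with the two other idempotents -/
structure Frm {R : Type*} [Ring R] (st : R → R) (ε p1 p3 q1 q3 e8 e6 : R) : Prop where
  tw : ∀ x y : R, 2 * x = 2 * y → x = y
  ad : Adj st
  ee : ε * ε = ε
  se : st ε = ε
  s1 : st p1 = q1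
  s3 : st p3 = q3
  p1e : p1 * ε = p1
  p3e : p3 * ε = p3
  eq1 : ε * q1 = q1
  eq3 : ε * q3 = q3
  q11 : q1 * p1 = ε
  q33 : q3 * p3 = ε
  q13 : q1 * p3 = 0
  q31 : q3 * p1 = 0
  q1e : q1 * ε = 0
  ep1 : ε * p1 = 0
  q3e : q3 * ε = 0
  ep3 : ε * p3 = 0
  sum : p1 * q1 + ε + p3 * q3 = 1
  i8 : e8 * e8 = e8
  i6 : e6 * e6 = e6
  s8 : st e8 = e8
  s6 : st e6 = e6
  z8 : e8 * p1 = 0
  h28 : 2 * (ε * e8 * ε) = ε
  h38 : 2 * (q3 * e8 * p3) = ε
  h83 : 2 * (e8 * p3 * q3 * e8) = e8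
  h48 : (ε + q3) * e8 * (ε + p3) = ε
  h16 : 2 * (q1 * e6 * p1) = ε
  h26 : 4 * (ε * e6 * ε) = ε
  z6 : e6 * p3 = e6 * ε
  h56 : (q1 + ε) * e6 * (p1 + ε) = ε

namespace Frm

variable {R : Type*} [Ring R] {st : R → R} {ε p1 p3 q1 q3 e8 e6 : R} (H : Frm st ε p1 p3 q1 q3 e8 e6)
include H

theorem sq1 : st q1 = p1 := by rw [← H.s1, H.ad.st_st]
theorem sq3 : st q3 = p3 := by rw [← H.s3, H.ad.st_st]

theorem z8' : q1 * e8 = 0 := by
  have h := congrArg st H.z8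
  rwa [H.ad.mul, H.s8, H.s1, H.ad.zero] at h

theorem z6' : q3 * e6 = ε * e6 := by
  have h := congrArg st H.z6
  rwa [H.ad.mul, H.ad.mul, H.s6, H.s3, H.se] at h

end Frm

/-- the quaternion `i` -/
def qI {R : Type*} [Ring R] (ε p3 e8 : R) : R := -(2 * (ε * e8 * p3))
/-- the quaternion `X` -/
def qX {R : Type*} [Ring R] (ε q1 e6 : R) : R := 4 * (q1 * e6 * ε)

namespace Frm

variable {R : Type*} [Ring R] {st : R → R} {ε p1 p3 q1 q3 e8 e6 : R} (H : Frm st ε p1 p3 q1 q3 e8 e6)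
include H

theorem eI : ε * qI ε p3 e8 = qI ε p3 e8 := by
  unfold qI
  linear_combination (norm := noncomm_ring) -2 * H.ee * e8 * p3

theorem Ie : qI ε p3 e8 * ε = qI ε p3 e8 := by
  unfold qI
  linear_combination (norm := noncomm_ring) -2 * ε * e8 * H.p3e

theorem stI' : st (qI ε p3 e8) = -(2 * (q3 * e8 * ε)) := by
  unfold qI
  rw [H.ad.neg, H.ad.mul, H.ad.mul, H.ad.mul, H.ad.two, H.s3, H.s8, H.se]
  noncomm_ring

/-- the other form of `i` -/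
theorem I_eq : qI ε p3 e8 = 2 * (q3 * e8 * ε) := by
  unfold qI
  linear_combination (norm := noncomm_ring) -2 * H.h48 + H.h28 + H.h38

theorem stI : st (qI ε p3 e8) = -qI ε p3 e8 := by rw [H.stI', ← H.I_eq]

theorem II : qI ε p3 e8 * qI ε p3 e8 = -ε := by
  have h : qI ε p3 e8 * qI ε p3 e8 = -(2 * (ε * e8 * p3)) * (2 * (q3 * e8 * ε)) := by
    conv_lhs => arg 2; rw [H.I_eq]
    rfl
  rw [h]
  linear_combination (norm := noncomm_ring) -2 * ε * H.h83 * ε - H.h28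

theorem q1I : q1 * qI ε p3 e8 = 0 := by
  rw [← H.eI]
  linear_combination (norm := noncomm_ring) H.q1e * qI ε p3 e8

theorem q3I : q3 * qI ε p3 e8 = 0 := by
  rw [← H.eI]
  linear_combination (norm := noncomm_ring) H.q3e * qI ε p3 e8

theorem Ip1 : qI ε p3 e8 * p1 = 0 := by
  rw [← H.Ie]
  linear_combination (norm := noncomm_ring) qI ε p3 e8 * H.ep1

theorem Ip3 : qI ε p3 e8 * p3 = 0 := by
  rw [← H.Ie]
  linear_combination (norm := noncomm_ring) qI ε p3 e8 * H.ep3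

theorem form8 : 2 * e8 = (ε + p3 * qI ε p3 e8) * (ε - qI ε p3 e8 * q3) := by
  have h1 : (ε + p3 * qI ε p3 e8) * (ε - qI ε p3 e8 * q3) =
      ε + p3 * (2 * (q3 * e8 * ε)) + 2 * (ε * e8 * p3) * q3 + p3 * q3 := by
    rw [← H.I_eq]
    have h2 : 2 * (ε * e8 * p3) = -qI ε p3 e8 := by unfold qI; noncomm_ring
    rw [h2]
    linear_combination (norm := noncomm_ring) H.ee - H.eI * q3 + p3 * H.Ie - p3 * H.II * q3 + p3 * H.eq3
  rw [h1]
  linear_combination (norm := noncomm_ring) -2 * H.sum * e8 * (ε + p3 * q3) - 2 * e8 * H.sum + 2 * H.z8 * q1 +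
    2 * p1 * H.z8' * (ε + p3 * q3) + H.h28 + p3 * H.h38 * q3 + p3 * H.eq3

theorem eX : ε * qX ε q1 e6 = qX ε q1 e6 := by
  unfold qX
  linear_combination (norm := noncomm_ring) 4 * H.eq1 * e6 * ε

theorem Xe : qX ε q1 e6 * ε = qX ε q1 e6 := by
  unfold qX
  linear_combination (norm := noncomm_ring) 4 * q1 * e6 * H.ee

theorem stX' : st (qX ε q1 e6) = 4 * (ε * e6 * p1) := by
  unfold qX
  rw [H.ad.mul, H.ad.mul, H.ad.mul, H.ad.four, H.sq1, H.s6, H.se]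
  noncomm_ring

theorem stX : st (qX ε q1 e6) = ε - qX ε q1 e6 := by
  rw [H.stX']
  unfold qX
  linear_combination (norm := noncomm_ring) 4 * H.h56 - 2 * H.h16 - H.h26

theorem XsX : qX ε q1 e6 * (4 * (ε * e6 * p1)) = 2 * ε := by
  apply H.tw
  unfold qX
  linear_combination (norm := noncomm_ring) 16 * q1 * e6 * H.sum * e6 * p1 + 16 * q1 * H.i6 * p1 -
    16 * q1 * H.z6 * q3 * e6 * p1 - 16 * q1 * e6 * ε * H.z6' * p1 + 16 * q1 * e6 * H.ee * e6 * p1 +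
    8 * H.h16 - 4 * H.h16 * (2 * (q1 * e6 * p1)) - 4 * ε * H.h16 - 4 * H.ee

theorem XX : qX ε q1 e6 * qX ε q1 e6 = qX ε q1 e6 - 2 * ε := by
  have h := H.XsX
  rw [← H.stX', H.stX] at h
  linear_combination (norm := noncomm_ring) -h + H.Xe

theorem XI (h9 : 2 * ((q1 - qI ε p3 e8) * e6 * (p1 + qI ε p3 e8)) = ε) :
    qX ε q1 e6 * qI ε p3 e8 + qI ε p3 e8 * qX ε q1 e6 = qI ε p3 e8 - ε := by
  have hX : qX ε q1 e6 * qI ε p3 e8 = 4 * (q1 * e6 * qI ε p3 e8) := by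
    unfold qX
    linear_combination (norm := noncomm_ring) 4 * q1 * e6 * H.eI
  have hX' : qI ε p3 e8 * (ε - qX ε q1 e6) = 4 * (qI ε p3 e8 * e6 * p1) := by
    rw [← H.stX, H.stX']
    linear_combination (norm := noncomm_ring) 4 * H.Ie * e6 * p1
  have h6 : 4 * (qI ε p3 e8 * e6 * qI ε p3 e8) = -ε := by
    rw [← H.II]
    have h1 : qI ε p3 e8 * e6 * qI ε p3 e8 = qI ε p3 e8 * ε * e6 * (ε * qI ε p3 e8) := by rw [H.Ie, H.eI]
    rw [h1]
    linear_combination (norm := noncomm_ring) qI ε p3 e8 * H.h26 * qI ε p3 e8 + qI ε p3 e8 * H.eI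
  linear_combination (norm := noncomm_ring) 2 * h9 - 2 * H.h16 + h6 + hX - hX' + H.Ie

theorem form6 : 4 * e6 = (p1 * qX ε q1 e6 + ε + p3) * ((ε - qX ε q1 e6) * q1 + ε + q3) := by
  have h1 : (p1 * qX ε q1 e6 + ε + p3) * ((ε - qX ε q1 e6) * q1 + ε + q3) =
      2 * (p1 * q1) + p1 * qX ε q1 e6 + p1 * qX ε q1 e6 * q3 + (ε - qX ε q1 e6) * q1 + p3 * (ε - qX ε q1 e6) * q1 +
        ε + q3 + p3 + p3 * q3 := by
    linear_combination (norm := noncomm_ring) p1 * H.Xe * q1 - p1 * H.XX * q1 + p1 * H.Xe + H.ee * q1 - H.eX * q1 +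
      H.ee + H.eq3 + H.p3e + 2 * p1 * H.eq1
  rw [h1]
  have hX : p1 * qX ε q1 e6 = 4 * (p1 * q1 * e6 * ε) := by unfold qX; noncomm_ring
  have hX' : (ε - qX ε q1 e6) * q1 = 4 * (ε * e6 * p1) * q1 := by rw [← H.stX', H.stX]
  rw [mul_assoc p3, hX, hX']
  linear_combination (norm := noncomm_ring) -4 * H.sum * e6 - 4 * (p1 * q1 + ε + p3 * q3) * e6 * H.sum +
    4 * (p1 * q1 + ε + p3 * q3) * H.z6 * q3 + 4 * p3 * H.z6' * (p1 * q1 + ε + ε * q3) + p1 * (2 * H.h16) * q1 +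
    H.h26 + H.h26 * q3 + H.eq3 + p3 * H.h26 + H.p3e + p3 * H.h26 * q3 + p3 * H.eq3 + 2 * p1 * H.eq1

end Frm

end Cfsg.Agent.H476.JTwo
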