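import Cfsg.Agent.H476.JTwo.Tps

/-!
# The group of the root lines is proper (helper476, for S5806)
-/

set_option autoImplicit false
set_option linter.unusedSectionVars false

namespace Cfsg.Agent.H476.JTwo

open Cfsg Cfsg.Geo Matrix Module

universe u v

variable {F : Type u} [Field F]

/-- the nilpotent map `x ↦ B(x, u) s + B(x, s) u` -/
def nil (u s : Fin 3 ⊕ Fin 3 → F) : M6 F :=
  vecMulVec s (Matrix.J (Fin 3) F *ᵥ u) + vecMulVec u (Matrix.J (Fin 3) F *ᵥ s)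

theorem nil_mulVec (u s x : Fin 3 ⊕ Fin 3 → F) :
    nil u s *ᵥ x = sympForm 3 F x u • s + sympForm 3 F x s • u := by
  unfold nil sympForm
  rw [Matrix.add_mulVec, Matrix.vecMulVec_mulVec, Matrix.vecMulVec_mulVec, dotProduct_comm x, dotProduct_comm x]
  simp

theorem eq_of_mulVec {A B : M6 F} (h : ∀ x, A *ᵥ x = B *ᵥ x) : A = B := by
  ext i j
  have := congrFun (h (Pi.single j 1)) i
  rw [Matrix.mulVec_single_one, Matrix.mulVec_single_one] at this
  exact this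

theorem nil_nil {u s : Fin 3 ⊕ Fin 3 → F} (h : sympForm 3 F s u = 0) : nil u s * nil u s = 0 := by
  have hB := form_symp (F := F)
  have h' : sympForm 3 F u s = 0 := by rw [hB.skew, h, neg_zero]
  apply eq_of_mulVec
  intro x
  rw [← Matrix.mulVec_mulVec, nil_mulVec, nil_mulVec, Matrix.zero_mulVec]
  simp only [hB.bilinear.add_left, hB.bilinear.smul_left, h, h', hB.alternating, mul_zero, add_zero, zero_smul]

/-- the symplectic transformation `1 + nil u s` -/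
def mkN (u s : Fin 3 ⊕ Fin 3 → F) (h : sympForm 3 F s u = 0) : GL (Fin 3 ⊕ Fin 3) F :=
  ⟨1 + nil u s, 1 - nil u s, by linear_combination (norm := noncomm_ring) -nil_nil h,
    by linear_combination (norm := noncomm_ring) -nil_nil h⟩

theorem mkN_mulVec (u s x : Fin 3 ⊕ Fin 3 → F) (h : sympForm 3 F s u = 0) :
    (mkN u s h : M6 F) *ᵥ x = x + (sympForm 3 F x u • s + sympForm 3 F x s • u) := by
  change (1 + nil u s) *ᵥ x = _
  rw [Matrix.add_mulVec, Matrix.one_mulVec, nil_mulVec]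

theorem mkN_sp (u s : Fin 3 ⊕ Fin 3 → F) (h : sympForm 3 F s u = 0) : mkN u s h ∈ spGL 3 F := by
  have hB := form_symp (F := F)
  have h' : sympForm 3 F u s = 0 := by rw [hB.skew, h, neg_zero]
  rw [H931.mem_spGL_iff]
  intro x y
  rw [mkN_mulVec, mkN_mulVec]
  simp only [hB.bilinear.add_left, hB.bilinear.smul_left, hB.bilinear.add_right, hB.bilinear.smul_right, h, h',
    hB.alternating, mul_zero, add_zero]
  rw [hB.skew s y, hB.skew u y]
  ring

theorem Rf.exists_pair {e : M6 F} (he : Rf e) : ∃ u w, e *ᵥ u = u ∧ e *ᵥ w = w ∧ sympForm 3 F w u = 1 := by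
  obtain ⟨w, hw⟩ : ∃ x, e *ᵥ x ≠ 0 := by
    by_contra hcon
    push Not at hcon
    exact he.ne_zero (eq_of_mulVec fun x => by rw [hcon, Matrix.zero_mulVec])
  have hB := form_symp (F := F)
  obtain ⟨y, hy⟩ := form_ne hw
  have ew : e *ᵥ (e *ᵥ w) = e *ᵥ w := by rw [Matrix.mulVec_mulVec, he.idem]
  rw [← ew, form_sa, he.adj] at hy
  refine ⟨(sympForm 3 F (e *ᵥ w) (e *ᵥ y))⁻¹ • (e *ᵥ y), e *ᵥ w, ?_, ew, ?_⟩
  · rw [Matrix.mulVec_smul, Matrix.mulVec_mulVec, he.idem]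
  · rw [hB.bilinear.smul_right, inv_mul_cancel₀ hy]

variable {e1 e2 e3 e4 e5 e6 e8 : M6 F} (H : Rels sa e1 e2 e3 e4 e5 e6 e8) {τ : F}

include H

theorem Rels.plane_aux (he1 : Rf e1) {u w s : Fin 3 ⊕ Fin 3 → F} (hu : e1 *ᵥ u = u) (hw : e1 *ᵥ w = w)
    (hwu : sympForm 3 F w u = 1) (hs : e1 *ᵥ s = 0)
    (hall : ∀ g ∈ spGL 3 F, TpR τ e1 e2 e3 e4 e5 e6 e8 (g : M6 F)) :
    ∃ v ∈ tree.toL, (u ∈ LinearMap.range (col τ e2 (fp1 e1 e2 e5) (fp3 e2 e3 e4) (rI e2 e3 e4 e8)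
      (rJ e1 e2 e3 e4 e5 e6 e8) v).mulVecLin) ∧
      (w + s ∈ LinearMap.range (col τ e2 (fp1 e1 e2 e5) (fp3 e2 e3 e4) (rI e2 e3 e4 e8)
      (rJ e1 e2 e3 e4 e5 e6 e8) v).mulVecLin) := by
  have hB := form_symp (F := F)
  have key : ∀ x, e1 *ᵥ x = x → sympForm 3 F s x = 0 := by
    intro x hx
    rw [← hx, ← he1.adj, ← form_sa, hs]
    unfold sympForm
    rw [zero_dotProduct]
  have hsu := key u hu
  have hsw := key w hw
  have hus : sympForm 3 F u s = 0 := by rw [hB.skew, hsu, neg_zero]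
  have hws : sympForm 3 F w s = 0 := by rw [hB.skew, hsw, neg_zero]
  obtain ⟨v, hv, x, hx⟩ := hall _ (mkN_sp u s hsu) _ one_mem_tree
  refine ⟨v, hv, ?_⟩
  have h1 := H.fr.col_g1 τ
  change col τ e2 (fp1 e1 e2 e5) (fp3 e2 e3 e4) (rI e2 e3 e4 e8) (rJ e1 e2 e3 e4 e5 e6 e8)
    (⟨⟨1, 0, 0, 0, 0, 0, 0, 0⟩, ⟨0, 0, 0, 0, 0, 0, 0, 0⟩, ⟨0, 0, 0, 0, 0, 0, 0, 0⟩⟩ : V) = _ at h1
  rw [h1] at hx
  have h2 : ∀ z, e1 *ᵥ z = z → (mkN u s hsu : M6 F) *ᵥ z ∈
      LinearMap.range (col τ e2 (fp1 e1 e2 e5) (fp3 e2 e3 e4) (rI e2 e3 e4 e8) (rJ e1 e2 e3 e4 e5 e6 e8) v).mulVecLin := by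
    intro z hz
    have h3 : z = fp1 e1 e2 e5 *ᵥ (fq1 e1 e2 e5 *ᵥ z) := by
      rw [Matrix.mulVec_mulVec, ← H.e1_eq, hz]
    rw [h3, Matrix.mulVec_mulVec, hx, ← Matrix.mulVec_mulVec]
    exact ⟨_, rfl⟩
  constructor
  · have h3 := h2 u hu
    rw [mkN_mulVec, hB.alternating, hus, zero_smul, zero_smul, add_zero, add_zero] at h3
    exact h3
  · have h3 := h2 w hw
    rw [mkN_mulVec, hwu, hws, one_smul, zero_smul, add_zero] at h3
    exact h3

theorem Rels.not_all [Fintype F] (hF : 5 ≤ Fintype.card F) (he1 : Rf e1) (he2 : Rf e2) :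
    ¬ ∀ g ∈ spGL 3 F, TpR τ e1 e2 e3 e4 e5 e6 e8 (g : M6 F) := by
  classical
  intro hall
  have hB := form_symp (F := F)
  obtain ⟨u, w, hu, hw, hwu⟩ := he1.exists_pair
  have h1 : ∀ s : LinearMap.ker e1.mulVecLin, ∃ i : Fin tree.toL.length,
      (u ∈ LinearMap.range (col τ e2 (fp1 e1 e2 e5) (fp3 e2 e3 e4) (rI e2 e3 e4 e8)
      (rJ e1 e2 e3 e4 e5 e6 e8) (tree.toL.get i)).mulVecLin) ∧
      (w + s ∈ LinearMap.range (col τ e2 (fp1 e1 e2 e5) (fp3 e2 e3 e4) (rI e2 e3 e4 e8)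
      (rJ e1 e2 e3 e4 e5 e6 e8) (tree.toL.get i)).mulVecLin) := by
    intro s
    have hs : e1 *ᵥ (s : Fin 3 ⊕ Fin 3 → F) = 0 := s.2
    obtain ⟨v, hv, h⟩ := H.plane_aux he1 hu hw hwu hs hall
    obtain ⟨i, hi⟩ := List.mem_iff_get.1 hv
    exact ⟨i, by rw [hi]; exact h⟩
  choose f hf using h1
  have hk : finrank F (LinearMap.ker e1.mulVecLin) = 4 := by
    have h3 := LinearMap.finrank_range_add_finrank_ker e1.mulVecLin
    rw [finrank_six] at h3
    have h4 := he1.rk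
    unfold Matrix.rank at h4
    omega
  have hcard : Nat.card (LinearMap.ker e1.mulVecLin) = Fintype.card F ^ 4 := by
    rw [Module.natCard_eq_pow_finrank (K := F), hk, Nat.card_eq_fintype_card]
  have hlt : Fintype.card (Fin tree.toL.length) < Nat.card (LinearMap.ker e1.mulVecLin) := by
    rw [Fintype.card_fin, length_tree, hcard]
    calc 315 < 5 ^ 4 := by norm_num
      _ ≤ Fintype.card F ^ 4 := Nat.pow_le_pow_left hF 4
  rw [Nat.card_eq_fintype_card] at hlt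
  obtain ⟨s, s', hne, heq⟩ := Fintype.exists_ne_map_eq_of_card_lt f hlt
  obtain ⟨a1, a2⟩ := hf s
  obtain ⟨-, a3⟩ := hf s'
  rw [← heq] at a3
  generalize hv : tree.toL.get (f s) = v at *
  set W := LinearMap.range (col τ e2 (fp1 e1 e2 e5) (fp3 e2 e3 e4) (rI e2 e3 e4 e8)
      (rJ e1 e2 e3 e4 e5 e6 e8) v).mulVecLin with hW
  have hW2 : finrank F W ≤ 2 := by
    have h3 := Matrix.rank_mul_le_right (col τ e2 (fp1 e1 e2 e5) (fp3 e2 e3 e4) (rI e2 e3 e4 e8)
      (rJ e1 e2 e3 e4 e5 e6 e8) v) e2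
    rw [H.fr.col_e, he2.rk] at h3
    exact h3
  have a4 : (s : Fin 3 ⊕ Fin 3 → F) - s' ∈ W := by
    have := W.sub_mem a2 a3
    rwa [add_sub_add_left_eq_sub] at this
  have es : e1 *ᵥ (s : Fin 3 ⊕ Fin 3 → F) = 0 := s.2
  have es' : e1 *ᵥ (s' : Fin 3 ⊕ Fin 3 → F) = 0 := s'.2
  have hli : LinearIndependent F ![u, w + s, (s : Fin 3 ⊕ Fin 3 → F) - s'] := by
    rw [Fintype.linearIndependent_iff]
    intro g hg
    rw [Fin.sum_univ_three] at hg
    simp only [Matrix.cons_val_zero, Matrix.cons_val_one, Matrix.cons_val_two, Matrix.head_cons, Matrix.tail_cons,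
      Matrix.cons_val] at hg
    have h3 := congrArg (fun z => e1 *ᵥ z) hg
    simp only [Matrix.mulVec_add, Matrix.mulVec_smul, Matrix.mulVec_sub, hu, hw, es, es', sub_zero, smul_zero,
      add_zero, Matrix.mulVec_zero] at h3
    have h4 : g 1 = 0 := by
      have h5 := congrArg (fun z => sympForm 3 F z u) h3
      simp only [hB.bilinear.add_left, hB.bilinear.smul_left, hB.alternating, hwu, mul_zero, zero_add, mul_one] at h5
      rw [h5]
      unfold sympForm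
      rw [zero_dotProduct]
    have h6 : g 0 = 0 := by
      rw [h4, zero_smul, add_zero] at h3
      rcases smul_eq_zero.1 h3 with h7 | h7
      · exact h7
      · exfalso
        rw [h7] at hwu
        unfold sympForm at hwu
        rw [Matrix.mulVec_zero, dotProduct_zero] at hwu
        exact zero_ne_one hwu
    have h8 : g 2 = 0 := by
      rw [h4, h6, zero_smul, zero_smul, zero_add, zero_add] at hg
      rcases smul_eq_zero.1 hg with h7 | h7
      · exact h7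
      · exact absurd (Subtype.ext (sub_eq_zero.1 h7)) hne
    intro i
    fin_cases i
    · exact h6
    · exact h4
    · exact h8
  have hle : Submodule.span F (Set.range ![u, w + s, (s : Fin 3 ⊕ Fin 3 → F) - s']) ≤ W := by
    rw [Submodule.span_le]
    rintro _ ⟨i, rfl⟩
    fin_cases i
    · exact a1
    · exact a2
    · exact a4
  have h5 := Submodule.finrank_mono hle
  rw [finrank_span_eq_card hli, Fintype.card_fin] at h5
  omega

theorem Rels.LL_lt [Fintype F] (hF : 5 ≤ Fintype.card F) (he1 : Rf e1) (he2 : Rf e2) :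
    LL τ e1 e2 e3 e4 e5 e6 e8 < spGL 3 F := by
  refine lt_of_le_of_ne LL_le fun h => H.not_all (τ := τ) hF he1 he2 fun g hg => ?_
  rw [← h] at hg
  exact hg.2.1

end Cfsg.Agent.H476.JTwo
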