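import Cfsg.Agent.H476.JTwo.Outer
import Cfsg.Agent.H476.JTwo.Plane
import Cfsg.Agent.H910.Six.Aut

/-!
# The contradiction, for an abstract group (helper476, for S5806)
-/

set_option autoImplicit false
set_option linter.unusedSectionVars false

namespace Cfsg.Agent.H476.JTwo

open Cfsg Cfsg.Geo Matrix Module
open Cfsg.Agent.H914.S6 Cfsg.Agent.H915.LD Cfsg.Agent.H910.Aut

universe u v

/-- generation, automorphisms, order -/
structure GF {G : Type v} [Group G] (D : GD G) where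
  φ : MulAut G
  f1 : φ D.g1 = D.g1
  f2 : φ D.g2 = D.g2
  f3 : φ D.g3 = D.g3
  f4 : φ D.g4 = D.g4
  f5 : φ D.g5 = D.g5
  f8 : φ D.g8 = D.g3 * D.g8 * D.g3
  f6 : φ D.g6 = D.g4 * D.g8 * D.g3 * D.g6 * (D.g3 * D.g8 * D.g4)
  aut : ∀ α : MulAut G, ∃ g : G, α = MulAut.conj g ∨ α = MulAut.conj g * φ
  gen : Subgroup.closure {D.g1, D.g2, D.g4, D.g5, D.g8, D.g6} = ⊤
  cop : ∀ x : G, x ^ 5 = 1 → x = 1

variable {F : Type u} [Field F] {G : Type v} [Group G] {H P : Subgroup (GL (Fin 3 ⊕ Fin 3) F)}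

section lifts

variable {θ : P →* G} (S : RH P θ) {D : GD G} (E : GF D) {e1 e2 e3 e4 e5 e6 e8 : M6 F}
  (R : Rels sa e1 e2 e3 e4 e5 e6 e8) {τ : F} (hτ : τ * τ = τ + 1)
  (r1 : IsR θ e1 D.g1) (r2 : IsR θ e2 D.g2) (r3 : IsR θ e3 D.g3) (r4 : IsR θ e4 D.g4) (r5 : IsR θ e5 D.g5)
  (r6 : IsR θ e6 D.g6) (r8 : IsR θ e8 D.g8)

include S

theorem lf_LL_of_isR {e : M6 F} {x : G} (r : IsR θ e x) (hx : x * x = 1) (h : TpR τ e1 e2 e3 e4 e5 e6 e8 (rr e))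
    {a : GL (Fin 3 ⊕ Fin 3) F} (ha : Lf θ a x) : a ∈ LL τ e1 e2 e3 e4 e5 e6 e8 := by
  obtain ⟨b, hb, hb1, hb2, hbs⟩ := RH.isR_inv r hx S
  have h1 : b ∈ LL τ e1 e2 e3 e4 e5 e6 e8 := mem_LL hb1 hb2 hbs h
  rcases S.lf_uniq hb ha with h2 | h2
  · rw [h2]; exact h1
  · rw [h2, ← neg_one_mul]; exact mul_mem neg_one_LL h1

include E R hτ r1 r2 r4 r5 r6 r8

/-- all lifts are in the group of the root lines -/
theorem lf_LL (x : G) : ∀ {a : GL (Fin 3 ⊕ Fin 3) F}, Lf θ a x → a ∈ LL τ e1 e2 e3 e4 e5 e6 e8 := by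
  have hx : x ∈ Subgroup.closure {D.g1, D.g2, D.g4, D.g5, D.g8, D.g6} := by rw [E.gen]; trivial
  induction hx using Subgroup.closure_induction with
  | mem y hy =>
    intro a ha
    simp only [Set.mem_insert_iff, Set.mem_singleton_iff] at hy
    rcases hy with rfl | rfl | rfl | rfl | rfl | rfl
    · exact lf_LL_of_isR S r1 D.sq1 (R.t1 hτ S.h2 S.h3) ha
    · exact lf_LL_of_isR S r2 D.sq2 (R.t2 hτ S.h2 S.h3) ha
    · exact lf_LL_of_isR S r4 D.sq4 (R.t4 hτ S.h2 S.h3) ha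
    · exact lf_LL_of_isR S r5 D.sq5 (R.t5 hτ S.h2 S.h3) ha
    · exact lf_LL_of_isR S r8 D.sq8 (R.t8 hτ S.h2 S.h3) ha
    · exact lf_LL_of_isR S r6 D.sq6 (R.t6 hτ S.h2 S.h3) ha
  | one =>
    intro a ha
    rcases S.lf_one ha with h | h
    · rw [h]; exact one_mem _
    · rw [h]; exact neg_one_LL
  | mul y z _ _ ihy ihz =>
    intro a ha
    obtain ⟨b, hb⟩ := S.exists_lf y
    obtain ⟨c, hc⟩ := S.exists_lf z
    have h1 := mul_mem (ihy hb) (ihz hc)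
    rcases S.lf_uniq (hb.mul hc) ha with h2 | h2
    · rw [h2]; exact h1
    · rw [h2, ← neg_one_mul]; exact mul_mem neg_one_LL h1
  | inv y _ ih =>
    intro a ha
    have h1 := ha.inv
    rw [inv_inv] at h1
    have h2 := inv_mem (ih h1)
    rwa [inv_inv] at h2

omit E R hτ r1 r2 r4 r5 r6 r8 in
theorem isR_of_ind {φ : MulAut G} {k : GL (Fin 3 ⊕ Fin 3) F} (hk : k ∈ spGL 3 F)
    (hind : ∀ {a : GL (Fin 3 ⊕ Fin 3) F} {x : G}, Lf θ a x → Lf θ (k * a * k⁻¹) (φ x)) {e : M6 F} {x : G}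
    (h : IsR θ e x) : IsR θ ((k : M6 F) * e * ((k⁻¹ : GL (Fin 3 ⊕ Fin 3) F) : M6 F)) (φ x) := by
  obtain ⟨he, a, ha, hae⟩ := h
  have h1 : ((k⁻¹ : GL (Fin 3 ⊕ Fin 3) F) : M6 F) * (k : M6 F) = 1 := by
    rw [← Units.val_mul, inv_mul_cancel, Units.val_one]
  have h2 : (k : M6 F) * ((k⁻¹ : GL (Fin 3 ⊕ Fin 3) F) : M6 F) = 1 := by
    rw [← Units.val_mul, mul_inv_cancel, Units.val_one]
  have h3 : sa (k : M6 F) = ((k⁻¹ : GL (Fin 3 ⊕ Fin 3) F) : M6 F) := by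
    calc sa (k : M6 F) = sa (k : M6 F) * (k : M6 F) * ((k⁻¹ : GL (Fin 3 ⊕ Fin 3) F) : M6 F) := by
          rw [mul_assoc, h2, mul_one]
      _ = _ := by rw [sa_mul_self hk, one_mul]
  refine ⟨he.conj h1 h3, k * a * k⁻¹, hind ha, ?_⟩
  rw [Units.val_mul, Units.val_mul, hae]
  unfold rr
  linear_combination (norm := noncomm_ring) h2

omit hτ in
include r3 in
/-- no element of `Sp` induces the outer automorphism -/
theorem no_outer (h3' : ¬ ∃ c : F, c * c = 3) {k : GL (Fin 3 ⊕ Fin 3) F} (hk : k ∈ spGL 3 F)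
    (hind : ∀ {a : GL (Fin 3 ⊕ Fin 3) F} {x : G}, Lf θ a x → Lf θ (k * a * k⁻¹) (E.φ x)) : False := by
  have h1 : ((k⁻¹ : GL (Fin 3 ⊕ Fin 3) F) : M6 F) * (k : M6 F) = 1 := by
    rw [← Units.val_mul, inv_mul_cancel, Units.val_one]
  have h2 : (k : M6 F) * ((k⁻¹ : GL (Fin 3 ⊕ Fin 3) F) : M6 F) = 1 := by
    rw [← Units.val_mul, mul_inv_cancel, Units.val_one]
  have h3 : sa (k : M6 F) = ((k⁻¹ : GL (Fin 3 ⊕ Fin 3) F) : M6 F) := by
    calc sa (k : M6 F) = sa (k : M6 F) * (k : M6 F) * ((k⁻¹ : GL (Fin 3 ⊕ Fin 3) F) : M6 F) := by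
          rw [mul_assoc, h2, mul_one]
      _ = _ := by rw [sa_mul_self hk, one_mul]
  have key : ∀ {e f : M6 F} {x y : G}, IsR θ e x → IsR θ f y → E.φ x = y → (k : M6 F) * e = f * k := by
    intro e f x y he hf hxy
    have h4 := isR_of_ind S hk hind he
    rw [hxy] at h4
    have h5 := S.isR_uniq h4 hf
    rw [← h5, mul_assoc _ _ (k : M6 F), h1, mul_one]
  obtain ⟨a3, l3, m3, n3, -⟩ := RH.isR_inv r3 D.sq3 S
  obtain ⟨a4, l4, m4, n4, -⟩ := RH.isR_inv r4 D.sq4 S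
  obtain ⟨a8, l8, m8, n8, -⟩ := RH.isR_inv r8 D.sq8 S
  have i3 : D.g3⁻¹ = D.g3 := inv_eq_of_mul_eq_one_left D.sq3
  have i4 : D.g4⁻¹ = D.g4 := inv_eq_of_mul_eq_one_left D.sq4
  have i8 : D.g8⁻¹ = D.g8 := inv_eq_of_mul_eq_one_left D.sq8
  have r383 := S.isR_conj r8 l3
  rw [m3, n3, i3] at r383
  have r6' := S.isR_conj (S.isR_conj (S.isR_conj r6 l3) l8) l4
  rw [m3, n3, m4, n4, m8, n8, i3, i4, i8] at r6'
  obtain ⟨c, hc⟩ := R.outer r2.1 S.h2 S.h3 h2 h1 h3 (key r1 r1 E.f1) (key r2 r2 E.f2) (key r3 r3 E.f3)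
    (key r4 r4 E.f4) (key r5 r5 E.f5) (key r8 r383 E.f8) (by
      rw [key r6 r6' (by rw [E.f6]; group)]
      noncomm_ring)
  exact h3' ⟨c, hc⟩

end lifts

/-- **the contradiction** -/
theorem close [Fintype F] (S : Hyp 3 H P) (e : Soc P ≃* G) {D : GD G} (E : GF D) (hF : 5 ≤ Fintype.card F)
    (h2 : (2 : F) ≠ 0) (h3 : (3 : F) ≠ 0) {τ : F} (hτ : τ * τ = τ + 1) (h3' : ¬ ∃ c : F, c * c = 3) : False := by
  set θ : P →* G := e.toMonoidHom.comp (toSoc P) with hθ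
  have hker : ∀ b : P, θ b = 1 ↔ (b : GL (Fin 3 ⊕ Fin 3) F) ∈ scalars (Fin 3 ⊕ Fin 3) F := by
    intro b
    rw [← MonoidHom.mem_ker, hθ, ker_comp, Subgroup.mem_subgroupOf]
  have T : RH P θ := by
    refine ⟨S.P_le, e.surjective.comp (toSoc_surjective P), ?_, ?_, h2, h3⟩
    · intro b hb
      exact scalar_cases (by norm_num) (S.P_le b.2) ((hker b).1 hb)
    · intro b hb
      rw [hker, hb, mem_scalars_iff]
      exact ⟨-1, by rw [Units.val_neg, Units.val_one, Units.val_neg, Units.val_one, neg_smul, one_smul]⟩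
  obtain ⟨e1, e2, e3, e4, e5, e6, e8, ⟨r1, r2, r3⟩, ⟨r4, r5⟩, ⟨r6, r8⟩, R⟩ := T.exists_rels D
  -- elements of `H` are `± P`
  have hHP : ∀ h ∈ H, ∃ x, Lf θ h x := by
    intro h hh
    have hn := Nrm.of_core S.core hh
    obtain ⟨α, hα⟩ := hn.exists_aut e
    have hlf : ∀ {a : GL (Fin 3 ⊕ Fin 3) F} {x : G}, Lf θ a x → Lf θ (h * a * h⁻¹) (α x) := by
      rintro a x ⟨b, hb, hab⟩
      refine ⟨hn.conj b, ?_, ?_⟩
      · change e (toSoc P (hn.conj b)) = α x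
        rw [hα, ← hb]
        rfl
      · rw [Nrm.conj_coe]
        rcases hab with rfl | rfl
        · exact Or.inl rfl
        · exact Or.inr (by rw [mul_neg, neg_mul])
    obtain ⟨g, hg⟩ := E.aut α
    obtain ⟨b, hb⟩ := T.surj g
    rcases hg with hg | hg
    · have hbn := Nrm.of_mem b.2
      obtain ⟨c, hc⟩ := scalar_of_eq S.toCore e hn hbn hα (fun x => by
        have h4 : e (toSoc P (hbn.conj x)) = θ (hbn.conj x) := rfl
        have h5 : hbn.conj x = b * x * b⁻¹ := Subtype.ext rfl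
        rw [h4, h5, map_mul, map_mul, map_inv, hb, hg]
        rfl)
      have hsc : (b : GL (Fin 3 ⊕ Fin 3) F)⁻¹ * h ∈ scalars (Fin 3 ⊕ Fin 3) F := by
        rw [mem_scalars_iff]
        have h6 : (((b : GL (Fin 3 ⊕ Fin 3) F)⁻¹ * h : GL (Fin 3 ⊕ Fin 3) F) : M6 F) = c • (1 : M6 F) := by
          rw [Units.val_mul, hc, Matrix.mul_smul, ← Units.val_mul, inv_mul_cancel, Units.val_one]
        have hc0 : c ≠ 0 := by
          rintro rfl
          rw [zero_smul] at h6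
          have h7 := (((b : GL (Fin 3 ⊕ Fin 3) F)⁻¹ * h : GL (Fin 3 ⊕ Fin 3) F)).isUnit
          rw [h6] at h7
          exact not_isUnit_zero h7
        exact ⟨Units.mk0 c hc0, h6⟩
      have h8 := scalar_cases (by norm_num) (mul_mem (inv_mem (S.P_le b.2)) (S.H_le hh)) hsc
      refine ⟨g, b, hb, ?_⟩
      rcases h8 with h8 | h8
      · exact Or.inl (inv_mul_eq_one.1 h8).symm
      · right
        rw [inv_mul_eq_iff_eq_mul] at h8
        rw [h8, mul_neg, mul_one]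
    · exfalso
      have hbl : Lf θ (b : GL (Fin 3 ⊕ Fin 3) F) g := ⟨b, hb, Or.inl rfl⟩
      refine no_outer T E R r1 r2 r3 r4 r5 r6 r8 h3' (k := (b : GL (Fin 3 ⊕ Fin 3) F)⁻¹ * h)
        (mul_mem (inv_mem (S.P_le b.2)) (S.H_le hh)) ?_
      intro a x hax
      have h4 := (hlf hax).conj hbl.inv
      have h5 : (b : GL (Fin 3 ⊕ Fin 3) F)⁻¹ * (h * a * h⁻¹) * (b : GL (Fin 3 ⊕ Fin 3) F)⁻¹⁻¹ =
          (b : GL (Fin 3 ⊕ Fin 3) F)⁻¹ * h * a * ((b : GL (Fin 3 ⊕ Fin 3) F)⁻¹ * h)⁻¹ := by group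
      have h6 : g⁻¹ * α x * g⁻¹⁻¹ = E.φ x := by
        rw [hg, MulAut.mul_apply, MulAut.conj_apply]
        group
      rw [h5, h6] at h4
      exact h4
  -- `H` is in the group of the root lines
  have hHL : H ≤ LL τ e1 e2 e3 e4 e5 e6 e8 := by
    intro h hh
    obtain ⟨x, hx⟩ := hHP h hh
    exact lf_LL T E R hτ r1 r2 r4 r5 r6 r8 x hx
  have hlt : H < LL τ e1 e2 e3 e4 e5 e6 e8 := by
    refine lt_of_le_of_ne hHL ?_
    intro heq
    have h0 := R.ex0_mem hτ h2 h3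
    rw [← heq] at h0
    obtain ⟨y, hy⟩ := hHP _ h0
    obtain ⟨a2, l2, m2, -, -⟩ := RH.isR_inv r2 D.sq2 T
    have h5 : (mkR (ex0 τ e1 e2 e3 e4 e5 e6 e8) (R.ex0_sq hτ h2 h3) * a2) ^ 5 = 1 := by
      apply Units.ext
      rw [Units.val_pow_eq_pow_val, Units.val_mul, m2, Units.val_one]
      exact R.ex0_five hτ h2 h3
    have h6 := (hy.mul l2).pow 5
    rw [h5] at h6
    have h7 := E.cop _ (T.lf_eq_one h6)
    have h8 := hy.mul l2
    rw [h7] at h8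
    rcases T.lf_one h8 with h9 | h9
    · apply R.ex0_ne hτ h2 h3 r2.1.ne_zero
      have h10 : (mkR (ex0 τ e1 e2 e3 e4 e5 e6 e8) (R.ex0_sq hτ h2 h3) : M6 F) = rr e2 := by
        have h11 : a2 * a2 = 1 := Units.ext (by rw [Units.val_mul, m2, r2.1.rr_rr, Units.val_one])
        have h12 : mkR (ex0 τ e1 e2 e3 e4 e5 e6 e8) (R.ex0_sq hτ h2 h3) = a2 := by
          calc mkR (ex0 τ e1 e2 e3 e4 e5 e6 e8) (R.ex0_sq hτ h2 h3) =
              mkR (ex0 τ e1 e2 e3 e4 e5 e6 e8) (R.ex0_sq hτ h2 h3) * a2 * a2 := by rw [mul_assoc, h11, mul_one]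
            _ = a2 := by rw [h9, one_mul]
        rw [h12, m2]
      change rr (ex0 τ e1 e2 e3 e4 e5 e6 e8) = rr e2 at h10
      apply smul_right_injective _ h2
      simp only
      rw [← two_mul_eq, ← two_mul_eq]
      unfold rr at h10
      linear_combination (norm := noncomm_ring) -h10
    · rw [h9] at h5
      have h10 : (-1 : GL (Fin 3 ⊕ Fin 3) F) ^ 5 = -1 := by
        rw [Odd.neg_pow (by decide), one_pow]
      rw [h10] at h5
      exact T.one_ne h5.symm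
  exact S.false_of_lt hlt (R.LL_lt hF r1.1 r2.1)

end Cfsg.Agent.H476.JTwo
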