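import Cfsg.Agent.H476.JTwo.Model

/-!
# The 315 root lines: soundness of the check (helper476, for S5806)

`sound` : for a root vector `v` and a generator `w` there are a root vector `v'`, a divisor `d` of 12 and `u` with
`v' u = d · refl n w v`.
-/

set_option autoImplicit false
set_option maxRecDepth 100000

namespace Cfsg.Agent.H476.JTwo

theorem c1 : ((1099511627775 : ℕ) : ZMod MM) = -1 := by
  have h : ((1099511627775 + 1 : ℕ) : ZMod MM) = 0 := ZMod.natCast_self MM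
  rw [Nat.cast_add, Nat.cast_one] at h
  linear_combination h

theorem c3 : ((3298534883325 : ℕ) : ZMod MM) = -3 := by
  have h : (3298534883325 : ℕ) = 3 * 1099511627775 := by norm_num
  rw [h, Nat.cast_mul, c1]
  push_cast
  ring

theorem cast_cb (p q r s : ℕ) : ((R.cb p q r s : ℕ) : ZMod MM) = p + q + 3 * r - 3 * s := by
  change (((p + q + (3 * r + 3298534883325 * s)) % MM : ℕ) : ZMod MM) = _
  rw [ZMod.natCast_mod, Nat.cast_add, Nat.cast_add, Nat.cast_add, Nat.cast_mul, Nat.cast_mul, c3]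
  push_cast
  ring

theorem cast_cb' (p q r s : ℕ) : ((R.cb' p q r s : ℕ) : ZMod MM) = p + q + r - s := by
  change (((p + q + (r + 1099511627775 * s)) % MM : ℕ) : ZMod MM) = _
  rw [ZMod.natCast_mod, Nat.cast_add, Nat.cast_add, Nat.cast_add, Nat.cast_mul, c1]
  ring

theorem cast_cb0 (p q r s : ℕ) : ((R.cb0 p q r s : ℕ) : ZMod MM) = p - q - 3 * r - 3 * s := by
  change (((p + 1099511627775 * (q + 3 * (r + s))) % MM : ℕ) : ZMod MM) = _
  rw [ZMod.natCast_mod, Nat.cast_add, Nat.cast_mul, c1, Nat.cast_add, Nat.cast_mul, Nat.cast_add]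
  push_cast
  ring

theorem cast_n0 (a b c d : ℕ) : ((R.n0 a b c d : ℕ) : ZMod MM) = a * c + b * d := by
  change ((a * c + b * d : ℕ) : ZMod MM) = _
  push_cast
  ring

theorem cast_n1 (a b c d : ℕ) : ((R.n1 a b c d : ℕ) : ZMod MM) = a * d + b * c + b * d := by
  change ((a * d + b * c + b * d : ℕ) : ZMod MM) = _
  push_cast
  ring

theorem cast_neg1 (n : ℕ) : ((R.neg1 n : ℕ) : ZMod MM) = -n := by
  change ((1099511627775 * n : ℕ) : ZMod MM) = _
  rw [Nat.cast_mul, c1]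
  ring

theorem cast_ms (n p q : ℕ) : ((R.ms n p q : ℕ) : ZMod MM) = n * p - q := by
  change (((n * p + 1099511627775 * q) % MM : ℕ) : ZMod MM) = _
  rw [ZMod.natCast_mod, Nat.cast_add, Nat.cast_mul, Nat.cast_mul, c1]
  ring

theorem cast_res (x : Int) : ((x : Int) : ZMod MM) = ((res x : ℕ) : ZMod MM) := by
  cases x with
  | ofNat n => exact Int.cast_natCast n
  | negSucc n =>
    change _ = ((1099511627775 * (n + 1) : ℕ) : ZMod MM)
    rw [Nat.cast_mul, c1, Int.cast_negSucc]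
    ring

/-- same residues -/
structure Rl (x : Q) (r : R) : Prop where
  a : ((x.a : Int) : ZMod MM) = ((r.a : ℕ) : ZMod MM)
  b : ((x.b : Int) : ZMod MM) = ((r.b : ℕ) : ZMod MM)
  c : ((x.c : Int) : ZMod MM) = ((r.c : ℕ) : ZMod MM)
  d : ((x.d : Int) : ZMod MM) = ((r.d : ℕ) : ZMod MM)
  e : ((x.e : Int) : ZMod MM) = ((r.e : ℕ) : ZMod MM)
  f : ((x.f : Int) : ZMod MM) = ((r.f : ℕ) : ZMod MM)
  g : ((x.g : Int) : ZMod MM) = ((r.g : ℕ) : ZMod MM)
  h : ((x.h : Int) : ZMod MM) = ((r.h : ℕ) : ZMod MM)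

theorem rl_res (x : Q) : Rl x (resQ x) :=
  ⟨cast_res _, cast_res _, cast_res _, cast_res _, cast_res _, cast_res _, cast_res _, cast_res _⟩

theorem Rl.mul {x y : Q} {r s : R} (hx : Rl x r) (hy : Rl y s) : Rl (x.mul y) (r.mul s) := by
  constructor
  all_goals
    simp only [Q.mul, R.mul, cast_cb, cast_cb', cast_cb0, cast_n0, cast_n1, Q.p0, Q.p1, ← hx.a, ← hx.b, ← hx.c, ← hx.d,
      ← hx.e, ← hx.f, ← hx.g, ← hx.h, ← hy.a, ← hy.b, ← hy.c, ← hy.d, ← hy.e, ← hy.f, ← hy.g, ← hy.h]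
    push_cast
    ring

theorem Rl.conj {x : Q} {r : R} (hx : Rl x r) : Rl x.conj r.conj := by
  constructor <;>
    simp only [Q.conj, R.conj, cast_neg1, ← hx.a, ← hx.b, ← hx.c, ← hx.d,
      ← hx.e, ← hx.f, ← hx.g, ← hx.h, Int.cast_neg]

theorem Rl.sum2 {x y z : Q} {r s t : R} (hx : Rl x r) (hy : Rl y s) (hz : Rl z t) :
    Rl (((x.add y).add z).smul 2) (R.sum2 r s t) := by
  have key : ∀ a b c : ℕ, ((Nat.mul 2 (Nat.add (Nat.add a b) c) : ℕ) : ZMod MM) = 2 * (a + b + c) := by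
    intro a b c
    change ((2 * (a + b + c) : ℕ) : ZMod MM) = _
    push_cast
    ring
  constructor
  all_goals
    simp only [Q.add, Q.smul, R.sum2, key, ← hx.a, ← hx.b, ← hx.c, ← hx.d,
      ← hx.e, ← hx.f, ← hx.g, ← hx.h, ← hy.a, ← hy.b, ← hy.c, ← hy.d, ← hy.e, ← hy.f, ← hy.g, ← hy.h,
      ← hz.a, ← hz.b, ← hz.c, ← hz.d, ← hz.e, ← hz.f, ← hz.g, ← hz.h]
    push_cast
    ring

theorem Rl.msub {x y : Q} {r s : R} (n : ℕ) (hx : Rl x r) (hy : Rl y s) :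
    Rl ((x.smul n).sub y) (R.msub n r s) := by
  constructor
  all_goals
    simp only [Q.sub, Q.smul, R.msub, cast_ms, ← hx.a, ← hx.b, ← hx.c, ← hx.d,
      ← hx.e, ← hx.f, ← hx.g, ← hx.h, ← hy.a, ← hy.b, ← hy.c, ← hy.d, ← hy.e, ← hy.f, ← hy.g, ← hy.h]
    push_cast
    ring

/-- all coordinates are small -/
structure Bd (B : Int) (x : Q) : Prop where
  a : |x.a| ≤ B
  b : |x.b| ≤ B
  c : |x.c| ≤ B
  d : |x.d| ≤ B
  e : |x.e| ≤ B
  f : |x.f| ≤ B
  g : |x.g| ≤ B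
  h : |x.h| ≤ B

theorem bd_p0 {A B a b c d : Int} (ha : |a| ≤ A) (hb : |b| ≤ A) (hc : |c| ≤ B) (hd : |d| ≤ B) :
    |Q.p0 a b c d| ≤ 2 * (A * B) := by
  unfold Q.p0
  have h1 : |a * c| ≤ A * B := by
    rw [abs_mul]; exact mul_le_mul ha hc (abs_nonneg _) ((abs_nonneg _).trans ha)
  have h2 : |b * d| ≤ A * B := by
    rw [abs_mul]; exact mul_le_mul hb hd (abs_nonneg _) ((abs_nonneg _).trans ha)
  have := abs_add_le (a * c) (b * d)
  linarith

theorem bd_p1 {A B a b c d : Int} (ha : |a| ≤ A) (hb : |b| ≤ A) (hc : |c| ≤ B) (hd : |d| ≤ B) :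
    |Q.p1 a b c d| ≤ 3 * (A * B) := by
  unfold Q.p1
  have h1 : |a * d| ≤ A * B := by
    rw [abs_mul]; exact mul_le_mul ha hd (abs_nonneg _) ((abs_nonneg _).trans ha)
  have h2 : |b * c| ≤ A * B := by
    rw [abs_mul]; exact mul_le_mul hb hc (abs_nonneg _) ((abs_nonneg _).trans ha)
  have h3 : |b * d| ≤ A * B := by
    rw [abs_mul]; exact mul_le_mul hb hd (abs_nonneg _) ((abs_nonneg _).trans ha)
  have h4 := abs_add_le (a * d) (b * c)
  have := abs_add_le (a * d + b * c) (b * d)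
  linarith

theorem Bd.nonneg {A : Int} {x : Q} (hx : Bd A x) : 0 ≤ A := (abs_nonneg _).trans hx.a

theorem Bd.mul {A B : Int} {x y : Q} (hx : Bd A x) (hy : Bd B y) : Bd (24 * (A * B)) (x.mul y) := by
  have hn : 0 ≤ A * B := mul_nonneg hx.nonneg hy.nonneg
  obtain ⟨xa, xb, xc, xd, xe, xf, xg, xh⟩ := hx
  obtain ⟨ya, yb, yc, yd, ye, yf, yg, yh⟩ := hy
  constructor
  · have h1 := abs_le.1 (bd_p0 xa xb ya yb)
    have h2 := abs_le.1 (bd_p0 xc xd yc yd)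
    have h3 := abs_le.1 (bd_p0 xe xf ye yf)
    have h4 := abs_le.1 (bd_p0 xg xh yg yh)
    rw [abs_le]
    simp only [Q.mul]
    constructor <;> linarith [h1.1, h1.2, h2.1, h2.2, h3.1, h3.2, h4.1, h4.2]
  · have h1 := abs_le.1 (bd_p1 xa xb ya yb)
    have h2 := abs_le.1 (bd_p1 xc xd yc yd)
    have h3 := abs_le.1 (bd_p1 xe xf ye yf)
    have h4 := abs_le.1 (bd_p1 xg xh yg yh)
    rw [abs_le]
    simp only [Q.mul]
    constructor <;> linarith [h1.1, h1.2, h2.1, h2.2, h3.1, h3.2, h4.1, h4.2]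
  · have h1 := abs_le.1 (bd_p0 xa xb yc yd)
    have h2 := abs_le.1 (bd_p0 xc xd ya yb)
    have h3 := abs_le.1 (bd_p0 xe xf yg yh)
    have h4 := abs_le.1 (bd_p0 xg xh ye yf)
    rw [abs_le]
    simp only [Q.mul]
    constructor <;> linarith [h1.1, h1.2, h2.1, h2.2, h3.1, h3.2, h4.1, h4.2]
  · have h1 := abs_le.1 (bd_p1 xa xb yc yd)
    have h2 := abs_le.1 (bd_p1 xc xd ya yb)
    have h3 := abs_le.1 (bd_p1 xe xf yg yh)
    have h4 := abs_le.1 (bd_p1 xg xh ye yf)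
    rw [abs_le]
    simp only [Q.mul]
    constructor <;> linarith [h1.1, h1.2, h2.1, h2.2, h3.1, h3.2, h4.1, h4.2]
  · have h1 := abs_le.1 (bd_p0 xa xb ye yf)
    have h2 := abs_le.1 (bd_p0 xe xf ya yb)
    have h3 := abs_le.1 (bd_p0 xc xd yg yh)
    have h4 := abs_le.1 (bd_p0 xg xh yc yd)
    rw [abs_le]
    simp only [Q.mul]
    constructor <;> linarith [h1.1, h1.2, h2.1, h2.2, h3.1, h3.2, h4.1, h4.2]
  · have h1 := abs_le.1 (bd_p1 xa xb ye yf)
    have h2 := abs_le.1 (bd_p1 xe xf ya yb)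
    have h3 := abs_le.1 (bd_p1 xc xd yg yh)
    have h4 := abs_le.1 (bd_p1 xg xh yc yd)
    rw [abs_le]
    simp only [Q.mul]
    constructor <;> linarith [h1.1, h1.2, h2.1, h2.2, h3.1, h3.2, h4.1, h4.2]
  · have h1 := abs_le.1 (bd_p0 xa xb yg yh)
    have h2 := abs_le.1 (bd_p0 xg xh ya yb)
    have h3 := abs_le.1 (bd_p0 xc xd ye yf)
    have h4 := abs_le.1 (bd_p0 xe xf yc yd)
    rw [abs_le]
    simp only [Q.mul]
    constructor <;> linarith [h1.1, h1.2, h2.1, h2.2, h3.1, h3.2, h4.1, h4.2]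
  · have h1 := abs_le.1 (bd_p1 xa xb yg yh)
    have h2 := abs_le.1 (bd_p1 xg xh ya yb)
    have h3 := abs_le.1 (bd_p1 xc xd ye yf)
    have h4 := abs_le.1 (bd_p1 xe xf yc yd)
    rw [abs_le]
    simp only [Q.mul]
    constructor <;> linarith [h1.1, h1.2, h2.1, h2.2, h3.1, h3.2, h4.1, h4.2]

theorem Bd.conj {A : Int} {x : Q} (hx : Bd A x) : Bd A x.conj := by
  obtain ⟨xa, xb, xc, xd, xe, xf, xg, xh⟩ := hx
  exact ⟨xa, xb, (abs_neg _).trans_le xc, (abs_neg _).trans_le xd, (abs_neg _).trans_le xe, (abs_neg _).trans_le xf,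
    (abs_neg _).trans_le xg, (abs_neg _).trans_le xh⟩

theorem abs_smul_le {A n a : Int} (hn : 0 ≤ n) (h : |a| ≤ A) : |n * a| ≤ n * A := by
  rw [abs_mul, abs_of_nonneg hn]
  exact mul_le_mul_of_nonneg_left h hn

theorem Bd.smul {A n : Int} {x : Q} (hn : 0 ≤ n) (hx : Bd A x) : Bd (n * A) (x.smul n) := by
  obtain ⟨xa, xb, xc, xd, xe, xf, xg, xh⟩ := hx
  exact ⟨abs_smul_le hn xa, abs_smul_le hn xb, abs_smul_le hn xc, abs_smul_le hn xd, abs_smul_le hn xe,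
    abs_smul_le hn xf, abs_smul_le hn xg, abs_smul_le hn xh⟩

theorem abs_add' {A B a b : Int} (h : |a| ≤ A) (h' : |b| ≤ B) : |a + b| ≤ A + B :=
  (abs_add_le _ _).trans (add_le_add h h')

theorem abs_sub'' {A B a b : Int} (h : |a| ≤ A) (h' : |b| ≤ B) : |a - b| ≤ A + B :=
  (abs_sub _ _).trans (add_le_add h h')

theorem Bd.add {A B : Int} {x y : Q} (hx : Bd A x) (hy : Bd B y) : Bd (A + B) (x.add y) := by
  obtain ⟨xa, xb, xc, xd, xe, xf, xg, xh⟩ := hx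
  obtain ⟨ya, yb, yc, yd, ye, yf, yg, yh⟩ := hy
  exact ⟨abs_add' xa ya, abs_add' xb yb, abs_add' xc yc, abs_add' xd yd, abs_add' xe ye, abs_add' xf yf,
    abs_add' xg yg, abs_add' xh yh⟩

theorem Bd.sub {A B : Int} {x y : Q} (hx : Bd A x) (hy : Bd B y) : Bd (A + B) (x.sub y) := by
  obtain ⟨xa, xb, xc, xd, xe, xf, xg, xh⟩ := hx
  obtain ⟨ya, yb, yc, yd, ye, yf, yg, yh⟩ := hy
  exact ⟨abs_sub'' xa ya, abs_sub'' xb yb, abs_sub'' xc yc, abs_sub'' xd yd, abs_sub'' xe ye, abs_sub'' xf yf,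
    abs_sub'' xg yg, abs_sub'' xh yh⟩

theorem Bd.mono {A B : Int} {x : Q} (hx : Bd A x) (h : A ≤ B) : Bd B x := by
  obtain ⟨xa, xb, xc, xd, xe, xf, xg, xh⟩ := hx
  exact ⟨xa.trans h, xb.trans h, xc.trans h, xd.trans h, xe.trans h, xf.trans h, xg.trans h, xh.trans h⟩

/-! ### equality from residues -/

theorem eq_of_eqm {x y : Int} {p q : ℕ} (d : ℕ) (hx : (x : ZMod MM) = p) (hy : (y : ZMod MM) = q)
    (h : R.eqm d p q = true) {A : Int} (h1 : |x| ≤ A) (h2 : |(d : Int) * y| ≤ A) (hA : 2 * A < MM) : x = d * y := by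
  have h3 : p = (d * q) % MM := Nat.eq_of_beq_eq_true h
  have h4 : ((x - d * y : Int) : ZMod MM) = 0 := by
    rw [Int.cast_sub, hx, h3, ZMod.natCast_mod, Int.cast_mul, hy]
    push_cast
    ring
  have h5 : (MM : Int) ∣ x - d * y := (ZMod.intCast_zmod_eq_zero_iff_dvd _ _).1 h4
  have h6 : |x - d * y| < (MM : Int) := by
    have := abs_sub'' h1 h2
    linarith
  have h7 := Int.eq_zero_of_abs_lt_dvd h5 h6
  linarith

theorem smul_bd {A : Int} {d : ℕ} {x : Q} (hx : Bd A x) : Bd (d * A) (x.smul d) := hx.smul (Int.natCast_nonneg d)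

@[ext] theorem Q.ext' {x y : Q} (ha : x.a = y.a) (hb : x.b = y.b) (hc : x.c = y.c) (hd : x.d = y.d) (he : x.e = y.e)
    (hf : x.f = y.f) (hg : x.g = y.g) (hh : x.h = y.h) : x = y := by
  cases x; cases y
  simp only at ha hb hc hd he hf hg hh
  subst ha hb hc hd he hf hg hh
  rfl

theorem eq_of_eqs {x y : Q} {r s : R} {d : ℕ} (hx : Rl x r) (hy : Rl y s) (h : R.eqs d r s = true) {A : Int}
    (h1 : Bd A x) (h2 : Bd A (y.smul d)) (hA : 2 * A < MM) : x = y.smul d := by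
  unfold R.eqs at h
  simp only [Bool.and_eq_true] at h
  obtain ⟨ea, eb, ec, ed, ee, ef, eg, eh⟩ := h
  apply Q.ext'
  · exact eq_of_eqm d hx.a hy.a ea h1.a h2.a hA
  · exact eq_of_eqm d hx.b hy.b eb h1.b h2.b hA
  · exact eq_of_eqm d hx.c hy.c ec h1.c h2.c hA
  · exact eq_of_eqm d hx.d hy.d ed h1.d h2.d hA
  · exact eq_of_eqm d hx.e hy.e ee h1.e h2.e hA
  · exact eq_of_eqm d hx.f hy.f ef h1.f h2.f hA
  · exact eq_of_eqm d hx.g hy.g eg h1.g h2.g hA
  · exact eq_of_eqm d hx.h hy.h eh h1.h h2.h hA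

/-- same residues, vectors -/
structure RlV (v : V) (r : RV) : Prop where
  x : Rl v.x r.x
  y : Rl v.y r.y
  z : Rl v.z r.z

/-- small coordinates, vectors -/
structure BdV (B : Int) (v : V) : Prop where
  x : Bd B v.x
  y : Bd B v.y
  z : Bd B v.z

/-- the conjugate vector -/
def V.conj (v : V) : V := ⟨v.x.conj, v.y.conj, v.z.conj⟩
/-- right multiplication -/
def V.mulr (v : V) (u : Q) : V := ⟨v.x.mul u, v.y.mul u, v.z.mul u⟩
/-- scalar multiplication -/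
def V.smul (d : Int) (v : V) : V := ⟨v.x.smul d, v.y.smul d, v.z.smul d⟩

theorem rlV_res (v : V) : RlV v ⟨resQ v.x, resQ v.y, resQ v.z⟩ := ⟨rl_res _, rl_res _, rl_res _⟩

theorem rlV_refl {w v : V} {wc' w' v' : RV} (n : ℕ) (hc : RlV w.conj wc') (hw : RlV w w') (hv : RlV v v') :
    RlV (refl n w v) (reflR n wc' w' v') := by
  have hs := Rl.sum2 (hc.x.mul hv.x) (hc.y.mul hv.y) (hc.z.mul hv.z)
  exact ⟨Rl.msub n hv.x (hw.x.mul hs), Rl.msub n hv.y (hw.y.mul hs), Rl.msub n hv.z (hw.z.mul hs)⟩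

theorem bdV_refl {w v : V} {n : ℕ} (hn : n ≤ 144) (hw : BdV 6 w) (hv : BdV 12 v) : BdV 2000000 (refl n w v) := by
  have h1 : Bd 10368 ((herm w v).smul 2) := by
    have := ((hw.x.conj.mul hv.x).add (hw.y.conj.mul hv.y)).add (hw.z.conj.mul hv.z)
    exact (this.smul (n := 2) (by norm_num)).mono (by norm_num)
  have hn' : (n : Int) ≤ 144 := by exact_mod_cast hn
  have h2 : ∀ {a b : Q}, Bd 6 a → Bd 12 b → Bd 2000000 ((b.smul n).sub (a.mul ((herm w v).smul 2))) := by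
    intro a b ha hb
    exact ((smul_bd (d := n) hb).sub (ha.mul h1)).mono (by linarith)
  exact ⟨h2 hw.x hv.x, h2 hw.y hv.y, h2 hw.z hv.z⟩

theorem eqvK_eq (d : ℕ) (v' : RV) (u : R) (y : RV) : eqvK d v' u y =
    ((v'.x.mul u).eqs d y.x && ((v'.y.mul u).eqs d y.y && (v'.z.mul u).eqs d y.z)) := by
  unfold eqvK
  simp only [mulK_eq]

theorem eqv_sound {d : ℕ} {v v' y y' : _} {u : Q} {u' : R} (hd : d ≤ 12) (h : eqvK d v' u' y' = true)
    (hv : RlV v v') (hy : RlV y y') (hu : Rl u u') (bv : BdV 12 v) (by' : BdV 2000000 y) (bu : Bd 2000000 u) :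
    v.mulr u = y.smul d := by
  rw [eqvK_eq] at h
  simp only [Bool.and_eq_true] at h
  obtain ⟨h1, h2, h3⟩ := h
  have hd' : (d : Int) ≤ 12 := by exact_mod_cast hd
  have key : ∀ {a : Q} {a' : R} {b : Q} {b' : R}, Rl a a' → Bd 12 a → Rl b b' → Bd 2000000 b →
      (a'.mul u').eqs d b' = true → a.mul u = b.smul d := by
    intro a a' b b' ha ba hb bb h
    refine eq_of_eqs (A := 576000000) (ha.mul hu) hb h ((ba.mul bu).mono (by norm_num))
      ((smul_bd (d := d) bb).mono (by linarith)) (by unfold MM; norm_num)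
  unfold V.mulr V.smul
  rw [key hv.x bv.x hy.x by'.x h1, key hv.y bv.y hy.y by'.y h2, key hv.z bv.z hy.z by'.z h3]

theorem okd_iff {d : ℕ} (h : okd d = true) : 1 ≤ d ∧ d ∣ 12 := by
  unfold okd at h
  rw [Bool.and_eq_true] at h
  refine ⟨Nat.le_of_ble_eq_true h.1, Nat.dvd_of_mod_eq_zero ?_⟩
  exact Nat.eq_of_beq_eq_true h.2

/-- the result of a check -/
def Good (n : ℕ) (w v : V) : Prop :=
  ∃ v' ∈ tree.toL, ∃ (d : ℕ) (u : Q), 1 ≤ d ∧ d ∣ 12 ∧ v'.mulr u = (refl n w v).smul d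

theorem chk_sound {n : ℕ} {w v v₂ : V} {wc' w' v' v₂' : RV} (hn : n ≤ 144) (hc : RlV w.conj wc') (hw : RlV w w')
    (hv : RlV v v') (hv₂ : RlV v₂ v₂') (bw : BdV 6 w) (bv : BdV 12 v) (bv₂ : BdV 12 v₂)
    (h : chkK n wc' w' v' v₂' = true) : ∃ (d : ℕ) (u : Q), 1 ≤ d ∧ d ∣ 12 ∧ v₂.mulr u = (refl n w v).smul d := by
  unfold chkK at h
  rw [reflK_eq] at h
  have hr := rlV_refl n hc hw hv
  have br := bdV_refl hn bw bv
  have key : ∀ {d : ℕ} {u : Q} {u' : R}, Rl u u' → Bd 2000000 u → okd d = true →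
      eqvK d v₂' u' (reflR n wc' w' v') = true →
      ∃ (d : ℕ) (u : Q), 1 ≤ d ∧ d ∣ 12 ∧ v₂.mulr u = (refl n w v).smul d := by
    intro d u u' hu bu h1 h2
    obtain ⟨h3, h4⟩ := okd_iff h1
    exact ⟨d, u, h3, h4, eqv_sound (Nat.le_of_dvd (by norm_num) h4) h2 hv₂ hr hu bv₂ br bu⟩
  cases hx : Nat.beq v₂'.x.a 0 with
  | false =>
    rw [hx, cond_false, Bool.and_eq_true] at h
    exact key hr.x br.x h.1 h.2
  | true =>
    rw [hx, cond_true] at h
    cases hy : Nat.beq v₂'.y.a 0 with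
    | false =>
      rw [hy, cond_false, Bool.and_eq_true] at h
      exact key hr.y br.y h.1 h.2
    | true =>
      rw [hy, cond_true, Bool.and_eq_true] at h
      exact key hr.z br.z h.1 h.2

theorem get_mem : ∀ (t : T) (k : ℕ), t.get k ∈ t.toL
  | .l v _, _ => List.mem_singleton.2 rfl
  | .n a b, k => by
    unfold T.get T.toL
    cases Nat.beq (Nat.mod k 2) 0 with
    | false => exact List.mem_append.2 (Or.inr (get_mem b _))
    | true => exact List.mem_append.2 (Or.inl (get_mem a _))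

/-- kernel check of the bounds -/
def bdB : List V → Bool
  | [] => true
  | v :: l => (bq v.x && (bq v.y && bq v.z)) && bdB l
where
  /-- one coordinate -/
  bq (x : Q) : Bool := Nat.ble x.a.natAbs 12 && (Nat.ble x.b.natAbs 12 && (Nat.ble x.c.natAbs 12 &&
    (Nat.ble x.d.natAbs 12 && (Nat.ble x.e.natAbs 12 && (Nat.ble x.f.natAbs 12 && (Nat.ble x.g.natAbs 12 &&
      Nat.ble x.h.natAbs 12))))))

theorem bdB_tree : bdB tree.toL = true := by decide +kernel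

theorem bq_sound {x : Q} (h : bdB.bq x = true) : Bd 12 x := by
  unfold bdB.bq at h
  simp only [Bool.and_eq_true] at h
  obtain ⟨ea, eb, ec, ed, ee, ef, eg, eh⟩ := h
  have key : ∀ {a : Int}, Nat.ble a.natAbs 12 = true → |a| ≤ 12 := by
    intro a h
    have := Nat.le_of_ble_eq_true h
    rw [Int.abs_eq_natAbs]
    exact_mod_cast this
  exact ⟨key ea, key eb, key ec, key ed, key ee, key ef, key eg, key eh⟩

theorem bd_of_mem {l : List V} (h : bdB l = true) {v : V} (hv : v ∈ l) : BdV 12 v := by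
  induction l with
  | nil => simp at hv
  | cons a l ih =>
    unfold bdB at h
    simp only [Bool.and_eq_true] at h
    rcases List.mem_cons.1 hv with h1 | h1
    · subst h1
      exact ⟨bq_sound h.1.1, bq_sound h.1.2.1, bq_sound h.1.2.2⟩
    · exact ih h.2 h1

theorem bd_tree {v : V} (hv : v ∈ tree.toL) : BdV 12 v := bd_of_mem bdB_tree hv

theorem chkT_sound {n : ℕ} {w : V} {wc' w' : RV} {j : ℕ} (hn : n ≤ 144) (hc : RlV w.conj wc') (hw : RlV w w')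
    (bw : BdV 6 w) : ∀ t : T, (∀ v ∈ t.toL, BdV 12 v) → chkT n wc' w' j t = true → ∀ v ∈ t.toL, Good n w v
  | .l v ks => by
    intro hb h v' hv'
    have hv' : v' = v := List.mem_singleton.1 hv'
    subst hv'
    have hb' : BdV 12 v' := hb v' (List.mem_singleton.2 rfl)
    unfold chkT at h
    rw [forceV_eq, forceV_eq] at h
    obtain ⟨d, u, h1⟩ := chk_sound hn hc hw (rlV_res v') (rlV_res (tree.get (ks.getD j 0))) bw hb'
      (bd_tree (get_mem _ _)) h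
    exact ⟨_, get_mem _ _, d, u, h1⟩
  | .n a b => by
    intro hb h v' hv'
    unfold chkT at h
    rw [Bool.and_eq_true] at h
    rcases List.mem_append.1 (show v' ∈ a.toL ++ b.toL from hv') with h1 | h1
    · exact chkT_sound hn hc hw bw a (fun v hv => hb v (List.mem_append.2 (Or.inl hv))) h.1 v' h1
    · exact chkT_sound hn hc hw bw b (fun v hv => hb v (List.mem_append.2 (Or.inr hv))) h.2 v' h1

theorem chkG_sound {n : ℕ} {w : V} {j : ℕ} (hn : n ≤ 144) (bw : BdV 6 w) (h : chkG n w j = true) :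
    ∀ v ∈ tree.toL, Good n w v := by
  unfold chkG at h
  rw [forceV_eq, forceR_eq, forceR_eq, forceR_eq] at h
  have hc : RlV w.conj ⟨(resQ w.x).conj, (resQ w.y).conj, (resQ w.z).conj⟩ :=
    ⟨(rl_res w.x).conj, (rl_res w.y).conj, (rl_res w.z).conj⟩
  exact chkT_sound hn hc (rlV_res w) bw tree (fun v hv => bd_tree hv) h

theorem bd_lit {x : Q} (h : (|x.a| ≤ 6 ∧ |x.b| ≤ 6 ∧ |x.c| ≤ 6 ∧ |x.d| ≤ 6) ∧
    (|x.e| ≤ 6 ∧ |x.f| ≤ 6 ∧ |x.g| ≤ 6 ∧ |x.h| ≤ 6)) : Bd 6 x :=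
  ⟨h.1.1, h.1.2.1, h.1.2.2.1, h.1.2.2.2, h.2.1, h.2.2.1, h.2.2.2.1, h.2.2.2.2⟩

theorem good_g1 : ∀ v ∈ tree.toL, Good 1 w_g1 v :=
  chkG_sound (by norm_num) ⟨bd_lit (by decide), bd_lit (by decide), bd_lit (by decide)⟩ chk_g1
theorem good_g2 : ∀ v ∈ tree.toL, Good 1 w_g2 v :=
  chkG_sound (by norm_num) ⟨bd_lit (by decide), bd_lit (by decide), bd_lit (by decide)⟩ chk_g2
theorem good_g4 : ∀ v ∈ tree.toL, Good 2 w_g4 v :=
  chkG_sound (by norm_num) ⟨bd_lit (by decide), bd_lit (by decide), bd_lit (by decide)⟩ chk_g4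
theorem good_g5 : ∀ v ∈ tree.toL, Good 2 w_g5 v :=
  chkG_sound (by norm_num) ⟨bd_lit (by decide), bd_lit (by decide), bd_lit (by decide)⟩ chk_g5
theorem good_g8 : ∀ v ∈ tree.toL, Good 2 w_g8 v :=
  chkG_sound (by norm_num) ⟨bd_lit (by decide), bd_lit (by decide), bd_lit (by decide)⟩ chk_g8
theorem good_g6 : ∀ v ∈ tree.toL, Good 16 w_g6 v :=
  chkG_sound (by norm_num) ⟨bd_lit (by decide), bd_lit (by decide), bd_lit (by decide)⟩ chk_g6
theorem good_g0 : ∀ v ∈ tree.toL, Good 144 w_g0 v :=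
  chkG_sound (by norm_num) ⟨bd_lit (by decide), bd_lit (by decide), bd_lit (by decide)⟩ chk_g0

theorem length_tree : tree.toL.length = 315 := by decide +kernel

theorem one_mem_tree : (⟨⟨1, 0, 0, 0, 0, 0, 0, 0⟩, ⟨0, 0, 0, 0, 0, 0, 0, 0⟩, ⟨0, 0, 0, 0, 0, 0, 0, 0⟩⟩ : V) ∈
    tree.toL := by
  have h : tree.get 0 = ⟨⟨1, 0, 0, 0, 0, 0, 0, 0⟩, ⟨0, 0, 0, 0, 0, 0, 0, 0⟩, ⟨0, 0, 0, 0, 0, 0, 0, 0⟩⟩ := rfl
  rw [← h]
  exact get_mem _ _

end Cfsg.Agent.H476.JTwo
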