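import Cfsg.Agent.H476.JTwo.Quat
import Cfsg.Agent.H476.JTwo.Sound

/-!
# The root vectors in the ring (helper476, for S5806)
-/

set_option autoImplicit false

namespace Cfsg.Agent.H476.JTwo

universe u v

/-- the quaternion with the given coordinates -/
def quad {F : Type u} [Field F] {R : Type v} [Ring R] [Algebra F R] (ε I J : R) (a b c d : F) : R :=
  a • ε + b • I + c • J + d • (I * J)

/-- evaluation of integral quaternions -/
def ev {F : Type u} [Field F] {R : Type v} [Ring R] [Algebra F R] (τ : F) (ε I J : R) (x : Q) : R :=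
  quad ε I J ((x.a : F) + x.b * τ) ((x.c : F) + x.d * τ) ((x.e : F) + x.f * τ) ((x.g : F) + x.h * τ)

/-- the column of a vector -/
def col {F : Type u} [Field F] {R : Type v} [Ring R] [Algebra F R] (τ : F) (ε p1 p3 I J : R) (v : V) : R :=
  p1 * ev τ ε I J v.x + ev τ ε I J v.y + p3 * ev τ ε I J v.z

/-- the row of a vector -/
def row {F : Type u} [Field F] {R : Type v} [Ring R] [Algebra F R] (τ : F) (ε q1 q3 I J : R) (v : V) : R :=
  ev τ ε I J v.x.conj * q1 + ev τ ε I J v.y.conj + ev τ ε I J v.z.conj * q3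

variable {F : Type u} [Field F] {R : Type v} [Ring R] [Algebra F R] {st : R → R} {ε p1 p3 q1 q3 I J : R}
  (H : Fr st ε p1 p3 q1 q3 I J)

include H

theorem Fr.IJI : I * J * I = J := by
  linear_combination (norm := noncomm_ring) I * H.JI - H.II * J + H.eJ

theorem Fr.IIJ : I * (I * J) = -J := by
  linear_combination (norm := noncomm_ring) H.II * J - H.eJ

theorem Fr.JIJ : J * (I * J) = 3 * I := by
  linear_combination (norm := noncomm_ring) H.JI * J - I * H.JJ + 3 * H.Ie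

theorem Fr.IJJ : I * J * J = -(3 * I) := by
  linear_combination (norm := noncomm_ring) I * H.JJ - 3 * H.Ie

theorem Fr.IJIJ : I * J * (I * J) = -(3 * ε) := by
  linear_combination (norm := noncomm_ring) H.IJI * J + H.JJ

theorem Fr.quad_mul (a b c d a' b' c' d' : F) : quad ε I J a b c d * quad ε I J a' b' c' d' =
    quad ε I J (a * a' - b * b' - 3 * (c * c') - 3 * (d * d')) (a * b' + b * a' + 3 * (c * d') - 3 * (d * c'))
      (a * c' + c * a' - b * d' + d * b') (a * d' + d * a' + b * c' - c * b') := by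
  have e1 : ε * (I * J) = I * J := by rw [← mul_assoc, H.eI]
  have e2 : I * J * ε = I * J := by rw [mul_assoc, H.Je]
  unfold quad
  simp only [add_mul, mul_add, smul_mul_smul_comm, H.ee, H.eI, H.eJ, H.Ie, H.Je, e1, e2, H.II, H.JJ, H.JI, H.IIJ,
    H.JIJ, H.IJI, H.IJJ, H.IJIJ]
  have t1 : (3 : R) * ε = (3 : F) • ε := by rw [← map_ofNat (algebraMap F R) 3, ← Algebra.smul_def]
  have t2 : (3 : R) * I = (3 : F) • I := by rw [← map_ofNat (algebraMap F R) 3, ← Algebra.smul_def]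
  rw [t1, t2]
  module

theorem Fr.ev_mul {τ : F} (hτ : τ * τ = τ + 1) (x y : Q) : ev τ ε I J x * ev τ ε I J y = ev τ ε I J (x.mul y) := by
  unfold ev
  rw [H.quad_mul]
  simp only [Q.mul, Q.p0, Q.p1]
  push_cast
  congr 1
  · linear_combination ((x.b : F) * y.b - x.d * y.d - 3 * (x.f * y.f) - 3 * (x.h * y.h)) * hτ
  · linear_combination ((x.b : F) * y.d + x.d * y.b + 3 * (x.f * y.h) - 3 * (x.h * y.f)) * hτ
  · linear_combination ((x.b : F) * y.f + x.f * y.b - x.d * y.h + x.h * y.d) * hτ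
  · linear_combination ((x.b : F) * y.h + x.h * y.b + x.d * y.f - x.f * y.d) * hτ

omit H in
theorem ev_add (τ : F) (ε I J : R) (x y : Q) : ev τ ε I J (x.add y) = ev τ ε I J x + ev τ ε I J y := by
  unfold ev quad Q.add
  push_cast
  module

omit H in
theorem ev_sub (τ : F) (ε I J : R) (x y : Q) : ev τ ε I J (x.sub y) = ev τ ε I J x - ev τ ε I J y := by
  unfold ev quad Q.sub
  push_cast
  module

omit H in
theorem ev_smul (τ : F) (ε I J : R) (n : Int) (x : Q) : ev τ ε I J (x.smul n) = (n : F) • ev τ ε I J x := by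
  unfold ev quad Q.smul
  push_cast
  module

theorem Fr.e_ev (τ : F) (x : Q) : ε * ev τ ε I J x = ev τ ε I J x := by
  have e1 : ε * (I * J) = I * J := by rw [← mul_assoc, H.eI]
  unfold ev quad
  simp only [mul_add, mul_smul_comm, H.ee, H.eI, H.eJ, e1]

theorem Fr.ev_e (τ : F) (x : Q) : ev τ ε I J x * ε = ev τ ε I J x := by
  have e2 : I * J * ε = I * J := by rw [mul_assoc, H.Je]
  unfold ev quad
  simp only [add_mul, smul_mul_assoc, H.ee, H.Ie, H.Je, e2]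

theorem Fr.q1_ev (τ : F) (x : Q) : q1 * ev τ ε I J x = 0 := by
  rw [← H.e_ev, ← mul_assoc, H.q1e, zero_mul]

theorem Fr.q3_ev (τ : F) (x : Q) : q3 * ev τ ε I J x = 0 := by
  rw [← H.e_ev, ← mul_assoc, H.q3e, zero_mul]

theorem Fr.ev_p1 (τ : F) (x : Q) : ev τ ε I J x * p1 = 0 := by
  rw [← H.ev_e, mul_assoc, H.ep1, mul_zero]

theorem Fr.ev_p3 (τ : F) (x : Q) : ev τ ε I J x * p3 = 0 := by
  rw [← H.ev_e, mul_assoc, H.ep3, mul_zero]

theorem Fr.st_ev (hs : ∀ (c : F) (x : R), st (c • x) = c • st x) (τ : F) (x : Q) :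
    st (ev τ ε I J x) = ev τ ε I J x.conj := by
  have e1 : st (I * J) = -(I * J) := by rw [H.ad.mul, H.sI, H.sJ, neg_mul_neg, H.JI]
  unfold ev quad Q.conj
  simp only [H.ad.add, hs, H.se, H.sI, H.sJ, e1]
  push_cast
  module

theorem Fr.st_col (hs : ∀ (c : F) (x : R), st (c • x) = c • st x) (τ : F) (v : V) :
    st (col τ ε p1 p3 I J v) = row τ ε q1 q3 I J v := by
  unfold col row
  rw [H.ad.add, H.ad.add, H.ad.mul, H.ad.mul, H.s1, H.s3, H.st_ev hs, H.st_ev hs, H.st_ev hs]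

theorem Fr.col_ev {τ : F} (hτ : τ * τ = τ + 1) (v : V) (u : Q) :
    col τ ε p1 p3 I J v * ev τ ε I J u = col τ ε p1 p3 I J (v.mulr u) := by
  unfold col V.mulr
  rw [add_mul, add_mul, mul_assoc, mul_assoc, H.ev_mul hτ, H.ev_mul hτ, H.ev_mul hτ]

theorem Fr.row_col {τ : F} (hτ : τ * τ = τ + 1) (w v : V) :
    row τ ε q1 q3 I J w * col τ ε p1 p3 I J v = ev τ ε I J (herm w v) := by
  unfold row col herm
  rw [ev_add, ev_add, ← H.ev_mul hτ, ← H.ev_mul hτ, ← H.ev_mul hτ]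
  have a1 := H.q1_ev τ v.y
  have a2 := H.q3_ev τ v.y
  have a3 := H.ev_p1 τ w.y.conj
  have a4 := H.ev_p3 τ w.y.conj
  have a5 := H.e_ev τ v.x
  have a6 := H.e_ev τ v.z
  generalize ev τ ε I J w.x.conj = A at *
  generalize ev τ ε I J w.y.conj = B at *
  generalize ev τ ε I J w.z.conj = C at *
  generalize ev τ ε I J v.x = A' at *
  generalize ev τ ε I J v.y = B' at *
  generalize ev τ ε I J v.z = C' at *
  linear_combination (norm := noncomm_ring) A * H.q11 * A' + A * a5 + A * a1 + A * H.q13 * C' + a3 * A' + a4 * C' +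
    C * H.q31 * A' + C * a2 + C * H.q33 * C' + C * a6

theorem Fr.col_e (τ : F) (v : V) : col τ ε p1 p3 I J v * ε = col τ ε p1 p3 I J v := by
  unfold col
  rw [add_mul, add_mul, mul_assoc, mul_assoc, H.ev_e, H.ev_e, H.ev_e]

omit H in
theorem col_smul (τ : F) (ε p1 p3 I J : R) (n : Int) (v : V) :
    col τ ε p1 p3 I J (v.smul n) = (n : F) • col τ ε p1 p3 I J v := by
  unfold col V.smul
  simp only [ev_smul, mul_smul_comm, smul_add]

omit H in
theorem col_refl_aux (τ : F) (ε p1 p3 I J : R) (n : Int) (w v : V) (u : Q) :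
    col τ ε p1 p3 I J ⟨(v.x.smul n).sub (w.x.mul u), (v.y.smul n).sub (w.y.mul u), (v.z.smul n).sub (w.z.mul u)⟩ =
      (n : F) • col τ ε p1 p3 I J v - col τ ε p1 p3 I J (w.mulr u) := by
  unfold col V.mulr
  simp only [ev_sub, ev_smul, mul_sub, mul_smul_comm, smul_add]
  abel

theorem Fr.refl_col {τ : F} (hτ : τ * τ = τ + 1) (n : ℕ) (w v : V) {e : R}
    (he : (n : F) • e = col τ ε p1 p3 I J w * row τ ε q1 q3 I J w) :
    (n : F) • ((1 - 2 * e) * col τ ε p1 p3 I J v) = col τ ε p1 p3 I J (refl n w v) := by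
  have h1 : (n : F) • ((1 - 2 * e) * col τ ε p1 p3 I J v) = (n : F) • col τ ε p1 p3 I J v -
      2 * ((n : F) • e * col τ ε p1 p3 I J v) := by
    rw [sub_mul, one_mul, smul_sub, mul_assoc, smul_mul_assoc, mul_smul_comm]
  rw [h1, he, mul_assoc, H.row_col hτ]
  unfold refl
  rw [col_refl_aux, ← H.col_ev hτ, ev_smul, Int.cast_natCast]
  congr 1
  rw [mul_smul_comm, Int.cast_ofNat, ofNat_smul_eq_nsmul, nsmul_eq_mul]
  rfl

/-- the property of the group -/
def Tp (τ : F) (ε p1 p3 I J : R) (g : R) : Prop :=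
  ∀ v ∈ tree.toL, ∃ v' ∈ tree.toL, ∃ u : R, g * col τ ε p1 p3 I J v = col τ ε p1 p3 I J v' * u

omit H in
theorem Tp.mul {τ : F} {ε p1 p3 I J g g' : R} (h : Tp τ ε p1 p3 I J g) (h' : Tp τ ε p1 p3 I J g') :
    Tp τ ε p1 p3 I J (g * g') := by
  intro v hv
  obtain ⟨v', hv', u, hu⟩ := h' v hv
  obtain ⟨v₂, hv₂, u', hu'⟩ := h v' hv'
  refine ⟨v₂, hv₂, u' * u, ?_⟩
  rw [mul_assoc, hu, ← mul_assoc, hu', mul_assoc]

omit H in
theorem Tp.one (τ : F) (ε p1 p3 I J : R) : Tp τ ε p1 p3 I J (1 : R) := fun v hv => ⟨v, hv, 1, by rw [one_mul, mul_one]⟩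

omit H in
theorem Tp.neg_one (τ : F) (ε p1 p3 I J : R) : Tp τ ε p1 p3 I J (-1 : R) :=
  fun v hv => ⟨v, hv, -1, by rw [neg_one_mul, mul_neg_one]⟩

theorem Fr.tp {τ : F} (hτ : τ * τ = τ + 1) {n : ℕ} {w : V} (hg : ∀ v ∈ tree.toL, Good n w v) {e : R}
    (he : (n : F) • e = col τ ε p1 p3 I J w * row τ ε q1 q3 I J w) (hn : (n : F) ≠ 0) (h12 : (12 : F) ≠ 0) :
    Tp τ ε p1 p3 I J (1 - 2 * e) := by
  intro v hv
  obtain ⟨v', hv', d, u, -, hd, h⟩ := hg v hv
  have hd0 : (d : F) ≠ 0 := by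
    intro h0
    obtain ⟨k, hk⟩ := hd
    apply h12
    have h1 : ((12 : ℕ) : F) = d * k := by rw [hk, Nat.cast_mul]
    rw [h0, zero_mul] at h1
    exact_mod_cast h1
  refine ⟨v', hv', ((d : F) * n)⁻¹ • ev τ ε I J u, ?_⟩
  have h1 := H.refl_col hτ n w v he
  have h2 : col τ ε p1 p3 I J v' * ev τ ε I J u = (d : F) • ((n : F) • ((1 - 2 * e) * col τ ε p1 p3 I J v)) := by
    rw [H.col_ev hτ, h, h1, col_smul, Int.cast_natCast]
  rw [mul_smul_comm, h2, smul_smul, smul_smul, mul_assoc, inv_mul_cancel₀ (mul_ne_zero hd0 hn), one_smul]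

/-! ### special values -/

omit H in
theorem ev_zero (τ : F) (ε I J : R) : ev τ ε I J ⟨0, 0, 0, 0, 0, 0, 0, 0⟩ = 0 := by
  unfold ev quad
  simp

omit H in
theorem ev_one (τ : F) (ε I J : R) : ev τ ε I J ⟨1, 0, 0, 0, 0, 0, 0, 0⟩ = ε := by
  unfold ev quad
  simp

omit H in
theorem ev_int (τ : F) (ε I J : R) (n : Int) : ev τ ε I J ⟨n, 0, 0, 0, 0, 0, 0, 0⟩ = (n : F) • ε := by
  unfold ev quad
  simp

omit H in
theorem ev_i (τ : F) (ε I J : R) : ev τ ε I J ⟨0, 0, 1, 0, 0, 0, 0, 0⟩ = I := by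
  unfold ev quad
  simp

omit H in
theorem ev_1111 (τ : F) (ε I J : R) : ev τ ε I J ⟨1, 0, 1, 0, 1, 0, 1, 0⟩ = ε + I + J + I * J := by
  unfold ev quad
  simp

omit H in
theorem conj_mk (a b c d e f g h : Int) : Q.conj ⟨a, b, c, d, e, f, g, h⟩ = ⟨a, b, -c, -d, -e, -f, -g, -h⟩ := rfl

omit H in
theorem ev_i' (τ : F) (ε I J : R) : ev τ ε I J ⟨0, 0, -1, 0, 0, 0, 0, 0⟩ = -I := by
  unfold ev quad
  simp

omit H in
theorem ev_1111' (τ : F) (ε I J : R) : ev τ ε I J ⟨1, 0, -1, 0, -1, 0, -1, 0⟩ = ε - I - J - I * J := by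
  unfold ev quad
  simp [sub_eq_add_neg]

theorem Fr.col_g1 (τ : F) : col τ ε p1 p3 I J w_g1 = p1 := by
  unfold col w_g1
  simp only [ev_one, ev_zero, mul_zero, add_zero, H.p1e]

theorem Fr.row_g1 (τ : F) : row τ ε q1 q3 I J w_g1 = q1 := by
  unfold row w_g1
  simp only [conj_mk, neg_zero, ev_one, ev_zero, zero_mul, add_zero, H.eq1]

theorem Fr.col_g2 (τ : F) : col τ ε p1 p3 I J w_g2 = ε := by
  unfold col w_g2
  simp only [ev_one, ev_zero, mul_zero, add_zero, zero_add]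

theorem Fr.row_g2 (τ : F) : row τ ε q1 q3 I J w_g2 = ε := by
  unfold row w_g2
  simp only [conj_mk, neg_zero, ev_one, ev_zero, zero_mul, add_zero, zero_add]

theorem Fr.col_g4 (τ : F) : col τ ε p1 p3 I J w_g4 = ε + p3 := by
  unfold col w_g4
  simp only [ev_one, ev_zero, mul_zero, zero_add, H.p3e]

theorem Fr.row_g4 (τ : F) : row τ ε q1 q3 I J w_g4 = ε + q3 := by
  unfold row w_g4
  simp only [conj_mk, neg_zero, ev_one, ev_zero, zero_mul, zero_add, H.eq3]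

theorem Fr.col_g5 (τ : F) : col τ ε p1 p3 I J w_g5 = p1 + ε := by
  unfold col w_g5
  simp only [ev_one, ev_zero, mul_zero, add_zero, H.p1e]

theorem Fr.row_g5 (τ : F) : row τ ε q1 q3 I J w_g5 = q1 + ε := by
  unfold row w_g5
  simp only [conj_mk, neg_zero, ev_one, ev_zero, zero_mul, add_zero, H.eq1]

theorem Fr.col_g8 (τ : F) : col τ ε p1 p3 I J w_g8 = ε + p3 * I := by
  unfold col w_g8
  simp only [ev_one, ev_zero, ev_i, mul_zero, zero_add]

theorem Fr.row_g8 (τ : F) : row τ ε q1 q3 I J w_g8 = ε - I * q3 := by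
  unfold row w_g8
  simp only [conj_mk, neg_zero, ev_one, ev_zero, ev_i', zero_mul, zero_add, neg_mul, sub_eq_add_neg]

theorem Fr.col_g6 (τ : F) : col τ ε p1 p3 I J w_g6 = p1 * (ε + I + J + I * J) + 2 * ε + 2 * p3 := by
  have h2 : ev τ ε I J ⟨2, 0, 0, 0, 0, 0, 0, 0⟩ = 2 * ε := by
    rw [ev_int, Int.cast_ofNat, ofNat_smul_eq_nsmul, nsmul_eq_mul]; rfl
  unfold col w_g6
  simp only [ev_1111, h2]
  linear_combination (norm := noncomm_ring) 2 * H.p3e

theorem Fr.row_g6 (τ : F) : row τ ε q1 q3 I J w_g6 = (ε - I - J - I * J) * q1 + 2 * ε + 2 * q3 := by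
  have h2 : ev τ ε I J ⟨2, 0, 0, 0, 0, 0, 0, 0⟩ = 2 * ε := by
    rw [ev_int, Int.cast_ofNat, ofNat_smul_eq_nsmul, nsmul_eq_mul]; rfl
  unfold row w_g6
  simp only [conj_mk, neg_zero, ev_1111', h2]
  linear_combination (norm := noncomm_ring) 2 * H.eq3

/-! ### the extra reflection -/

omit H in
theorem herm_g0 : herm w_g0 w_g0 = ⟨144, 0, 0, 0, 0, 0, 0, 0⟩ := by
  apply Q.ext' <;> decide

theorem Fr.row_col_g0 {τ : F} (hτ : τ * τ = τ + 1) :
    row τ ε q1 q3 I J w_g0 * col τ ε p1 p3 I J w_g0 = (144 : F) • ε := by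
  rw [H.row_col hτ, herm_g0, ev_int]
  norm_num

omit H in
theorem yy_g0 : w_g0.y.mul w_g0.y.conj = ⟨36, 36, 0, 0, 0, 0, 0, 0⟩ := by
  apply Q.ext' <;> decide

omit H in
theorem yy_g0' : w_g0.y.conj.mul w_g0.y = ⟨36, 36, 0, 0, 0, 0, 0, 0⟩ := by
  apply Q.ext' <;> decide

end Cfsg.Agent.H476.JTwo
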