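import Cfsg.Agent.H476.JTwo.Col

/-!
# The extra reflection (helper476, for S5806)
-/

set_option autoImplicit false

namespace Cfsg.Agent.H476.JTwo

universe u v

variable {F : Type u} [Field F] {R : Type v} [Ring R] [Algebra F R]

theorem five {τ : F} (hτ : τ * τ = τ + 1) {e f : R} (he : e * e = e) (hf : f * f = f)
    (h1 : (4 : F) • (e * f * e) = (τ + 1) • e) (h2 : (4 : F) • (f * e * f) = (τ + 1) • f) :
    ((1 - 2 * e) * (1 - 2 * f)) ^ 5 = 1 := by
  have two : ∀ x : R, 2 * x = (2 : F) • x := fun x => by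
    rw [ofNat_smul_eq_nsmul, nsmul_eq_mul]; rfl
  have four : ∀ x : R, 4 * x = (4 : F) • x := fun x => by
    rw [ofNat_smul_eq_nsmul, nsmul_eq_mul]; rfl
  have rr : (1 - 2 * e) * (1 - 2 * e) = 1 := by linear_combination (norm := noncomm_ring) 4 * he
  have qq : (1 - 2 * f) * (1 - 2 * f) = 1 := by linear_combination (norm := noncomm_ring) 4 * hf
  have a : (1 - 2 * e) * (1 - 2 * f) * e = τ • e - (2 : F) • (f * e) := by
    have : (1 - 2 * e) * (1 - 2 * f) * e = e - 2 * e - 2 * (f * e) + 4 * (e * f * e) := by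
      linear_combination (norm := noncomm_ring) -2 * he
    rw [this, four, h1, two, two]
    module
  have b : e * (1 - 2 * f) * (1 - 2 * e) = τ • e - (2 : F) • (e * f) := by
    have : e * (1 - 2 * f) * (1 - 2 * e) = e - 2 * e - 2 * (e * f) + 4 * (e * f * e) := by
      linear_combination (norm := noncomm_ring) -2 * he
    rw [this, four, h1, two, two]
    module
  have c : (1 - 2 * f) * (1 - 2 * e) * f = τ • f - (2 : F) • (e * f) := by
    have : (1 - 2 * f) * (1 - 2 * e) * f = f - 2 * f - 2 * (e * f) + 4 * (f * e * f) := by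
      linear_combination (norm := noncomm_ring) -2 * hf
    rw [this, four, h2, two, two]
    module
  have d : f * (1 - 2 * e) * (1 - 2 * f) = τ • f - (2 : F) • (f * e) := by
    have : f * (1 - 2 * e) * (1 - 2 * f) = f - 2 * f - 2 * (f * e) + 4 * (f * e * f) := by
      linear_combination (norm := noncomm_ring) -2 * hf
    rw [this, four, h2, two, two]
    module
  have m1 : f * e * e = f * e := by rw [mul_assoc, he]
  have m2 : e * (e * f) = e * f := by rw [← mul_assoc, he]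
  have m3 : f * e * (e * f) = f * e * f := by rw [← mul_assoc, m1]
  have m4 : e * f * f = e * f := by rw [mul_assoc, hf]
  have m5 : f * (f * e) = f * e := by rw [← mul_assoc, hf]
  have m6 : e * f * (f * e) = e * f * e := by rw [← mul_assoc, m4]
  have key : (1 - 2 * e) * (1 - 2 * f) * e * (e * (1 - 2 * f) * (1 - 2 * e)) =
      (1 - 2 * f) * (1 - 2 * e) * f * (f * (1 - 2 * e) * (1 - 2 * f)) := by
    rw [a, b, c, d]
    simp only [sub_mul, mul_sub, smul_mul_smul_comm, he, hf, m1, m2, m3, m4, m5, m6]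
    have n1 : ((2 : F) * 2) • (f * e * f) = (τ + 1) • f := by rw [← h2]; norm_num
    have n2 : ((2 : F) * 2) • (e * f * e) = (τ + 1) • e := by rw [← h1]; norm_num
    rw [n1, n2, hτ]
    module
  have k1 : (1 - 2 * e) * (1 - 2 * f) * (1 - 2 * e) * (1 - 2 * f) * (1 - 2 * e) =
      1 - 2 * ((1 - 2 * e) * (1 - 2 * f) * e * (e * (1 - 2 * f) * (1 - 2 * e))) := by
    generalize hq : 1 - 2 * f = q at *
    have : (1 - 2 * e) * q * (1 - 2 * e) * q * (1 - 2 * e) =
        (1 - 2 * e) * (q * q) * (1 - 2 * e) - 2 * ((1 - 2 * e) * q * e * q * (1 - 2 * e)) := by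
      noncomm_ring
    rw [this, qq, mul_one, rr]
    linear_combination (norm := noncomm_ring) 2 * (1 - 2 * e) * q * he * q * (1 - 2 * e)
  have k2 : (1 - 2 * f) * (1 - 2 * e) * (1 - 2 * f) * (1 - 2 * e) * (1 - 2 * f) =
      1 - 2 * ((1 - 2 * f) * (1 - 2 * e) * f * (f * (1 - 2 * e) * (1 - 2 * f))) := by
    generalize hr : 1 - 2 * e = r at *
    have : (1 - 2 * f) * r * (1 - 2 * f) * r * (1 - 2 * f) =
        (1 - 2 * f) * (r * r) * (1 - 2 * f) - 2 * ((1 - 2 * f) * r * f * r * (1 - 2 * f)) := by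
      noncomm_ring
    rw [this, rr, mul_one, qq]
    linear_combination (norm := noncomm_ring) 2 * (1 - 2 * f) * r * hf * r * (1 - 2 * f)
  have k3 : (1 - 2 * e) * (1 - 2 * f) * (1 - 2 * e) * (1 - 2 * f) * (1 - 2 * e) =
      (1 - 2 * f) * (1 - 2 * e) * (1 - 2 * f) * (1 - 2 * e) * (1 - 2 * f) := by
    rw [k1, k2, key]
  generalize 1 - 2 * e = r at *
  generalize 1 - 2 * f = q at *
  have h5 : (r * q) ^ 5 = (r * q * r * q * r) * (q * r * q * r * q) := by
    simp only [pow_succ, pow_zero, one_mul, mul_assoc]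
  rw [h5, ← k3]
  calc r * q * r * q * r * (r * q * r * q * r) = r * q * r * q * (r * r) * q * r * q * r := by
        simp only [mul_assoc]
    _ = r * q * r * (q * q) * r * q * r := by rw [rr, mul_one]; simp only [mul_assoc]
    _ = r * q * (r * r) * q * r := by rw [qq, mul_one]; simp only [mul_assoc]
    _ = r * (q * q) * r := by rw [rr, mul_one]; simp only [mul_assoc]
    _ = 1 := by rw [qq, mul_one, rr]

/-- the idempotent of the extra reflection -/
def e0 (τ : F) (ε p1 p3 q1 q3 I J : R) : R :=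
  (144 : F)⁻¹ • (col τ ε p1 p3 I J w_g0 * row τ ε q1 q3 I J w_g0)

variable {st : R → R} {ε p1 p3 q1 q3 I J : R} (H : Fr st ε p1 p3 q1 q3 I J) {τ : F} (hτ : τ * τ = τ + 1)
  (h144 : (144 : F) ≠ 0)

theorem e0_eq (h144 : (144 : F) ≠ 0) : ((144 : ℕ) : F) • e0 τ ε p1 p3 q1 q3 I J =
    col τ ε p1 p3 I J w_g0 * row τ ε q1 q3 I J w_g0 := by
  unfold e0
  rw [smul_smul, Nat.cast_ofNat, mul_inv_cancel₀ h144, one_smul]

include H hτ h144

theorem Fr.e0_sq : e0 τ ε p1 p3 q1 q3 I J * e0 τ ε p1 p3 q1 q3 I J = e0 τ ε p1 p3 q1 q3 I J := by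
  unfold e0
  rw [smul_mul_smul_comm, mul_assoc, ← mul_assoc (row τ ε q1 q3 I J w_g0), H.row_col_g0 hτ, smul_mul_assoc,
    mul_smul_comm, ← mul_assoc, H.col_e, smul_smul]
  congr 1
  field_simp

omit hτ h144 in
theorem Fr.st_e0 (hs : ∀ (c : F) (x : R), st (c • x) = c • st x) :
    st (e0 τ ε p1 p3 q1 q3 I J) = e0 τ ε p1 p3 q1 q3 I J := by
  unfold e0
  rw [hs, H.ad.mul, ← H.st_col hs, H.ad.st_st]

omit h144 in
theorem Fr.eps_e0 : ε * (col τ ε p1 p3 I J w_g0 * row τ ε q1 q3 I J w_g0) * ε = (36 * (τ + 1)) • ε := by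
  have h1 : ε * col τ ε p1 p3 I J w_g0 = ev τ ε I J w_g0.y := by
    unfold col
    rw [mul_add, mul_add, ← mul_assoc, ← mul_assoc, H.ep1, H.ep3, H.e_ev, zero_mul, zero_mul, zero_add, add_zero]
  have h2 : row τ ε q1 q3 I J w_g0 * ε = ev τ ε I J w_g0.y.conj := by
    unfold row
    rw [add_mul, add_mul, mul_assoc, mul_assoc, H.q1e, H.q3e, H.ev_e, mul_zero, mul_zero, zero_add, add_zero]
  rw [← mul_assoc, h1, mul_assoc, h2, H.ev_mul hτ, yy_g0]
  unfold ev quad
  simp only [Int.cast_ofNat, Int.cast_zero, zero_mul, add_zero, zero_smul]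
  congr 1
  ring

omit h144 in
theorem Fr.row_eps_col : row τ ε q1 q3 I J w_g0 * ε * col τ ε p1 p3 I J w_g0 = (36 * (τ + 1)) • ε := by
  have h1 : ε * col τ ε p1 p3 I J w_g0 = ev τ ε I J w_g0.y := by
    unfold col
    rw [mul_add, mul_add, ← mul_assoc, ← mul_assoc, H.ep1, H.ep3, H.e_ev, zero_mul, zero_mul, zero_add, add_zero]
  have h2 : row τ ε q1 q3 I J w_g0 * ε = ev τ ε I J w_g0.y.conj := by
    unfold row
    rw [add_mul, add_mul, mul_assoc, mul_assoc, H.q1e, H.q3e, H.ev_e, mul_zero, mul_zero, zero_add, add_zero]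
  have h3 : row τ ε q1 q3 I J w_g0 * ε * col τ ε p1 p3 I J w_g0 =
      row τ ε q1 q3 I J w_g0 * ε * (ε * col τ ε p1 p3 I J w_g0) := by
    rw [mul_assoc, mul_assoc, ← mul_assoc ε ε, H.ee]
  rw [h3, h1, h2, H.ev_mul hτ, yy_g0']
  unfold ev quad
  simp only [Int.cast_ofNat, Int.cast_zero, zero_mul, add_zero, zero_smul]
  congr 1
  ring

theorem Fr.four_a : (4 : F) • (ε * e0 τ ε p1 p3 q1 q3 I J * ε) = (τ + 1) • ε := by
  unfold e0
  rw [mul_smul_comm, smul_mul_assoc, H.eps_e0 hτ, smul_smul, smul_smul]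
  congr 1
  field_simp
  ring

theorem Fr.four_b : (4 : F) • (e0 τ ε p1 p3 q1 q3 I J * ε * e0 τ ε p1 p3 q1 q3 I J) =
    (τ + 1) • e0 τ ε p1 p3 q1 q3 I J := by
  have h1 : col τ ε p1 p3 I J w_g0 * row τ ε q1 q3 I J w_g0 * ε * (col τ ε p1 p3 I J w_g0 * row τ ε q1 q3 I J w_g0) =
      (36 * (τ + 1)) • (col τ ε p1 p3 I J w_g0 * row τ ε q1 q3 I J w_g0) := by
    have h2 : col τ ε p1 p3 I J w_g0 * row τ ε q1 q3 I J w_g0 * ε * (col τ ε p1 p3 I J w_g0 * row τ ε q1 q3 I J w_g0) =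
        col τ ε p1 p3 I J w_g0 * (row τ ε q1 q3 I J w_g0 * ε * col τ ε p1 p3 I J w_g0) * row τ ε q1 q3 I J w_g0 := by
      simp only [mul_assoc]
    rw [h2, H.row_eps_col hτ, mul_smul_comm, H.col_e, smul_mul_assoc]
  unfold e0
  rw [smul_mul_assoc, smul_mul_smul_comm, h1, smul_smul, smul_smul, smul_smul]
  congr 1
  field_simp
  ring

/-- the product of the extra reflection and `r2` has order five -/
theorem Fr.pow_five : ((1 - 2 * e0 τ ε p1 p3 q1 q3 I J) * (1 - 2 * ε)) ^ 5 = 1 :=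
  five hτ (H.e0_sq hτ h144) H.ee (H.four_b hτ h144) (H.four_a hτ h144)

theorem Fr.e0_ne (hε : ε ≠ 0) : e0 τ ε p1 p3 q1 q3 I J ≠ ε := by
  intro h
  have h1 : q1 * col τ ε p1 p3 I J w_g0 = (6 : F) • ε := by
    unfold col
    rw [mul_add, mul_add, ← mul_assoc, ← mul_assoc, H.q11, H.q13, H.q1_ev, zero_mul, add_zero, add_zero, H.e_ev]
    unfold w_g0
    simp only [ev_int, Int.cast_ofNat]
  have h2 : row τ ε q1 q3 I J w_g0 * p1 = (6 : F) • ε := by
    unfold row
    rw [add_mul, add_mul, mul_assoc, mul_assoc, H.q11, H.q31, H.ev_p1, mul_zero, add_zero, add_zero, H.ev_e]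
    unfold w_g0
    simp only [conj_mk, neg_zero, ev_int, Int.cast_ofNat]
  have h3 : q1 * (col τ ε p1 p3 I J w_g0 * row τ ε q1 q3 I J w_g0) * p1 = (36 : F) • ε := by
    rw [← mul_assoc, h1, mul_assoc, h2, smul_mul_smul_comm, H.ee]
    norm_num
  rw [← e0_eq h144, h, mul_smul_comm, H.q1e, smul_zero, zero_mul] at h3
  have h36 : (36 : F) ≠ 0 := by
    intro h0
    apply h144
    linear_combination 4 * h0
  exact (smul_ne_zero h36 hε) h3.symm

end Cfsg.Agent.H476.JTwo
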