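import Cfsg.Agent.H476.JTwo.Alg

/-!
# From the relations to the frame (helper476, for S5806)
-/

set_option autoImplicit false

namespace Cfsg.Agent.H476.JTwo

theorem sandwich {R : Type*} [Ring R] (tw : ∀ x y : R, 2 * x = 2 * y → x = y) {c ct f g ε : R} (hc : ct * c = 2 * ε)
    (h1 : ε * ct = ct) (h2 : c * ε = c) (hee : ε * ε = ε) (hf : 2 * f = c * ct) (h : 2 * (f * g * f) = f) :
    ct * g * c = ε := by
  have h' : 2 * ((c * ct) * g * (c * ct)) = 2 * (c * ct) := by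
    rw [← hf]
    linear_combination (norm := noncomm_ring) 4 * h
  have h'' : 2 * ((ct * c) * ct * g * c * (ct * c)) = 2 * ((ct * c) * (ct * c)) := by
    linear_combination (norm := noncomm_ring) ct * h' * c
  rw [hc] at h''
  apply tw
  apply tw
  apply tw
  linear_combination (norm := noncomm_ring) h'' - 8 * h1 * g * c - 8 * ε * ct * g * h2 + 8 * hee

theorem sandwich4 {R : Type*} [Ring R] (tw : ∀ x y : R, 2 * x = 2 * y → x = y) {c ct f g ε : R} (hc : ct * c = 2 * ε)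
    (h1 : ε * ct = ct) (h2 : c * ε = c) (hee : ε * ε = ε) (hf : 2 * f = c * ct) (h : 4 * (f * g * f) = f) :
    2 * (ct * g * c) = ε := by
  have := sandwich tw hc h1 h2 hee hf (g := 2 * g) (by linear_combination (norm := noncomm_ring) h)
  linear_combination (norm := noncomm_ring) this

/-- the first vector of the frame -/
def fp1 {R : Type*} [Ring R] (e1 e2 e5 : R) : R := 2 * (e1 * e5 * e2)
/-- the third vector of the frame -/
def fp3 {R : Type*} [Ring R] (e2 e3 e4 : R) : R := 2 * (e3 * e4 * e2)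
/-- the first covector of the frame -/
def fq1 {R : Type*} [Ring R] (e1 e2 e5 : R) : R := 2 * (e2 * e5 * e1)
/-- the third covector of the frame -/
def fq3 {R : Type*} [Ring R] (e2 e3 e4 : R) : R := 2 * (e2 * e4 * e3)

namespace Rels

variable {R : Type*} [Ring R] {st : R → R} {e1 e2 e3 e4 e5 e6 e8 : R} (H : Rels st e1 e2 e3 e4 e5 e6 e8)
include H

theorem frm : Frm st e2 (fp1 e1 e2 e5) (fp3 e2 e3 e4) (fq1 e1 e2 e5) (fq3 e2 e3 e4) e8 e6 where
  tw := H.tw
  ad := H.ad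
  ee := H.i2
  se := H.s2
  s1 := H.st_p.1
  s3 := H.st_p.2
  p1e := by unfold fp1; linear_combination (norm := noncomm_ring) 2 * e1 * e5 * H.i2
  p3e := by unfold fp3; linear_combination (norm := noncomm_ring) 2 * e3 * e4 * H.i2
  eq1 := by unfold fq1; linear_combination (norm := noncomm_ring) 2 * H.i2 * e5 * e1
  eq3 := by unfold fq3; linear_combination (norm := noncomm_ring) 2 * H.i2 * e4 * e3
  q11 := H.q1p1
  q33 := H.q3p3
  q13 := H.q1p3
  q31 := H.q3p1
  q1e := H.q1p2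
  ep1 := H.q2p1
  q3e := H.q3p2
  ep3 := H.q2p3
  sum := by
    have h1 := H.p1q1
    have h3 := H.p3q3
    unfold fp1 fp3 fq1 fq3
    linear_combination (norm := noncomm_ring) h1 + h3 + H.sum
  i8 := H.i8
  i6 := H.i6
  s8 := H.s8
  s6 := H.s6
  z8 := by unfold fp1; linear_combination (norm := noncomm_ring) 2 * H.z81 * e5 * e2
  h28 := H.h28
  h38 := by
    unfold fq3 fp3
    linear_combination (norm := noncomm_ring) 4 * (e2 * e4) * H.h38 * (e4 * e2) + 2 * e2 * H.h43 * e2 + H.h24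
  h83 := by
    have h3 := H.p3q3
    unfold fq3 fp3
    linear_combination (norm := noncomm_ring) 2 * e8 * h3 * e8 + H.h83
  h48 := by
    have hq := H.q3p3
    have ha := H.q3p2
    have hb := H.q2p3
    refine sandwich H.tw (f := e4) ?_ ?_ ?_ H.i2 H.form4 H.h48
    · unfold fp3 fq3
      linear_combination (norm := noncomm_ring) hq + ha + hb + H.i2
    · unfold fq3
      linear_combination (norm := noncomm_ring) H.i2 + 2 * H.i2 * (e4 * e3)
    · unfold fp3
      linear_combination (norm := noncomm_ring) H.i2 + 2 * (e3 * e4) * H.i2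
  h16 := by
    unfold fq1 fp1
    linear_combination (norm := noncomm_ring) 4 * (e2 * e5) * H.h16 * (e5 * e2) + 2 * e2 * H.h51 * e2 + H.h25
  h26 := H.h26
  z6 := by
    have hq := H.q3p3
    have ha := H.q3p2
    have hb := H.q2p3
    have h4 : 2 * e4 * (e2 + 2 * (e3 * e4 * e2)) = 2 * (e2 + 2 * (e3 * e4 * e2)) := by
      rw [H.form4]
      linear_combination (norm := noncomm_ring) (e2 + 2 * (e3 * e4 * e2)) * (hq + ha + hb + H.i2) + 2 * H.i2 +
        4 * (e3 * e4) * H.i2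
    have hr : (1 - 2 * e3) * (1 - 2 * e3) = 1 := by linear_combination (norm := noncomm_ring) 4 * H.i3
    have h5 : e6 * (1 - 2 * e3) * (e2 + 2 * (e3 * e4 * e2)) = 0 := by
      apply H.tw
      linear_combination (norm := noncomm_ring) -e6 * (1 - 2 * e3) * h4 - 2 * e6 * (1 - 2 * e3) * e4 * hr * (e2 + 2 * (e3 * e4 * e2)) +
        2 * H.z64 * (1 - 2 * e3) * (e2 + 2 * (e3 * e4 * e2))
    unfold fp3
    linear_combination (norm := noncomm_ring) -h5 - 2 * e6 * H.z32 - 4 * e6 * H.i3 * e4 * e2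
  h56 := by
    have hq := H.q1p1
    have ha := H.q1p2
    have hb := H.q2p1
    refine sandwich H.tw (f := e5) ?_ ?_ ?_ H.i2 H.form5 H.h56
    · unfold fp1 fq1
      linear_combination (norm := noncomm_ring) hq + ha + hb + H.i2
    · unfold fq1
      linear_combination (norm := noncomm_ring) H.i2 + 2 * H.i2 * (e5 * e1)
    · unfold fp1
      linear_combination (norm := noncomm_ring) H.i2 + 2 * (e1 * e5) * H.i2

theorem e1_eq : e1 = fp1 e1 e2 e5 * fq1 e1 e2 e5 := H.p1q1.symm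

theorem e3_eq : e3 = fp3 e2 e3 e4 * fq3 e2 e3 e4 := H.p3q3.symm

theorem e4_eq : 2 * e4 = (e2 + fp3 e2 e3 e4) * (e2 + fq3 e2 e3 e4) := H.form4

theorem e5_eq : 2 * e5 = (fp1 e1 e2 e5 + e2) * (fq1 e1 e2 e5 + e2) := H.form5

end Rels

namespace Frm

variable {R : Type*} [Ring R] {st : R → R} {ε p1 p3 q1 q3 e8 e6 : R} (H : Frm st ε p1 p3 q1 q3 e8 e6)
include H

/-- the vector of the ninth reflection -/
theorem col9 {e3 e4 : R} (h3 : e3 = p3 * q3) (h4 : 2 * e4 = (ε + p3) * (ε + q3)) :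
    (1 - 2 * e8) * (1 - 2 * e3) * (1 - 2 * e4) * (p1 + ε) = p1 + qI ε p3 e8 := by
  have h8 := H.form8
  have a1 : (1 - 2 * e4) * (p1 + ε) = p1 - p3 := by
    rw [h4]
    linear_combination (norm := noncomm_ring) -(ε + p3) * (H.ep1 + H.ee + H.q31 + H.q3e) - H.ee - H.p3e
  have a2 : (1 - 2 * e3) * (p1 - p3) = p1 + p3 := by
    rw [h3]
    linear_combination (norm := noncomm_ring) -2 * p3 * H.q31 + 2 * p3 * H.q33 + 2 * H.p3e
  have a3 : (1 - 2 * e8) * (p1 + p3) = p1 + qI ε p3 e8 := by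
    rw [h8]
    linear_combination (norm := noncomm_ring) -(ε + p3 * qI ε p3 e8) * (H.ep1 + H.ep3 - qI ε p3 e8 * H.q31 - qI ε p3 e8 * H.q33 - H.Ie) +
      H.eI + p3 * H.II - H.p3e
  rw [mul_assoc, mul_assoc, a1, a2, a3]

/-- the covector of the ninth reflection -/
theorem row9 {e3 e4 : R} (h3 : e3 = p3 * q3) (h4 : 2 * e4 = (ε + p3) * (ε + q3)) :
    (q1 + ε) * (1 - 2 * e4) * (1 - 2 * e3) * (1 - 2 * e8) = q1 - qI ε p3 e8 := by
  have h8 := H.form8
  have a1 : (q1 + ε) * (1 - 2 * e4) = q1 - q3 := by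
    rw [h4]
    linear_combination (norm := noncomm_ring) -(H.q1e + H.ee + H.q13 + H.ep3) * (ε + q3) - H.ee - H.eq3
  have a2 : (q1 - q3) * (1 - 2 * e3) = q1 + q3 := by
    rw [h3]
    linear_combination (norm := noncomm_ring) -2 * H.q13 * q3 + 2 * H.q33 * q3 + 2 * H.eq3
  have a3 : (q1 + q3) * (1 - 2 * e8) = q1 - qI ε p3 e8 := by
    rw [h8]
    linear_combination (norm := noncomm_ring) -(H.q1e + H.q3e + H.q13 * qI ε p3 e8 + H.q33 * qI ε p3 e8 + H.eI) *
      (ε - qI ε p3 e8 * q3) - H.Ie + H.II * q3 - H.eq3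
  rw [a1, a2, a3]

end Frm

theorem Rels.h9 {R : Type*} [Ring R] {st : R → R} {e1 e2 e3 e4 e5 e6 e8 : R} (H : Rels st e1 e2 e3 e4 e5 e6 e8) :
    2 * ((fq1 e1 e2 e5 - qI e2 (fp3 e2 e3 e4) e8) * e6 * (fp1 e1 e2 e5 + qI e2 (fp3 e2 e3 e4) e8)) = e2 := by
  have K := H.frm
  have c := K.col9 H.e3_eq H.e4_eq
  have r := K.row9 H.e3_eq H.e4_eq
  have h5 := H.e5_eq
  refine sandwich4 H.tw (f := (1 - 2 * e8) * (1 - 2 * e3) * (1 - 2 * e4) * e5 * (1 - 2 * e4) * (1 - 2 * e3) * (1 - 2 * e8))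
    ?_ ?_ ?_ H.i2 ?_ H.h96
  · linear_combination (norm := noncomm_ring) K.q11 + K.q1I - K.Ip1 - K.II
  · linear_combination (norm := noncomm_ring) K.eq1 - K.eI
  · linear_combination (norm := noncomm_ring) K.p1e + K.Ie
  · rw [← c, ← r]
    linear_combination (norm := noncomm_ring) (1 - 2 * e8) * (1 - 2 * e3) * (1 - 2 * e4) * h5 *
      ((1 - 2 * e4) * (1 - 2 * e3) * (1 - 2 * e8))

end Cfsg.Agent.H476.JTwo
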