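import Cfsg.Agent.H476.JTwo.Rep
import Cfsg.Agent.H476.JTwo.Extra

/-!
# The idempotents of a representation (helper476, for S5806)
-/

set_option autoImplicit false
set_option linter.unusedSectionVars false

namespace Cfsg.Agent.H476.JTwo

open Cfsg Cfsg.Geo Matrix Module

universe u v

/-- the relations between the reflections of `SU₃(3)` -/
structure GD (G : Type v) [Group G] where
  g1 : G
  g2 : G
  g3 : G
  g4 : G
  g5 : G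
  g6 : G
  g8 : G
  gA : G
  gB : G
  sq1 : g1 * g1 = 1
  sq2 : g2 * g2 = 1
  sq3 : g3 * g3 = 1
  sq4 : g4 * g4 = 1
  sq5 : g5 * g5 = 1
  sq6 : g6 * g6 = 1
  sq8 : g8 * g8 = 1
  ne1 : g1 ≠ 1
  ne2 : g2 ≠ 1
  ne3 : g3 ≠ 1
  ne4 : g4 ≠ 1
  ne5 : g5 ≠ 1
  ne6 : g6 ≠ 1
  ne8 : g8 ≠ 1
  sqA : gA * gA = g1
  sqB : gB * gB = g2
  cAB : gA * gB = gB * gA
  p12 : g1 * g2 = g3
  c12 : g1 * g2 = g2 * g1
  c14 : g1 * g4 = g4 * g1
  c35 : g3 * g5 = g5 * g3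
  c18 : g1 * g8 = g8 * g1
  c3436 : g3 * g4 * g3 * g6 = g6 * (g3 * g4 * g3)
  k12 : g5 * g1 * g5 = g2
  k23 : g4 * g2 * g4 = g3
  o24 : (g2 * g4) ^ 4 = 1
  o34 : (g3 * g4) ^ 4 = 1
  o25 : (g2 * g5) ^ 4 = 1
  o15 : (g1 * g5) ^ 4 = 1
  o28 : (g2 * g8) ^ 4 = 1
  o38 : (g3 * g8) ^ 4 = 1
  o48 : (g4 * g8) ^ 4 = 1
  o16 : (g1 * g6) ^ 4 = 1
  o56 : (g5 * g6) ^ 4 = 1
  m24 : (g2 * g4) ^ 2 ≠ 1
  m34 : (g3 * g4) ^ 2 ≠ 1
  m25 : (g2 * g5) ^ 2 ≠ 1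
  m15 : (g1 * g5) ^ 2 ≠ 1
  m28 : (g2 * g8) ^ 2 ≠ 1
  m38 : (g3 * g8) ^ 2 ≠ 1
  m48 : (g4 * g8) ^ 2 ≠ 1
  m16 : (g1 * g6) ^ 2 ≠ 1
  m56 : (g5 * g6) ^ 2 ≠ 1
  o26 : (g2 * g6) ^ 3 = 1
  o68 : (g6 * g8) ^ 3 = 1
  o85 : (g8 * g5) ^ 3 = 1
  o54 : (g5 * g4) ^ 3 = 1
  o96 : (g8 * g3 * g4 * g5 * g4 * g3 * g8 * g6) ^ 3 = 1
  n12 : g1 ≠ g2
  n14 : g1 ≠ g4
  n35 : g3 ≠ g5
  n18 : g1 ≠ g8
  n3436 : g3 * g4 * g3 ≠ g6
  n26 : g2 ≠ g6
  n96 : g8 * g3 * g4 * g5 * g4 * g3 * g8 ≠ g6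

variable {F : Type u} [Field F] {G : Type v} [Group G] {P : Subgroup (GL (Fin 3 ⊕ Fin 3) F)} {θ : P →* G}

/-- all lifts of `x` have square `c` -/
def Sq (θ : P →* G) (c : GL (Fin 3 ⊕ Fin 3) F) (x : G) : Prop := ∀ a, Lf θ a x → a * a = c

namespace RH

variable (S : RH P θ)
include S

theorem sq_cases {x : G} (hx : x * x = 1) : Sq θ 1 x ∨ Sq θ (-1) x := by
  obtain ⟨a, ha⟩ := S.exists_lf x
  have h1 := ha.mul ha
  rw [hx] at h1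
  have key : ∀ c : GL (Fin 3 ⊕ Fin 3) F, a * a = c → Sq θ c x := by
    intro c hc b hb
    rcases S.lf_uniq ha hb with h | h
    · rw [h, hc]
    · rw [h, neg_mul_neg, hc]
  rcases S.lf_one h1 with h | h
  · exact Or.inl (key _ h)
  · exact Or.inr (key _ h)

theorem sq_conj {x : G} {c : GL (Fin 3 ⊕ Fin 3) F} (hc : c = 1 ∨ c = -1) (h : Sq θ c x) (y : G) :
    Sq θ c (y * x * y⁻¹) := by
  intro a ha
  obtain ⟨b, hb⟩ := S.exists_lf y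
  have h1 := ha.conj hb.inv
  have h2 : y⁻¹ * (y * x * y⁻¹) * y⁻¹⁻¹ = x := by group
  rw [h2] at h1
  have h3 := h _ h1
  have h4 : a * a = b * (b⁻¹ * a * b⁻¹⁻¹ * (b⁻¹ * a * b⁻¹⁻¹)) * b⁻¹ := by group
  rw [h4, h3]
  rcases hc with rfl | rfl
  · rw [mul_one, mul_inv_cancel]
  · rw [mul_neg, mul_one, neg_mul, mul_inv_cancel]

omit S in
theorem conj3 {x y : G} (hx : x * x = 1) (hy : y * y = 1) (h : (x * y) ^ 3 = 1) : x * y * x * (x * y)⁻¹ = y := by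
  rw [mul_inv_eq_iff_eq_mul]
  have h1 : x * y * x * y * x * y = 1 := by
    rw [← h]
    simp only [pow_succ, pow_zero, one_mul, mul_assoc]
  calc x * y * x = x * y * x * (y * x * y * (y * x * y)) := by
        have : y * x * y * (y * x * y) = 1 := by
          calc y * x * y * (y * x * y) = y * x * (y * y) * x * y := by group
            _ = y * (x * x) * y := by rw [hy]; group
            _ = 1 := by rw [hx, mul_one, hy]
        rw [this, mul_one]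
    _ = x * y * x * y * x * y * (y * x * y) := by group
    _ = y * (x * y) := by rw [h1, one_mul, mul_assoc]

theorem sq_g1 (D : GD G) : Sq θ 1 D.g1 := by
  rcases S.sq_cases D.sq1 with h | h
  · exact h
  · exfalso
    have i5 : D.g5⁻¹ = D.g5 := inv_eq_of_mul_eq_one_left D.sq5
    have i4 : D.g4⁻¹ = D.g4 := inv_eq_of_mul_eq_one_left D.sq4
    have h2 := S.sq_conj (Or.inr rfl) h D.g5
    rw [i5, D.k12] at h2
    have h3 := S.sq_conj (Or.inr rfl) h2 D.g4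
    rw [i4, D.k23] at h3
    obtain ⟨t, ht⟩ := S.exists_lf D.gA
    obtain ⟨u, hu⟩ := S.exists_lf D.gB
    have s1 := ht.mul ht
    rw [D.sqA] at s1
    have s2 := hu.mul hu
    rw [D.sqB] at s2
    have s3 := s1.mul s2
    rw [D.p12] at s3
    have q1 := h _ s1
    have q2 := h2 _ s2
    have q3 := h3 _ s3
    have hc : u * u * (t * t) = t * t * (u * u) := by
      have h4 := hu.mul ht
      rw [← D.cAB] at h4
      have h5 := S.lf_uniq (ht.mul hu) h4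
      have h6 : u * (t * t) = t * t * u := by
        rcases h5 with h5 | h5
        · rw [← mul_assoc, h5, mul_assoc, h5, ← mul_assoc]
        · rw [← mul_assoc, h5, neg_mul, mul_assoc, h5, mul_neg, neg_neg, ← mul_assoc]
      rw [mul_assoc u u, h6, ← mul_assoc u, h6, mul_assoc (t * t)]
    have h7 : t * t * (u * u) * (t * t * (u * u)) = (t * t * (t * t)) * (u * u * (u * u)) := by
      calc t * t * (u * u) * (t * t * (u * u)) = t * t * (u * u * (t * t)) * (u * u) := by group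
        _ = _ := by rw [hc]; group
    rw [q3, q1, q2, neg_mul_neg, one_mul] at h7
    exact S.one_ne h7.symm

theorem sq_all (D : GD G) : (Sq θ 1 D.g2 ∧ Sq θ 1 D.g3) ∧ (Sq θ 1 D.g4 ∧ Sq θ 1 D.g5) ∧ (Sq θ 1 D.g6 ∧ Sq θ 1 D.g8) := by
  have h1 := S.sq_g1 D
  have i5 : D.g5⁻¹ = D.g5 := inv_eq_of_mul_eq_one_left D.sq5
  have i4 : D.g4⁻¹ = D.g4 := inv_eq_of_mul_eq_one_left D.sq4
  have h2 := S.sq_conj (Or.inl rfl) h1 D.g5
  rw [i5, D.k12] at h2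
  have h3 := S.sq_conj (Or.inl rfl) h2 D.g4
  rw [i4, D.k23] at h3
  have h6 := S.sq_conj (Or.inl rfl) h2 (D.g2 * D.g6)
  rw [conj3 D.sq2 D.sq6 D.o26] at h6
  have h8 := S.sq_conj (Or.inl rfl) h6 (D.g6 * D.g8)
  rw [conj3 D.sq6 D.sq8 D.o68] at h8
  have h5 := S.sq_conj (Or.inl rfl) h8 (D.g8 * D.g5)
  rw [conj3 D.sq8 D.sq5 D.o85] at h5
  have h4 := S.sq_conj (Or.inl rfl) h5 (D.g5 * D.g4)
  rw [conj3 D.sq5 D.sq4 D.o54] at h4
  exact ⟨⟨h2, h3⟩, ⟨h4, h5⟩, h6, h8⟩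

theorem ex_isR {x : G} (h : Sq θ 1 x) (hx : x ≠ 1) : ∃ e, IsR θ e x := by
  obtain ⟨a, ha⟩ := S.exists_lf x
  exact S.exR ha (h a ha) hx

omit S in
theorem isR_inv {x : G} {e : M6 F} (h : IsR θ e x) (_ : x * x = 1) (S : RH P θ) :
    ∃ a, Lf θ a x ∧ (a : M6 F) = rr e ∧ ((a⁻¹ : GL (Fin 3 ⊕ Fin 3) F) : M6 F) = rr e ∧ a ∈ spGL 3 F := by
  obtain ⟨he, a, ha, hae⟩ := h
  refine ⟨a, ha, hae, ?_, S.lf_sp ha⟩
  have h1 : a * a = 1 := Units.ext (by rw [Units.val_mul, hae, he.rr_rr, Units.val_one])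
  rw [inv_eq_of_mul_eq_one_left h1, hae]

/-- the idempotents -/
theorem exists_rels (D : GD G) : ∃ e1 e2 e3 e4 e5 e6 e8 : M6 F, (IsR θ e1 D.g1 ∧ IsR θ e2 D.g2 ∧ IsR θ e3 D.g3) ∧
    (IsR θ e4 D.g4 ∧ IsR θ e5 D.g5) ∧ (IsR θ e6 D.g6 ∧ IsR θ e8 D.g8) ∧ Rels sa e1 e2 e3 e4 e5 e6 e8 := by
  obtain ⟨⟨q2, q3⟩, ⟨q4, q5⟩, q6, q8⟩ := S.sq_all D
  obtain ⟨e1, r1⟩ := S.ex_isR (S.sq_g1 D) D.ne1
  obtain ⟨e2, r2⟩ := S.ex_isR q2 D.ne2
  obtain ⟨e3, r3⟩ := S.ex_isR q3 D.ne3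
  obtain ⟨e4, r4⟩ := S.ex_isR q4 D.ne4
  obtain ⟨e5, r5⟩ := S.ex_isR q5 D.ne5
  obtain ⟨e6, r6⟩ := S.ex_isR q6 D.ne6
  obtain ⟨e8, r8⟩ := S.ex_isR q8 D.ne8
  refine ⟨e1, e2, e3, e4, e5, e6, e8, ⟨r1, r2, r3⟩, ⟨r4, r5⟩, ⟨r6, r8⟩, ?_⟩
  have z12 := S.p2 r1 r2 D.c12 D.sq1 D.sq2 D.n12
  have z21 := r2.1.st_mul_zero r1.1 |> fun h => r1.1.st_mul_zero r2.1 z12
  have hsum : e1 + e2 + e3 = 1 := by
    obtain ⟨a1, l1, m1, -, -⟩ := isR_inv r1 D.sq1 S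
    obtain ⟨a2, l2, m2, -, -⟩ := isR_inv r2 D.sq2 S
    obtain ⟨a3, l3, m3, -, -⟩ := isR_inv r3 D.sq3 S
    have h1 := l1.mul l2
    rw [D.p12] at h1
    rcases S.lf_uniq h1 l3 with h2 | h2
    · exfalso
      have h3 : rr e3 = rr e1 * rr e2 := by rw [← m1, ← m2, ← m3, h2, Units.val_mul]
      have h4 : e3 = e1 + e2 := by
        apply smul_right_injective _ S.h2
        simp only
        rw [← two_mul_eq, ← two_mul_eq]
        unfold rr at h3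
        linear_combination (norm := noncomm_ring) -h3 - 4 * z12
      obtain ⟨c, hc⟩ := r3.1.scalar S.h2 r1.1.adj
      have h5 : e3 * e1 * e3 = e1 := by
        rw [h4]
        linear_combination (norm := noncomm_ring) r1.1.idem * e1 + r1.1.idem + r1.1.idem * e2 + z12 + z21 * e1 + z21 * e2
      rw [h5] at hc
      have h6 : e2 = (1 - c) • e3 := by
        rw [sub_smul, one_smul, ← hc, h4]
        abel
      have h7 : (c * (1 - c)) • e3 = 0 := by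
        rw [← r3.1.idem, ← smul_mul_smul_comm, ← hc, ← h6, z12]
      rcases smul_eq_zero.1 h7 with h8 | h8
      · rcases mul_eq_zero.1 h8 with h9 | h9
        · rw [h9, zero_smul] at hc
          exact r1.1.ne_zero hc
        · rw [h9, zero_smul] at h6
          exact r2.1.ne_zero h6
      · exact r3.1.ne_zero h8
    · have h3 : rr e3 = -(rr e1 * rr e2) := by rw [← m1, ← m2, ← m3, h2, Units.val_neg, Units.val_mul]
      apply smul_right_injective _ S.h2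
      simp only
      rw [← two_mul_eq, ← two_mul_eq]
      unfold rr at h3
      linear_combination (norm := noncomm_ring) -h3 + 4 * z12
  obtain ⟨h24, h42⟩ := S.p4' r2 r4 D.o24 D.m24
  obtain ⟨h34, h43⟩ := S.p4' r3 r4 D.o34 D.m34
  obtain ⟨h25, h52⟩ := S.p4' r2 r5 D.o25 D.m25
  obtain ⟨h15, h51⟩ := S.p4' r1 r5 D.o15 D.m15
  obtain ⟨h28, -⟩ := S.p4' r2 r8 D.o28 D.m28
  obtain ⟨h38, h83⟩ := S.p4' r3 r8 D.o38 D.m38
  have h48 := S.p4 r4 r8 D.o48 D.m48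
  have h16 := S.p4 r1 r6 D.o16 D.m16
  have h56 := S.p4 r5 r6 D.o56 D.m56
  have h26 := S.p3 r2 r6 D.o26 D.n26
  obtain ⟨a3, l3, m3, n3, -⟩ := isR_inv r3 D.sq3 S
  obtain ⟨a4, l4, m4, n4, -⟩ := isR_inv r4 D.sq4 S
  obtain ⟨a8, l8, m8, n8, -⟩ := isR_inv r8 D.sq8 S
  have i3 : D.g3⁻¹ = D.g3 := inv_eq_of_mul_eq_one_left D.sq3
  have i4 : D.g4⁻¹ = D.g4 := inv_eq_of_mul_eq_one_left D.sq4
  have i8 : D.g8⁻¹ = D.g8 := inv_eq_of_mul_eq_one_left D.sq8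
  have r343 := S.isR_conj r4 l3
  rw [m3, n3, i3] at r343
  have z64 : e6 * (rr e3 * e4 * rr e3) = 0 := by
    refine S.p2 r6 r343 D.c3436.symm D.sq6 ?_ D.n3436.symm
    calc D.g3 * D.g4 * D.g3 * (D.g3 * D.g4 * D.g3) = D.g3 * D.g4 * (D.g3 * D.g3) * D.g4 * D.g3 := by group
      _ = D.g3 * (D.g4 * D.g4) * D.g3 := by rw [D.sq3]; group
      _ = 1 := by rw [D.sq4, mul_one, D.sq3]
  have r9 := S.isR_conj (S.isR_conj (S.isR_conj r5 l4) l3) l8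
  rw [m3, n3, m4, n4, m8, n8, i3, i4, i8] at r9
  have h96 := S.p3 r9 r6 (by rw [← D.o96]; congr 1; group) (fun h => D.n96 (by rw [← h]; group))
  refine ⟨?_, adj_sa, r1.1.idem, r2.1.idem, r3.1.idem, r4.1.idem, r5.1.idem, r6.1.idem, r8.1.idem, r1.1.adj, r2.1.adj,
    r3.1.adj, r4.1.adj, r5.1.adj, r6.1.adj, r8.1.adj, hsum, z12, S.p2 r1 r4 D.c14 D.sq1 D.sq4 D.n14,
    S.p2 r3 r5 D.c35 D.sq3 D.sq5 D.n35, S.p2 r1 r8 D.c18 D.sq1 D.sq8 D.n18, h24, h42, h34, h43, h25, h52, h15, h51, h28,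
    h38, h83, h48, h16, h56, h26, z64, ?_⟩
  · intro x y h
    rw [two_mul_eq, two_mul_eq] at h
    exact smul_right_injective _ S.h2 h
  · unfold rr at h96
    simp only [← mul_assoc] at h96 ⊢
    exact h96

end RH

end Cfsg.Agent.H476.JTwo
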