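import Cfsg.Agent.OddHalf.D6.RThree.U33Facts
import Cfsg.Agent.SmallSimple.SylowCount

/-!
# Reflections in `SU₃(3)` (helper476, for S5806)
-/

set_option autoImplicit false
set_option linter.unusedSimpArgs false

namespace Cfsg.Agent.H476.JTwo.Grp

open Matrix Subgroup Cfsg
open Cfsg.Agent.Classification.RTwo.UThreeThree (K9 card_k9 card_k9' IsGood psuEquiv center_SU)
open Cfsg.Agent.OddHalf.Small.U33
open Cfsg.Agent.OddHalf.D4.Small.KU33

def m2 : Matrix (Fin 3) (Fin 3) K9 := !![-1, 0, 0; 0, 1, 0; 0, 0, -1]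
def m3 : Matrix (Fin 3) (Fin 3) K9 := !![-1, 0, 0; 0, -1, 0; 0, 0, 1]
def m4 : Matrix (Fin 3) (Fin 3) K9 := !![-1, 0, 0; 0, 0, 1; 0, 1, 0]
def m5 : Matrix (Fin 3) (Fin 3) K9 := !![0, 1, 0; 1, 0, 0; 0, 0, -1]
def m8 : Matrix (Fin 3) (Fin 3) K9 := !![-1, 0, 0; 0, 0, ⟨0, 2⟩; 0, ⟨0, 1⟩, 0]
def m6 : Matrix (Fin 3) (Fin 3) K9 := !![0, ⟨1, 1⟩, ⟨1, 1⟩; ⟨1, 2⟩, 1, -1; ⟨1, 2⟩, -1, 1]
def mA : Matrix (Fin 3) (Fin 3) K9 := !![-1, 0, 0; 0, ⟨0, 1⟩, 0; 0, 0, ⟨0, 1⟩]
def mB : Matrix (Fin 3) (Fin 3) K9 := !![⟨0, 1⟩, 0, 0; 0, -1, 0; 0, 0, ⟨0, 1⟩]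

theorem h2 : IsGood m2 := by decide +kernel
theorem h3 : IsGood m3 := by decide +kernel
theorem h4 : IsGood m4 := by decide +kernel
theorem h5 : IsGood m5 := by decide +kernel
theorem h8 : IsGood m8 := by decide +kernel
theorem h6 : IsGood m6 := by decide +kernel
theorem hA : IsGood mA := by decide +kernel
theorem hB : IsGood mB := by decide +kernel

def g1 : SU33 := t0
def g2 : SU33 := h2.su
def g3 : SU33 := h3.su
def g4 : SU33 := h4.su
def g5 : SU33 := h5.su
def g6 : SU33 := h6.su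
def g8 : SU33 := h8.su
def gA : SU33 := hA.su
def gB : SU33 := hB.su

theorem mt1 : mt g1 = dg := rfl
theorem mt2 : mt g2 = m2 := rfl
theorem mt3 : mt g3 = m3 := rfl
theorem mt4 : mt g4 = m4 := rfl
theorem mt5 : mt g5 = m5 := rfl
theorem mt6 : mt g6 = m6 := rfl
theorem mt8 : mt g8 = m8 := rfl
theorem mtA : mt gA = mA := rfl
theorem mtB : mt gB = mB := rfl

theorem sq1 : g1 * g1 = 1 := by
  apply mt_ext; simp only [mt_mul, mt_one, mt1, mt2, mt3, mt4, mt5, mt6, mt8, mtA, mtB]; decide +kernel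
theorem sq2 : g2 * g2 = 1 := by
  apply mt_ext; simp only [mt_mul, mt_one, mt1, mt2, mt3, mt4, mt5, mt6, mt8, mtA, mtB]; decide +kernel
theorem sq3 : g3 * g3 = 1 := by
  apply mt_ext; simp only [mt_mul, mt_one, mt1, mt2, mt3, mt4, mt5, mt6, mt8, mtA, mtB]; decide +kernel
theorem sq4 : g4 * g4 = 1 := by
  apply mt_ext; simp only [mt_mul, mt_one, mt1, mt2, mt3, mt4, mt5, mt6, mt8, mtA, mtB]; decide +kernel
theorem sq5 : g5 * g5 = 1 := by
  apply mt_ext; simp only [mt_mul, mt_one, mt1, mt2, mt3, mt4, mt5, mt6, mt8, mtA, mtB]; decide +kernel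
theorem sq6 : g6 * g6 = 1 := by
  apply mt_ext; simp only [mt_mul, mt_one, mt1, mt2, mt3, mt4, mt5, mt6, mt8, mtA, mtB]; decide +kernel
theorem sq8 : g8 * g8 = 1 := by
  apply mt_ext; simp only [mt_mul, mt_one, mt1, mt2, mt3, mt4, mt5, mt6, mt8, mtA, mtB]; decide +kernel
theorem sqA : gA * gA = g1 := by
  apply mt_ext; simp only [mt_mul, mt_one, mt1, mt2, mt3, mt4, mt5, mt6, mt8, mtA, mtB]; decide +kernel
theorem sqB : gB * gB = g2 := by
  apply mt_ext; simp only [mt_mul, mt_one, mt1, mt2, mt3, mt4, mt5, mt6, mt8, mtA, mtB]; decide +kernel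
theorem cAB : gA * gB = gB * gA := by
  apply mt_ext; simp only [mt_mul, mt_one, mt1, mt2, mt3, mt4, mt5, mt6, mt8, mtA, mtB]; decide +kernel
theorem c12 : g1 * g2 = g2 * g1 := by
  apply mt_ext; simp only [mt_mul, mt_one, mt1, mt2, mt3, mt4, mt5, mt6, mt8, mtA, mtB]; decide +kernel
theorem p12 : g1 * g2 = g3 := by
  apply mt_ext; simp only [mt_mul, mt_one, mt1, mt2, mt3, mt4, mt5, mt6, mt8, mtA, mtB]; decide +kernel
theorem c14 : g1 * g4 = g4 * g1 := by
  apply mt_ext; simp only [mt_mul, mt_one, mt1, mt2, mt3, mt4, mt5, mt6, mt8, mtA, mtB]; decide +kernel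
theorem c35 : g3 * g5 = g5 * g3 := by
  apply mt_ext; simp only [mt_mul, mt_one, mt1, mt2, mt3, mt4, mt5, mt6, mt8, mtA, mtB]; decide +kernel
theorem c18 : g1 * g8 = g8 * g1 := by
  apply mt_ext; simp only [mt_mul, mt_one, mt1, mt2, mt3, mt4, mt5, mt6, mt8, mtA, mtB]; decide +kernel
theorem c3436 : g3 * g4 * g3 * g6 = g6 * g3 * g4 * g3 := by
  apply mt_ext; simp only [mt_mul, mt_one, mt1, mt2, mt3, mt4, mt5, mt6, mt8, mtA, mtB]; decide +kernel
theorem k12 : g5 * g1 * g5 = g2 := by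
  apply mt_ext; simp only [mt_mul, mt_one, mt1, mt2, mt3, mt4, mt5, mt6, mt8, mtA, mtB]; decide +kernel
theorem k23 : g4 * g2 * g4 = g3 := by
  apply mt_ext; simp only [mt_mul, mt_one, mt1, mt2, mt3, mt4, mt5, mt6, mt8, mtA, mtB]; decide +kernel
theorem o24 : g2 * g4 * g2 * g4 * g2 * g4 * g2 * g4 = 1 := by
  apply mt_ext; simp only [mt_mul, mt_one, mt1, mt2, mt3, mt4, mt5, mt6, mt8, mtA, mtB]; decide +kernel
theorem o34 : g3 * g4 * g3 * g4 * g3 * g4 * g3 * g4 = 1 := by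
  apply mt_ext; simp only [mt_mul, mt_one, mt1, mt2, mt3, mt4, mt5, mt6, mt8, mtA, mtB]; decide +kernel
theorem o25 : g2 * g5 * g2 * g5 * g2 * g5 * g2 * g5 = 1 := by
  apply mt_ext; simp only [mt_mul, mt_one, mt1, mt2, mt3, mt4, mt5, mt6, mt8, mtA, mtB]; decide +kernel
theorem o15 : g1 * g5 * g1 * g5 * g1 * g5 * g1 * g5 = 1 := by
  apply mt_ext; simp only [mt_mul, mt_one, mt1, mt2, mt3, mt4, mt5, mt6, mt8, mtA, mtB]; decide +kernel
theorem o28 : g2 * g8 * g2 * g8 * g2 * g8 * g2 * g8 = 1 := by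
  apply mt_ext; simp only [mt_mul, mt_one, mt1, mt2, mt3, mt4, mt5, mt6, mt8, mtA, mtB]; decide +kernel
theorem o38 : g3 * g8 * g3 * g8 * g3 * g8 * g3 * g8 = 1 := by
  apply mt_ext; simp only [mt_mul, mt_one, mt1, mt2, mt3, mt4, mt5, mt6, mt8, mtA, mtB]; decide +kernel
theorem o48 : g4 * g8 * g4 * g8 * g4 * g8 * g4 * g8 = 1 := by
  apply mt_ext; simp only [mt_mul, mt_one, mt1, mt2, mt3, mt4, mt5, mt6, mt8, mtA, mtB]; decide +kernel
theorem o16 : g1 * g6 * g1 * g6 * g1 * g6 * g1 * g6 = 1 := by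
  apply mt_ext; simp only [mt_mul, mt_one, mt1, mt2, mt3, mt4, mt5, mt6, mt8, mtA, mtB]; decide +kernel
theorem o56 : g5 * g6 * g5 * g6 * g5 * g6 * g5 * g6 = 1 := by
  apply mt_ext; simp only [mt_mul, mt_one, mt1, mt2, mt3, mt4, mt5, mt6, mt8, mtA, mtB]; decide +kernel
theorem o26 : g2 * g6 * g2 * g6 * g2 * g6 = 1 := by
  apply mt_ext; simp only [mt_mul, mt_one, mt1, mt2, mt3, mt4, mt5, mt6, mt8, mtA, mtB]; decide +kernel
theorem o68 : g6 * g8 * g6 * g8 * g6 * g8 = 1 := by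
  apply mt_ext; simp only [mt_mul, mt_one, mt1, mt2, mt3, mt4, mt5, mt6, mt8, mtA, mtB]; decide +kernel
theorem o85 : g8 * g5 * g8 * g5 * g8 * g5 = 1 := by
  apply mt_ext; simp only [mt_mul, mt_one, mt1, mt2, mt3, mt4, mt5, mt6, mt8, mtA, mtB]; decide +kernel
theorem o54 : g5 * g4 * g5 * g4 * g5 * g4 = 1 := by
  apply mt_ext; simp only [mt_mul, mt_one, mt1, mt2, mt3, mt4, mt5, mt6, mt8, mtA, mtB]; decide +kernel
theorem o96 : g8 * g3 * g4 * g5 * g4 * g3 * g8 * g6 * g8 * g3 * g4 * g5 * g4 * g3 * g8 * g6 * g8 * g3 * g4 * g5 * g4 * g3 * g8 * g6 = 1 := by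
  apply mt_ext; simp only [mt_mul, mt_one, mt1, mt2, mt3, mt4, mt5, mt6, mt8, mtA, mtB]; decide +kernel
theorem n12 : g1 ≠ g2 := by
  intro h; have h' := congrArg Cfsg.Agent.OddHalf.Small.U33.mt h; revert h'; simp only [mt_mul, mt_one, mt1, mt2, mt3, mt4, mt5, mt6, mt8, mtA, mtB]; decide +kernel
theorem n14 : g1 ≠ g4 := by
  intro h; have h' := congrArg Cfsg.Agent.OddHalf.Small.U33.mt h; revert h'; simp only [mt_mul, mt_one, mt1, mt2, mt3, mt4, mt5, mt6, mt8, mtA, mtB]; decide +kernel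
theorem n35 : g3 ≠ g5 := by
  intro h; have h' := congrArg Cfsg.Agent.OddHalf.Small.U33.mt h; revert h'; simp only [mt_mul, mt_one, mt1, mt2, mt3, mt4, mt5, mt6, mt8, mtA, mtB]; decide +kernel
theorem n18 : g1 ≠ g8 := by
  intro h; have h' := congrArg Cfsg.Agent.OddHalf.Small.U33.mt h; revert h'; simp only [mt_mul, mt_one, mt1, mt2, mt3, mt4, mt5, mt6, mt8, mtA, mtB]; decide +kernel
theorem n3436 : g3 * g4 * g3 ≠ g6 := by
  intro h; have h' := congrArg Cfsg.Agent.OddHalf.Small.U33.mt h; revert h'; simp only [mt_mul, mt_one, mt1, mt2, mt3, mt4, mt5, mt6, mt8, mtA, mtB]; decide +kernel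
theorem n26 : g2 ≠ g6 := by
  intro h; have h' := congrArg Cfsg.Agent.OddHalf.Small.U33.mt h; revert h'; simp only [mt_mul, mt_one, mt1, mt2, mt3, mt4, mt5, mt6, mt8, mtA, mtB]; decide +kernel
theorem n68 : g6 ≠ g8 := by
  intro h; have h' := congrArg Cfsg.Agent.OddHalf.Small.U33.mt h; revert h'; simp only [mt_mul, mt_one, mt1, mt2, mt3, mt4, mt5, mt6, mt8, mtA, mtB]; decide +kernel
theorem n85 : g8 ≠ g5 := by
  intro h; have h' := congrArg Cfsg.Agent.OddHalf.Small.U33.mt h; revert h'; simp only [mt_mul, mt_one, mt1, mt2, mt3, mt4, mt5, mt6, mt8, mtA, mtB]; decide +kernel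
theorem n54 : g5 ≠ g4 := by
  intro h; have h' := congrArg Cfsg.Agent.OddHalf.Small.U33.mt h; revert h'; simp only [mt_mul, mt_one, mt1, mt2, mt3, mt4, mt5, mt6, mt8, mtA, mtB]; decide +kernel
theorem n96 : g8 * g3 * g4 * g5 * g4 * g3 * g8 ≠ g6 := by
  intro h; have h' := congrArg Cfsg.Agent.OddHalf.Small.U33.mt h; revert h'; simp only [mt_mul, mt_one, mt1, mt2, mt3, mt4, mt5, mt6, mt8, mtA, mtB]; decide +kernel
theorem m24 : g2 * g4 * g2 * g4 ≠ 1 := by
  intro h; have h' := congrArg Cfsg.Agent.OddHalf.Small.U33.mt h; revert h'; simp only [mt_mul, mt_one, mt1, mt2, mt3, mt4, mt5, mt6, mt8, mtA, mtB]; decide +kernel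
theorem m34 : g3 * g4 * g3 * g4 ≠ 1 := by
  intro h; have h' := congrArg Cfsg.Agent.OddHalf.Small.U33.mt h; revert h'; simp only [mt_mul, mt_one, mt1, mt2, mt3, mt4, mt5, mt6, mt8, mtA, mtB]; decide +kernel
theorem m25 : g2 * g5 * g2 * g5 ≠ 1 := by
  intro h; have h' := congrArg Cfsg.Agent.OddHalf.Small.U33.mt h; revert h'; simp only [mt_mul, mt_one, mt1, mt2, mt3, mt4, mt5, mt6, mt8, mtA, mtB]; decide +kernel
theorem m15 : g1 * g5 * g1 * g5 ≠ 1 := by
  intro h; have h' := congrArg Cfsg.Agent.OddHalf.Small.U33.mt h; revert h'; simp only [mt_mul, mt_one, mt1, mt2, mt3, mt4, mt5, mt6, mt8, mtA, mtB]; decide +kernel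
theorem m28 : g2 * g8 * g2 * g8 ≠ 1 := by
  intro h; have h' := congrArg Cfsg.Agent.OddHalf.Small.U33.mt h; revert h'; simp only [mt_mul, mt_one, mt1, mt2, mt3, mt4, mt5, mt6, mt8, mtA, mtB]; decide +kernel
theorem m38 : g3 * g8 * g3 * g8 ≠ 1 := by
  intro h; have h' := congrArg Cfsg.Agent.OddHalf.Small.U33.mt h; revert h'; simp only [mt_mul, mt_one, mt1, mt2, mt3, mt4, mt5, mt6, mt8, mtA, mtB]; decide +kernel
theorem m48 : g4 * g8 * g4 * g8 ≠ 1 := by
  intro h; have h' := congrArg Cfsg.Agent.OddHalf.Small.U33.mt h; revert h'; simp only [mt_mul, mt_one, mt1, mt2, mt3, mt4, mt5, mt6, mt8, mtA, mtB]; decide +kernel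
theorem m16 : g1 * g6 * g1 * g6 ≠ 1 := by
  intro h; have h' := congrArg Cfsg.Agent.OddHalf.Small.U33.mt h; revert h'; simp only [mt_mul, mt_one, mt1, mt2, mt3, mt4, mt5, mt6, mt8, mtA, mtB]; decide +kernel
theorem m56 : g5 * g6 * g5 * g6 ≠ 1 := by
  intro h; have h' := congrArg Cfsg.Agent.OddHalf.Small.U33.mt h; revert h'; simp only [mt_mul, mt_one, mt1, mt2, mt3, mt4, mt5, mt6, mt8, mtA, mtB]; decide +kernel
theorem ne1 : g1 ≠ 1 := by
  intro h; have h' := congrArg Cfsg.Agent.OddHalf.Small.U33.mt h; revert h'; simp only [mt_mul, mt_one, mt1, mt2, mt3, mt4, mt5, mt6, mt8, mtA, mtB]; decide +kernel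
theorem ne2 : g2 ≠ 1 := by
  intro h; have h' := congrArg Cfsg.Agent.OddHalf.Small.U33.mt h; revert h'; simp only [mt_mul, mt_one, mt1, mt2, mt3, mt4, mt5, mt6, mt8, mtA, mtB]; decide +kernel
theorem ne3 : g3 ≠ 1 := by
  intro h; have h' := congrArg Cfsg.Agent.OddHalf.Small.U33.mt h; revert h'; simp only [mt_mul, mt_one, mt1, mt2, mt3, mt4, mt5, mt6, mt8, mtA, mtB]; decide +kernel
theorem ne4 : g4 ≠ 1 := by
  intro h; have h' := congrArg Cfsg.Agent.OddHalf.Small.U33.mt h; revert h'; simp only [mt_mul, mt_one, mt1, mt2, mt3, mt4, mt5, mt6, mt8, mtA, mtB]; decide +kernel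
theorem ne5 : g5 ≠ 1 := by
  intro h; have h' := congrArg Cfsg.Agent.OddHalf.Small.U33.mt h; revert h'; simp only [mt_mul, mt_one, mt1, mt2, mt3, mt4, mt5, mt6, mt8, mtA, mtB]; decide +kernel
theorem ne6 : g6 ≠ 1 := by
  intro h; have h' := congrArg Cfsg.Agent.OddHalf.Small.U33.mt h; revert h'; simp only [mt_mul, mt_one, mt1, mt2, mt3, mt4, mt5, mt6, mt8, mtA, mtB]; decide +kernel
theorem ne8 : g8 ≠ 1 := by
  intro h; have h' := congrArg Cfsg.Agent.OddHalf.Small.U33.mt h; revert h'; simp only [mt_mul, mt_one, mt1, mt2, mt3, mt4, mt5, mt6, mt8, mtA, mtB]; decide +kernel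

/-! ### the outer automorphism -/

open Cfsg.Agent.OddHalf.D6.RThree.U33 (φ mt_φ f aut_cases)

theorem f1 : φ g1 = g1 := by apply mt_ext; rw [mt_φ, mt1]; decide +kernel
theorem f2 : φ g2 = g2 := by apply mt_ext; rw [mt_φ, mt2]; decide +kernel
theorem f3 : φ g3 = g3 := by apply mt_ext; rw [mt_φ, mt3]; decide +kernel
theorem f4 : φ g4 = g4 := by apply mt_ext; rw [mt_φ, mt4]; decide +kernel
theorem f5 : φ g5 = g5 := by apply mt_ext; rw [mt_φ, mt5]; decide +kernel
theorem f8 : φ g8 = g3 * g8 * g3 := by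
  apply mt_ext; rw [mt_φ, mt8]; simp only [mt_mul, mt3, mt8]; decide +kernel
theorem f6 : φ g6 = g4 * g8 * g3 * g6 * (g3 * g8 * g4) := by
  apply mt_ext; rw [mt_φ, mt6]; simp only [mt_mul, mt3, mt8, mt4, mt6]; decide +kernel

theorem aut (α : MulAut SU33) : ∃ g : SU33, α = MulAut.conj g ∨ α = MulAut.conj g * φ := by
  obtain ⟨g, h | h⟩ := aut_cases α
  · exact ⟨g, Or.inl h⟩
  · refine ⟨g * gi, Or.inr ?_⟩
    rw [h, f, map_mul, mul_assoc]

/-! ### generation -/

theorem mul_dvd_card {G : Type*} [Group G] [Finite G] {K : Subgroup G} {x y : G} (hx : x ∈ K) (hy : y ∈ K)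
    (hc : x * y = y * x) {m n : ℕ} (hm : orderOf x = m) (hn : orderOf y = n)
    (hd : ∀ i : Fin m, ∀ j : Fin n, x ^ (i : ℕ) = y ^ (j : ℕ) → (i : ℕ) = 0) : m * n ∣ Nat.card K := by
  have hcomm : ∀ (a : zpowers x) (b : zpowers y), Commute ((zpowers x).subtype a) ((zpowers y).subtype b) := by
    rintro ⟨_, i, rfl⟩ ⟨_, j, rfl⟩
    exact ((show Commute x y from hc).zpow_zpow i j)
  let φ' : zpowers x × zpowers y →* G := MonoidHom.noncommCoprod (zpowers x).subtype (zpowers y).subtype hcomm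
  have hm0 : 0 < m := hm ▸ orderOf_pos x
  have hn0 : 0 < n := hn ▸ orderOf_pos y
  have hinj : Function.Injective φ' := by
    rw [MonoidHom.noncommCoprod_injective]
    refine ⟨Subtype.val_injective, Subtype.val_injective, ?_⟩
    rw [Subgroup.range_subtype, Subgroup.range_subtype, Subgroup.disjoint_def]
    intro z hz hz'
    obtain ⟨i, hi⟩ := mem_powers_iff_mem_zpowers.2 hz
    obtain ⟨j, hj⟩ := mem_powers_iff_mem_zpowers.2 hz'
    dsimp only at hi hj
    rw [← pow_mod_orderOf, hm] at hi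
    rw [← pow_mod_orderOf, hn] at hj
    have h1 := hd ⟨i % m, Nat.mod_lt _ hm0⟩ ⟨j % n, Nat.mod_lt _ hn0⟩ (hi.trans hj.symm)
    simp only at h1
    rw [← hi, h1, pow_zero]
  have hr : φ'.range ≤ K := by
    rintro _ ⟨⟨a, b⟩, rfl⟩
    exact K.mul_mem ((zpowers_le.2 hx) a.2) ((zpowers_le.2 hy) b.2)
  have h1 : Nat.card φ'.range = m * n := by
    rw [← Nat.card_congr (MonoidHom.ofInjective hinj).toEquiv, Nat.card_prod, Nat.card_zpowers, Nat.card_zpowers, hm, hn]
  rw [← h1]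
  exact Subgroup.card_dvd_of_le hr

theorem mt_pow (x : SU33) (n : ℕ) : Cfsg.Agent.OddHalf.Small.U33.mt (x ^ n) =
    Cfsg.Agent.OddHalf.Small.U33.mt x ^ n := by
  induction n with
  | zero => rw [pow_zero, pow_zero, mt_one]
  | succ n ih => rw [pow_succ, pow_succ, mt_mul, ih]

/-- the generators -/
def gens : Set SU33 := {g1, g2, g4, g5, g8, g6}

theorem ord_of {x : SU33} {M : Matrix (Fin 3) (Fin 3) K9} (hM : Cfsg.Agent.OddHalf.Small.U33.mt x = M) {n : ℕ} (hn : 0 < n)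
    (h1 : M ^ n = 1) (h2 : ∀ k : Fin n, M ^ (k : ℕ) = 1 → (k : ℕ) = 0) : orderOf x = n := by
  rw [orderOf_eq_iff hn]
  refine ⟨mt_ext (by rw [mt_pow, hM, h1, mt_one]), fun k hk hk0 h => ?_⟩
  have h3 := h2 ⟨k, hk⟩ (by rw [← hM, ← mt_pow, h, mt_one])
  simp only at h3
  omega

theorem closure_gens [IsSimpleGroup SU33] : closure gens = ⊤ := by
  have hfin : Finite SU33 := finite_SU33
  have k1 : g1 ∈ closure gens := subset_closure (by unfold gens; simp)
  have k2 : g2 ∈ closure gens := subset_closure (by unfold gens; simp)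
  have k4 : g4 ∈ closure gens := subset_closure (by unfold gens; simp)
  have k5 : g5 ∈ closure gens := subset_closure (by unfold gens; simp)
  have k8 : g8 ∈ closure gens := subset_closure (by unfold gens; simp)
  have k6 : g6 ∈ closure gens := subset_closure (by unfold gens; simp)
  have h16 : 4 * 4 ∣ Nat.card (closure gens) := by
    refine mul_dvd_card (x := g8 * g4) (y := g5 * (g8 * g4) * g5) (mul_mem k8 k4) (mul_mem (mul_mem k5 (mul_mem k8 k4)) k5) ?_ ?_ ?_ ?_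
    · apply mt_ext; simp only [mt_mul, mt4, mt5, mt8]; decide +kernel
    · refine ord_of (M := m8 * m4) ?_ (by norm_num) (by decide +kernel) (by decide +kernel)
      simp only [mt_mul, mt4, mt8]
    · refine ord_of (M := m5 * (m8 * m4) * m5) ?_ (by norm_num) (by decide +kernel) (by decide +kernel)
      simp only [mt_mul, mt4, mt8, mt5]
    · intro i j h
      have h' := congrArg Cfsg.Agent.OddHalf.Small.U33.mt h
      simp only [mt_pow, mt_mul, mt4, mt8, mt5] at h'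
      revert i j
      decide +kernel
  have h9 : 3 * 3 ∣ Nat.card (closure gens) := by
    refine mul_dvd_card (x := g2 * g8 * g5) (y := g6 * (g2 * g8 * g5) * g6) (mul_mem (mul_mem k2 k8) k5)
      (mul_mem (mul_mem k6 (mul_mem (mul_mem k2 k8) k5)) k6) ?_ ?_ ?_ ?_
    · apply mt_ext; simp only [mt_mul, mt2, mt5, mt8, mt6]; decide +kernel
    · refine ord_of (M := m2 * m8 * m5) ?_ (by norm_num) (by decide +kernel) (by decide +kernel)
      simp only [mt_mul, mt2, mt5, mt8]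
    · refine ord_of (M := m6 * (m2 * m8 * m5) * m6) ?_ (by norm_num) (by decide +kernel) (by decide +kernel)
      simp only [mt_mul, mt2, mt5, mt8, mt6]
    · intro i j h
      have h' := congrArg Cfsg.Agent.OddHalf.Small.U33.mt h
      simp only [mt_pow, mt_mul, mt2, mt5, mt8, mt6] at h'
      revert i j
      decide +kernel
  have h7 : 7 ∣ Nat.card (closure gens) := by
    have ho : orderOf (g1 * g5 * g6) = 7 := by
      refine ord_of (M := dg * m5 * m6) ?_ (by norm_num) (by decide +kernel) (by decide +kernel)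
      simp only [mt_mul, mt1, mt5, mt6]
    rw [← ho, ← Nat.card_zpowers]
    exact Subgroup.card_dvd_of_le (zpowers_le.2 (mul_mem (mul_mem k1 k5) k6))
  by_contra hne
  have hf := SmallSimple.SylowCount.card_dvd_factorial_index (closure gens) hne
  have hc := (closure gens).card_mul_index
  rw [card_SU] at hc hf
  have h1008 : 1008 ∣ Nat.card (closure gens) := by
    have ha : (16 * 9 : ℕ) ∣ Nat.card (closure gens) := Nat.Coprime.mul_dvd_of_dvd_of_dvd (by norm_num) h16 h9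
    exact Nat.Coprime.mul_dvd_of_dvd_of_dvd (m := 16 * 9) (n := 7) (by norm_num) ha h7
  obtain ⟨k, hk⟩ := h1008
  have hi : (closure gens).index ≤ 6 := by
    rw [hk] at hc
    have hk0 : 0 < k := by
      rcases Nat.eq_zero_or_pos k with h | h
      · rw [h] at hc; simp at hc
      · exact h
    have h6 : k * (closure gens).index = 6 := by
      have : 1008 * (k * (closure gens).index) = 1008 * 6 := by rw [← mul_assoc, hc]
      exact Nat.eq_of_mul_eq_mul_left (by norm_num) this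
    calc (closure gens).index ≤ k * (closure gens).index := Nat.le_mul_of_pos_left _ hk0
      _ = 6 := h6
  have := Nat.le_of_dvd (Nat.factorial_pos _) hf
  have h720 := Nat.factorial_le hi
  have : (Nat.factorial 6) = 720 := rfl
  omega

end Cfsg.Agent.H476.JTwo.Grp
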