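import Cfsg.Agent.H476.JTwo.Close
import Cfsg.Agent.H476.JTwo.Grp

/-!
# `U₃(3)` in `Sp₆(p)`, `p ≡ ±5 (mod 12)`, `5` a square (helper476, task 1009, for S5806)

`u33_hall` : `U₃(3)` is not the socle of a residual maximal subgroup, since it is contained in `2.J₂`.
-/

set_option autoImplicit false
set_option linter.unusedSectionVars false

namespace Cfsg.Agent.H476.JTwo

open Cfsg Cfsg.Geo Matrix Module
open Cfsg.Agent.H914.S6 Cfsg.Agent.H915.LD
open Cfsg.Agent.OddHalf.Small.U33 (SU33 finite_SU33)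
open Cfsg.Agent.Classification.RTwo.UThreeThree (K9 card_k9 psuEquiv)

universe u v

/-- the data of `SU₃(3)` -/
def gd : GD SU33 where
  g1 := Grp.g1
  g2 := Grp.g2
  g3 := Grp.g3
  g4 := Grp.g4
  g5 := Grp.g5
  g6 := Grp.g6
  g8 := Grp.g8
  gA := Grp.gA
  gB := Grp.gB
  sq1 := Grp.sq1
  sq2 := Grp.sq2
  sq3 := Grp.sq3
  sq4 := Grp.sq4
  sq5 := Grp.sq5
  sq6 := Grp.sq6
  sq8 := Grp.sq8
  ne1 := Grp.ne1
  ne2 := Grp.ne2
  ne3 := Grp.ne3
  ne4 := Grp.ne4
  ne5 := Grp.ne5
  ne6 := Grp.ne6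
  ne8 := Grp.ne8
  sqA := Grp.sqA
  sqB := Grp.sqB
  cAB := Grp.cAB
  p12 := Grp.p12
  c12 := Grp.c12
  c14 := Grp.c14
  c35 := Grp.c35
  c18 := Grp.c18
  c3436 := by
    have h := Grp.c3436
    rw [h, mul_assoc, mul_assoc, mul_assoc]
  k12 := Grp.k12
  k23 := Grp.k23
  o24 := by have h := Grp.o24; simpa only [pow_succ, pow_zero, one_mul, ← mul_assoc] using h
  o34 := by have h := Grp.o34; simpa only [pow_succ, pow_zero, one_mul, ← mul_assoc] using h
  o25 := by have h := Grp.o25; simpa only [pow_succ, pow_zero, one_mul, ← mul_assoc] using h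
  o15 := by have h := Grp.o15; simpa only [pow_succ, pow_zero, one_mul, ← mul_assoc] using h
  o28 := by have h := Grp.o28; simpa only [pow_succ, pow_zero, one_mul, ← mul_assoc] using h
  o38 := by have h := Grp.o38; simpa only [pow_succ, pow_zero, one_mul, ← mul_assoc] using h
  o48 := by have h := Grp.o48; simpa only [pow_succ, pow_zero, one_mul, ← mul_assoc] using h
  o16 := by have h := Grp.o16; simpa only [pow_succ, pow_zero, one_mul, ← mul_assoc] using h
  o56 := by have h := Grp.o56; simpa only [pow_succ, pow_zero, one_mul, ← mul_assoc] using h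
  m24 := by have h := Grp.m24; simpa only [pow_succ, pow_zero, one_mul, ← mul_assoc] using h
  m34 := by have h := Grp.m34; simpa only [pow_succ, pow_zero, one_mul, ← mul_assoc] using h
  m25 := by have h := Grp.m25; simpa only [pow_succ, pow_zero, one_mul, ← mul_assoc] using h
  m15 := by have h := Grp.m15; simpa only [pow_succ, pow_zero, one_mul, ← mul_assoc] using h
  m28 := by have h := Grp.m28; simpa only [pow_succ, pow_zero, one_mul, ← mul_assoc] using h
  m38 := by have h := Grp.m38; simpa only [pow_succ, pow_zero, one_mul, ← mul_assoc] using h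
  m48 := by have h := Grp.m48; simpa only [pow_succ, pow_zero, one_mul, ← mul_assoc] using h
  m16 := by have h := Grp.m16; simpa only [pow_succ, pow_zero, one_mul, ← mul_assoc] using h
  m56 := by have h := Grp.m56; simpa only [pow_succ, pow_zero, one_mul, ← mul_assoc] using h
  o26 := by have h := Grp.o26; simpa only [pow_succ, pow_zero, one_mul, ← mul_assoc] using h
  o68 := by have h := Grp.o68; simpa only [pow_succ, pow_zero, one_mul, ← mul_assoc] using h
  o85 := by have h := Grp.o85; simpa only [pow_succ, pow_zero, one_mul, ← mul_assoc] using h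
  o54 := by have h := Grp.o54; simpa only [pow_succ, pow_zero, one_mul, ← mul_assoc] using h
  o96 := by have h := Grp.o96; simpa only [pow_succ, pow_zero, one_mul, ← mul_assoc] using h
  n12 := Grp.n12
  n14 := Grp.n14
  n35 := Grp.n35
  n18 := Grp.n18
  n3436 := Grp.n3436
  n26 := Grp.n26
  n96 := Grp.n96

/-- automorphisms and generation of `SU₃(3)` -/
def gf [IsSimpleGroup SU33] : GF gd where
  φ := Cfsg.Agent.OddHalf.D6.RThree.U33.φ
  f1 := Grp.f1
  f2 := Grp.f2
  f3 := Grp.f3
  f4 := Grp.f4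
  f5 := Grp.f5
  f8 := Grp.f8
  f6 := Grp.f6
  aut := Grp.aut
  gen := Grp.closure_gens
  cop := by
    intro x hx
    have hfin : Finite SU33 := finite_SU33
    have h1 := orderOf_dvd_of_pow_eq_one hx
    have h2 : orderOf x ∣ 6048 := by
      rw [← Cfsg.Agent.OddHalf.D4.Small.KU33.card_SU]
      exact orderOf_dvd_natCard x
    have h3 := Nat.dvd_gcd h1 h2
    rw [show Nat.gcd 5 6048 = 1 by norm_num, Nat.dvd_one, orderOf_eq_one_iff] at h3
    exact h3

/-! ### squares -/

theorem five_one : IsSquare ((1 : ℕ) : ZMod 5) := ⟨1, by decide⟩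
theorem five_four : IsSquare ((4 : ℕ) : ZMod 5) := ⟨2, by decide⟩
theorem three_one : IsSquare ((1 : ℕ) : ZMod 3) := ⟨1, by decide⟩
theorem three_two : ¬ IsSquare ((2 : ℕ) : ZMod 3) := by decide

theorem exists_tau {F : Type u} [Field F] [Fintype F] {p : ℕ} (hp : p.Prime) (hF : Fintype.card F = p)
    (h2 : (2 : F) ≠ 0) (h5 : p % 5 = 0 ∨ p % 5 = 1 ∨ p % 5 = 4) : ∃ τ : F, τ * τ = τ + 1 := by
  have : Fact p.Prime := ⟨hp⟩
  have : Fact (Nat.Prime 5) := ⟨by norm_num⟩
  let e : ZMod p ≃+* F := ZMod.ringEquivOfPrime F hp hF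
  have hsq : ∃ s : F, s * s = 5 := by
    rcases h5 with h5 | h5
    · have hp5 : p = 5 := ((Nat.prime_dvd_prime_iff_eq (by norm_num) hp).1 (Nat.dvd_of_mod_eq_zero h5)).symm
      refine ⟨0, ?_⟩
      have h : (5 : ZMod p) = 0 := by
        have : ((5 : ℕ) : ZMod p) = 0 := by rw [← hp5]; exact ZMod.natCast_self _
        exact_mod_cast this
      have h' := congrArg e h
      rw [map_ofNat, map_zero] at h'
      rw [h', mul_zero]
    · have hp2 : p ≠ 2 := by
        rintro rfl
        apply h2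
        have h : (2 : ZMod 2) = 0 := rfl
        have h' := congrArg e h
        rwa [map_ofNat, map_zero] at h'
      have h := (ZMod.exists_sq_eq_prime_iff_of_mod_four_eq_one (p := 5) (q := p) (by norm_num) hp2).1 (by
        have h6 : ((p : ℕ) : ZMod 5) = ((p % 5 : ℕ) : ZMod 5) := by rw [ZMod.natCast_mod]
        rw [h6]
        rcases h5 with h5 | h5
        · rw [h5]; exact five_one
        · rw [h5]; exact five_four)
      obtain ⟨s, hs⟩ := h
      refine ⟨e s, ?_⟩
      rw [← map_mul, ← hs, map_natCast]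
      norm_num
  obtain ⟨s, hs⟩ := hsq
  refine ⟨(1 + s) / 2, ?_⟩
  field_simp
  linear_combination hs

theorem not_three {F : Type u} [Field F] [Fintype F] {p : ℕ} (hp : p.Prime) (hF : Fintype.card F = p)
    (h12 : p % 12 = 5 ∨ p % 12 = 7) : ¬ ∃ c : F, c * c = 3 := by
  have : Fact p.Prime := ⟨hp⟩
  have : Fact (Nat.Prime 3) := ⟨by norm_num⟩
  let e : ZMod p ≃+* F := ZMod.ringEquivOfPrime F hp hF
  rintro ⟨c, hc⟩
  have h1 : IsSquare ((3 : ℕ) : ZMod p) := by
    refine ⟨e.symm c, ?_⟩
    rw [← map_mul, hc, map_ofNat]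
    norm_num
  have h6 : ((p : ℕ) : ZMod 3) = ((p % 3 : ℕ) : ZMod 3) := by rw [ZMod.natCast_mod]
  rcases h12 with h12 | h12
  · have h4 : p % 4 = 1 := by omega
    have h := (ZMod.exists_sq_eq_prime_iff_of_mod_four_eq_one (p := p) (q := 3) h4 (by norm_num)).1 h1
    rw [h6, show p % 3 = 2 by omega] at h
    exact three_two h
  · have h4 : p % 4 = 3 := by omega
    have h := (ZMod.exists_sq_eq_prime_iff_of_mod_four_eq_three (p := p) (q := 3) h4 (by norm_num) (by
      rintro rfl
      omega)).1 h1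
    apply h
    rw [h6, show p % 3 = 1 by omega]
    exact three_one

variable {F : Type u} [Field F] [Fintype F] {H P : Subgroup (GL (Fin 3 ⊕ Fin 3) F)}

/-- **`U₃(3)` in `Sp₆(p)` is not maximal when it is contained in `2.J₂`.** -/
theorem u33_hall (S : Cfsg.Agent.H914.S6.Hyp 3 H P) (p : ℕ) [Fact p.Prime] [CharP F p] (hF : Fintype.card F = p)
    {K : Type} [Field K] [Fintype K] (hK : Fintype.card K = 9)
    (e : Nonempty (Cfsg.Agent.H915.LD.Soc P ≃* Cfsg.PSU 3 K 3)) (h12 : p % 12 = 5 ∨ p % 12 = 7)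
    (h5 : p % 5 = 0 ∨ p % 5 = 1 ∨ p % 5 = 4) : False := by
  obtain ⟨e⟩ := e
  have hp : p.Prime := Fact.out
  let k : K ≃+* K9 := FiniteField.ringEquivOfCardEq (by rw [hK, card_k9])
  let e' : Soc P ≃* SU33 := (e.trans (LieClassical.FieldTransfer.psuCongr 3 3 k)).trans (psuEquiv card_k9)
  have hs : IsSimpleGroup (Soc P) := S.core.simple
  have hsu : IsSimpleGroup SU33 := by
    have := e'.symm.isSimpleGroup
    exact this
  have hp5 : 5 ≤ p := by
    have := hp.two_le
    omega
  have hch : ∀ n : ℕ, 0 < n → n < 5 → ((n : ℕ) : F) ≠ 0 := by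
    intro n hn hn5 h0
    have h1 := (CharP.cast_eq_zero_iff F p n).1 h0
    have := Nat.le_of_dvd hn h1
    omega
  have h2 : (2 : F) ≠ 0 := by
    have := hch 2 (by norm_num) (by norm_num)
    exact_mod_cast this
  have h3 : (3 : F) ≠ 0 := by
    have := hch 3 (by norm_num) (by norm_num)
    exact_mod_cast this
  obtain ⟨τ, hτ⟩ := exists_tau hp hF h2 h5
  exact close S e' gf (by rw [hF]; exact hp5) h2 h3 hτ (not_three hp hF h12)

end Cfsg.Agent.H476.JTwo
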