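import Cfsg.Agent.H914.SixBase
import Cfsg.Agent.ClassicalGeometry.TwoFamilies
import Cfsg.Agent.H476.JTwo.Alg

/-!
# Self-adjoint idempotents of rank two (helper476, for S5806)
-/

set_option autoImplicit false
set_option linter.unusedSectionVars false

namespace Cfsg.Agent.H476.JTwo

open Cfsg Cfsg.Geo Matrix Module

universe u

/-- matrices of size six -/
abbrev M6 (F : Type u) := Matrix (Fin 3 ⊕ Fin 3) (Fin 3 ⊕ Fin 3) F

variable {F : Type u} [Field F]

/-- the adjoint -/
def sa (A : M6 F) : M6 F := -(Matrix.J (Fin 3) F * Aᵀ * Matrix.J (Fin 3) F)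

theorem JJ : Matrix.J (Fin 3) F * Matrix.J (Fin 3) F = -1 := Matrix.J_squared _ _

theorem sa_smul (c : F) (A : M6 F) : sa (c • A) = c • sa A := by
  unfold sa
  rw [Matrix.transpose_smul, Matrix.mul_smul, Matrix.smul_mul, smul_neg]

theorem adj_sa : Adj (sa : M6 F → M6 F) where
  add a b := by
    unfold sa
    rw [Matrix.transpose_add, Matrix.mul_add, Matrix.add_mul, neg_add]
  mul a b := by
    unfold sa
    rw [Matrix.transpose_mul, neg_mul_neg]
    have h : Matrix.J (Fin 3) F * bᵀ * Matrix.J (Fin 3) F * (Matrix.J (Fin 3) F * aᵀ * Matrix.J (Fin 3) F) =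
        Matrix.J (Fin 3) F * bᵀ * (Matrix.J (Fin 3) F * Matrix.J (Fin 3) F) * aᵀ * Matrix.J (Fin 3) F := by
      simp only [Matrix.mul_assoc]
    rw [h, JJ]
    simp only [Matrix.mul_assoc, Matrix.mul_neg, Matrix.neg_mul, Matrix.mul_one]
  st_st a := by
    unfold sa
    have hJ : (Matrix.J (Fin 3) F)ᵀ = -Matrix.J (Fin 3) F := Matrix.J_transpose _ _
    rw [Matrix.transpose_neg, Matrix.transpose_mul, Matrix.transpose_mul, Matrix.transpose_transpose, hJ]
    have h : Matrix.J (Fin 3) F * -(-Matrix.J (Fin 3) F * (a * -Matrix.J (Fin 3) F)) * Matrix.J (Fin 3) F =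
        -((Matrix.J (Fin 3) F * Matrix.J (Fin 3) F) * a * (Matrix.J (Fin 3) F * Matrix.J (Fin 3) F)) := by
      simp only [Matrix.mul_assoc, Matrix.mul_neg, Matrix.neg_mul, neg_neg]
    rw [h, JJ]
    simp

theorem form_sa (A : M6 F) (x y : Fin 3 ⊕ Fin 3 → F) :
    sympForm 3 F (A *ᵥ x) y = sympForm 3 F x (sa A *ᵥ y) := by
  unfold sympForm sa
  have h : Matrix.J (Fin 3) F *ᵥ (-(Matrix.J (Fin 3) F * Aᵀ * Matrix.J (Fin 3) F) *ᵥ y) =
      Aᵀ *ᵥ (Matrix.J (Fin 3) F *ᵥ y) := by
    rw [Matrix.mulVec_mulVec, Matrix.mulVec_mulVec]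
    congr 1
    rw [Matrix.mul_neg, ← Matrix.mul_assoc, ← Matrix.mul_assoc, JJ]
    simp
  rw [h, Matrix.mulVec_transpose, dotProduct_comm (A *ᵥ x), Matrix.dotProduct_mulVec, dotProduct_comm]

theorem sa_mul_self {g : GL (Fin 3 ⊕ Fin 3) F} (hg : g ∈ spGL 3 F) : sa (g : M6 F) * (g : M6 F) = 1 := by
  have h1 := H914.S6.transpose_J hg
  unfold sa
  rw [Matrix.neg_mul, Matrix.mul_assoc, Matrix.mul_assoc, ← Matrix.mul_assoc (g : M6 F)ᵀ, h1, JJ, neg_neg]

theorem mem_sp_of_sa {g : GL (Fin 3 ⊕ Fin 3) F} (h : sa (g : M6 F) * (g : M6 F) = 1) : g ∈ spGL 3 F := by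
  rw [H931.mem_spGL_iff]
  intro u v
  rw [form_sa, Matrix.mulVec_mulVec, h, Matrix.one_mulVec]

/-- self-adjoint idempotent of rank two -/
structure Rf (e : M6 F) : Prop where
  idem : e * e = e
  adj : sa e = e
  rk : e.rank = 2

theorem form_symp : IsSymplecticForm (sympForm 3 F) := H924.isSymplecticForm_sympForm

theorem form_ne {v : Fin 3 ⊕ Fin 3 → F} (hv : v ≠ 0) : ∃ x, sympForm 3 F v x ≠ 0 := by
  obtain ⟨⟨x, hx⟩, -⟩ := form_symp.nondegenerate v hv
  refine ⟨x, fun h => hx ?_⟩
  rw [form_symp.skew, h, neg_zero]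

theorem finrank_six : finrank F (Fin 3 ⊕ Fin 3 → F) = 6 := by
  rw [Module.finrank_fintype_fun_eq_card]
  rfl

theorem rank_even {e : M6 F} (h1 : e * e = e) (h2 : sa e = e) : ∃ m : ℕ, e.rank = m + m := by
  let B : LinearMap.BilinForm F (Fin 3 ⊕ Fin 3 → F) := Matrix.toBilin' (eᵀ * Matrix.J (Fin 3) F)
  have hB : ∀ x y, B x y = sympForm 3 F (e *ᵥ x) y := by
    intro x y
    change Matrix.toBilin' (eᵀ * Matrix.J (Fin 3) F) x y = _
    rw [Matrix.toBilin'_apply']
    unfold sympForm
    rw [← Matrix.mulVec_mulVec, Matrix.mulVec_transpose, dotProduct_comm (e *ᵥ x), Matrix.dotProduct_mulVec,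
      dotProduct_comm]
  have hA : B.IsAlt := by
    intro x
    rw [hB]
    have : e *ᵥ x = e *ᵥ (e *ᵥ x) := by rw [Matrix.mulVec_mulVec, h1]
    rw [this, form_sa, h2]
    exact form_symp.alternating _
  obtain ⟨m, hm⟩ := ClassicalGeometry.TwoFamilies.exists_finrank_eq_ker_add B hA
  have hk : LinearMap.ker B = LinearMap.ker e.mulVecLin := by
    ext x
    rw [LinearMap.mem_ker, LinearMap.mem_ker, Matrix.mulVecLin_apply]
    constructor
    · intro h
      by_contra hx
      obtain ⟨y, hy⟩ := form_ne hx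
      apply hy
      rw [← hB, h]
      rfl
    · intro h
      ext y
      simp only [LinearMap.comp_apply, LinearMap.zero_apply]
      rw [hB, h]
      unfold sympForm
      rw [zero_dotProduct]
  rw [hk, finrank_six] at hm
  have h3 := LinearMap.finrank_range_add_finrank_ker e.mulVecLin
  rw [finrank_six] at h3
  refine ⟨m, ?_⟩
  unfold Matrix.rank
  omega

theorem rank_add_le' (A B : M6 F) : (A + B).rank ≤ A.rank + B.rank := by
  unfold Matrix.rank
  rw [Matrix.mulVecLin_add]
  calc finrank F (LinearMap.range (A.mulVecLin + B.mulVecLin)) ≤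
      finrank F (LinearMap.range A.mulVecLin ⊔ LinearMap.range B.mulVecLin : Submodule F _) :=
        Submodule.finrank_mono (LinearMap.range_add_le _ _)
    _ ≤ _ := Submodule.finrank_add_le_finrank_add_finrank _ _

theorem eq_zero_of_rank {A : M6 F} (h : A.rank = 0) : A = 0 := by
  have h1 : LinearMap.range A.mulVecLin = ⊥ := Submodule.finrank_eq_zero.1 h
  ext i j
  have h2 : A.mulVecLin (Pi.single j 1) ∈ LinearMap.range A.mulVecLin := ⟨_, rfl⟩
  rw [h1, Submodule.mem_bot, Matrix.mulVecLin_apply, Matrix.mulVec_single_one] at h2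
  exact congrFun h2 i

theorem rank_add {e : M6 F} (h1 : e * e = e) : e.rank + (1 - e).rank = 6 := by
  apply le_antisymm
  · have h3 := LinearMap.finrank_range_add_finrank_ker (1 - e).mulVecLin
    rw [finrank_six] at h3
    have h4 : LinearMap.range e.mulVecLin ≤ LinearMap.ker (1 - e).mulVecLin := by
      rintro _ ⟨x, rfl⟩
      rw [LinearMap.mem_ker, Matrix.mulVecLin_apply, Matrix.mulVecLin_apply, Matrix.mulVec_mulVec, sub_mul, one_mul, h1,
        sub_self, Matrix.zero_mulVec]
    have h5 := Submodule.finrank_mono h4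
    unfold Matrix.rank
    omega
  · have h := rank_add_le' e (1 - e)
    rw [add_sub_cancel, Matrix.rank_one] at h
    exact h

theorem rf_cases {e : M6 F} (h1 : e * e = e) (h2 : sa e = e) (h3 : e ≠ 0) (h4 : e ≠ 1) : Rf e ∨ Rf (1 - e) := by
  have hS := adj_sa (F := F)
  have h1' : (1 - e) * (1 - e) = 1 - e := by linear_combination (norm := noncomm_ring) h1
  have h2' : sa (1 - e) = 1 - e := by rw [hS.sub, hS.one, h2]
  obtain ⟨m, hm⟩ := rank_even h1 h2
  obtain ⟨m', hm'⟩ := rank_even h1' h2'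
  have h5 := rank_add h1
  have h6 : e.rank ≠ 0 := fun h => h3 (eq_zero_of_rank h)
  have h7 : (1 - e).rank ≠ 0 := fun h => h4 (sub_eq_zero.1 (eq_zero_of_rank h)).symm
  by_cases h : m = 1
  · left
    exact ⟨h1, h2, by omega⟩
  · right
    exact ⟨h1', h2', by omega⟩

namespace Rf

variable {e f : M6 F}

theorem ne_zero (h : Rf e) : e ≠ 0 := by
  intro h0
  have h1 := h.rk
  rw [h0, Matrix.rank_zero] at h1
  omega

/-- no unit in `e R + f R` -/
theorem no_unit (he : Rf e) (hf : Rf f) (a b : M6 F) (c : F) (hc : c ≠ 0) : e * a + f * b ≠ c • (1 : M6 F) := by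
  intro h
  have h1 := rank_add_le' (e * a) (f * b)
  have h2 := Matrix.rank_mul_le_left e a
  have h3 := Matrix.rank_mul_le_left f b
  rw [he.rk] at h2
  rw [hf.rk] at h3
  rw [h] at h1
  have h4 : (c • (1 : M6 F)).rank = 6 := by
    have h5 := Matrix.rank_mul_le_left (c • (1 : M6 F)) (c⁻¹ • (1 : M6 F))
    rw [Matrix.smul_mul, Matrix.one_mul, smul_smul, mul_inv_cancel₀ hc, one_smul, Matrix.rank_one] at h5
    have h6 := Matrix.rank_le_card_width (c • (1 : M6 F))
    have h7 : Fintype.card (Fin 3 ⊕ Fin 3) = 6 := rfl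
    omega
  omega

theorem conj (he : Rf e) {a b : M6 F} (hab : b * a = 1) (hb : sa a = b) : Rf (a * e * b) := by
  have hS := adj_sa (F := F)
  have hab' : a * b = 1 := mul_eq_one_comm.1 hab
  refine ⟨?_, ?_, ?_⟩
  · linear_combination (norm := noncomm_ring) a * e * hab * e * b + a * he.idem * b
  · rw [hS.mul, hS.mul, he.adj, hb, ← hb, hS.st_st, mul_assoc]
  · apply le_antisymm
    · calc (a * e * b).rank ≤ (a * e).rank := Matrix.rank_mul_le_left _ _
        _ ≤ e.rank := Matrix.rank_mul_le_right _ _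
        _ = 2 := he.rk
    · have h1 : e = b * (a * e * b) * a := by
        have : b * (a * e * b) * a = (b * a) * e * (b * a) := by noncomm_ring
        rw [this, hab, one_mul, mul_one]
      calc 2 = e.rank := he.rk.symm
        _ = (b * (a * e * b) * a).rank := by rw [← h1]
        _ ≤ (b * (a * e * b)).rank := Matrix.rank_mul_le_left _ _
        _ ≤ (a * e * b).rank := Matrix.rank_mul_le_right _ _

/-- self-adjoint elements are scalars on the image of `e` -/
theorem scalar (he : Rf e) (h2 : (2 : F) ≠ 0) {A : M6 F} (hA : sa A = A) : ∃ c : F, e * A * e = c • e := by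
  obtain ⟨w, hw⟩ : ∃ x, e *ᵥ x ≠ 0 := by
    by_contra hcon
    push Not at hcon
    apply he.ne_zero
    ext i j
    have := congrFun (hcon (Pi.single j 1)) i
    rw [Matrix.mulVec_single_one] at this
    exact this
  set w1 := e *ᵥ w with hw1
  have ew1 : e *ᵥ w1 = w1 := by rw [hw1, Matrix.mulVec_mulVec, he.idem]
  obtain ⟨y, hy⟩ := form_ne hw
  set w2 := e *ᵥ y with hw2
  have ew2 : e *ᵥ w2 = w2 := by rw [hw2, Matrix.mulVec_mulVec, he.idem]
  have hb : sympForm 3 F w1 w2 ≠ 0 := by
    rw [← ew1, form_sa, he.adj] at hy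
    exact hy
  have hB := form_symp (F := F)
  -- the image of `e`
  have hspan : ∀ z, ∃ α β : F, e *ᵥ z = α • w1 + β • w2 := by
    intro z
    have hli : LinearIndependent F ![w1, w2] := by
      rw [LinearIndependent.pair_iff]
      intro s t hst
      have h3 : sympForm 3 F (s • w1 + t • w2) w2 = 0 := by
        rw [hst]
        unfold sympForm
        rw [zero_dotProduct]
      have h4 : sympForm 3 F (s • w1 + t • w2) w1 = 0 := by
        rw [hst]
        unfold sympForm
        rw [zero_dotProduct]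
      rw [hB.bilinear.add_left, hB.bilinear.smul_left, hB.bilinear.smul_left, hB.alternating, mul_zero, add_zero] at h3
      rw [hB.bilinear.add_left, hB.bilinear.smul_left, hB.bilinear.smul_left, hB.alternating, mul_zero, zero_add,
        hB.skew w2 w1, mul_neg, neg_eq_zero] at h4
      exact ⟨(mul_eq_zero.1 h3).resolve_right hb, (mul_eq_zero.1 h4).resolve_right hb⟩
    have hle : Submodule.span F (Set.range ![w1, w2]) ≤ LinearMap.range e.mulVecLin := by
      rw [Submodule.span_le]
      rintro _ ⟨i, rfl⟩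
      fin_cases i
      · exact ⟨w1, ew1⟩
      · exact ⟨w2, ew2⟩
    have hfr : finrank F (Submodule.span F (Set.range ![w1, w2])) = finrank F (LinearMap.range e.mulVecLin) := by
      rw [finrank_span_eq_card hli, Fintype.card_fin]
      exact he.rk.symm
    have heq := Submodule.eq_of_le_of_finrank_eq hle hfr
    have hz : e *ᵥ z ∈ Submodule.span F (Set.range ![w1, w2]) := by
      rw [heq]
      exact ⟨z, rfl⟩
    rw [Matrix.range_cons, Matrix.range_cons, Matrix.range_empty, Set.union_empty, Set.singleton_union,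
      Submodule.mem_span_pair] at hz
    obtain ⟨α, β, h⟩ := hz
    exact ⟨α, β, h.symm⟩
  -- diagonal
  have hdiag : ∀ v, sympForm 3 F v (A *ᵥ v) = 0 := by
    intro v
    have h3 : sympForm 3 F v (A *ᵥ v) = -sympForm 3 F v (A *ᵥ v) := by
      conv_lhs => rw [← hA, ← form_sa]
      exact hB.skew _ _
    have h4 : (2 : F) * sympForm 3 F v (A *ᵥ v) = 0 := by linear_combination h3
    exact (mul_eq_zero.1 h4).resolve_left h2
  obtain ⟨α, β, h11⟩ := hspan (A *ᵥ w1)
  obtain ⟨γ, δ, h12⟩ := hspan (A *ᵥ w2)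
  have z1 : ∀ v, sympForm 3 F w1 (e *ᵥ v) = sympForm 3 F w1 v := by
    intro v
    conv_rhs => rw [← ew1, form_sa, he.adj]
  have z2 : ∀ v, sympForm 3 F w2 (e *ᵥ v) = sympForm 3 F w2 v := by
    intro v
    conv_rhs => rw [← ew2, form_sa, he.adj]
  have hβ : β = 0 := by
    have h3 := z1 (A *ᵥ w1)
    rw [h11, hdiag, hB.bilinear.add_right, hB.bilinear.smul_right, hB.bilinear.smul_right, hB.alternating, mul_zero,
      zero_add] at h3
    exact (mul_eq_zero.1 h3).resolve_right hb
  have hγ : γ = 0 := by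
    have h3 := z2 (A *ᵥ w2)
    rw [h12, hdiag, hB.bilinear.add_right, hB.bilinear.smul_right, hB.bilinear.smul_right, hB.alternating, mul_zero,
      add_zero, hB.skew w2 w1, mul_neg, neg_eq_zero] at h3
    exact (mul_eq_zero.1 h3).resolve_right hb
  have hδ : δ = α := by
    have h3 := z1 (A *ᵥ w2)
    have h4 := z2 (A *ᵥ w1)
    rw [h12, hγ, zero_smul, zero_add, hB.bilinear.smul_right] at h3
    rw [h11, hβ, zero_smul, add_zero, hB.bilinear.smul_right] at h4
    have h5 : sympForm 3 F w1 (A *ᵥ w2) = -sympForm 3 F w2 (A *ᵥ w1) := by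
      conv_lhs => rw [← hA, ← form_sa]
      exact hB.skew _ _
    rw [hB.skew w2 w1] at h4
    have h6 : (δ - α) * sympForm 3 F w1 w2 = 0 := by linear_combination h3 + h4 + h5
    exact sub_eq_zero.1 ((mul_eq_zero.1 h6).resolve_right hb)
  refine ⟨α, ?_⟩
  have key : ∀ z, (e * A * e) *ᵥ z = (α • e) *ᵥ z := by
    intro z
    obtain ⟨a, b, hz⟩ := hspan z
    rw [← Matrix.mulVec_mulVec, ← Matrix.mulVec_mulVec, Matrix.smul_mulVec, hz, Matrix.mulVec_add, Matrix.mulVec_add,
      Matrix.mulVec_smul, Matrix.mulVec_smul, Matrix.mulVec_smul, Matrix.mulVec_smul, h11, h12, hβ, hγ, hδ]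
    simp only [zero_smul, add_zero, zero_add, smul_add, smul_smul, mul_comm]
  ext i j
  have := congrFun (key (Pi.single j 1)) i
  rw [Matrix.mulVec_single_one, Matrix.mulVec_single_one] at this
  exact this

end Rf

end Cfsg.Agent.H476.JTwo
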