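import Mathlib

/-!
# The 315 root lines of the double cover of `J₂` over the quaternions (helper476, for S5806)

`Q` : quaternions `(a + b τ) + (c + d τ) i + (e + f τ) j + (g + h τ) i j` with `i² = -1`, `j² = -3`, `τ² = τ + 1`, integral
coordinates; `tab` : 315 vectors (one on each root line); `idx` : the permutations of the lines given by the generating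
reflections `gen`. The kernel check is done with residues modulo `MM = 2 ^ 40`.
-/

set_option autoImplicit false
set_option maxRecDepth 100000
set_option Elab.async false

namespace Cfsg.Agent.H476.JTwo

/-- integral quaternions over `ℤ[τ]` -/
structure Q where
  a : Int
  b : Int
  c : Int
  d : Int
  e : Int
  f : Int
  g : Int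
  h : Int

namespace Q

def zero : Q := ⟨0, 0, 0, 0, 0, 0, 0, 0⟩
def add (x y : Q) : Q := ⟨x.a + y.a, x.b + y.b, x.c + y.c, x.d + y.d, x.e + y.e, x.f + y.f, x.g + y.g, x.h + y.h⟩
def sub (x y : Q) : Q := ⟨x.a - y.a, x.b - y.b, x.c - y.c, x.d - y.d, x.e - y.e, x.f - y.f, x.g - y.g, x.h - y.h⟩
def smul (n : Int) (x : Q) : Q := ⟨n * x.a, n * x.b, n * x.c, n * x.d, n * x.e, n * x.f, n * x.g, n * x.h⟩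
def conj (x : Q) : Q := ⟨x.a, x.b, -x.c, -x.d, -x.e, -x.f, -x.g, -x.h⟩

/-- first coordinate of a product in `ℤ[τ]` -/
def p0 (a b c d : Int) : Int := a * c + b * d
/-- second coordinate of a product in `ℤ[τ]` -/
def p1 (a b c d : Int) : Int := a * d + b * c + b * d

def mul (x y : Q) : Q :=
  ⟨p0 x.a x.b y.a y.b - p0 x.c x.d y.c y.d - 3 * p0 x.e x.f y.e y.f - 3 * p0 x.g x.h y.g y.h,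
   p1 x.a x.b y.a y.b - p1 x.c x.d y.c y.d - 3 * p1 x.e x.f y.e y.f - 3 * p1 x.g x.h y.g y.h,
   p0 x.a x.b y.c y.d + p0 x.c x.d y.a y.b + 3 * p0 x.e x.f y.g y.h - 3 * p0 x.g x.h y.e y.f,
   p1 x.a x.b y.c y.d + p1 x.c x.d y.a y.b + 3 * p1 x.e x.f y.g y.h - 3 * p1 x.g x.h y.e y.f,
   p0 x.a x.b y.e y.f + p0 x.e x.f y.a y.b - p0 x.c x.d y.g y.h + p0 x.g x.h y.c y.d,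
   p1 x.a x.b y.e y.f + p1 x.e x.f y.a y.b - p1 x.c x.d y.g y.h + p1 x.g x.h y.c y.d,
   p0 x.a x.b y.g y.h + p0 x.g x.h y.a y.b + p0 x.c x.d y.e y.f - p0 x.e x.f y.c y.d,
   p1 x.a x.b y.g y.h + p1 x.g x.h y.a y.b + p1 x.c x.d y.e y.f - p1 x.e x.f y.c y.d⟩

end Q

/-- vectors of length three -/
structure V where
  x : Q
  y : Q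
  z : Q

/-- `w^* v` -/
def herm (w v : V) : Q := ((w.x.conj.mul v.x).add (w.y.conj.mul v.y)).add (w.z.conj.mul v.z)

/-- `n` times the reflection of `v` in `w`, `n = w^* w` -/
def refl (n : Int) (w v : V) : V :=
  ⟨(v.x.smul n).sub (w.x.mul ((herm w v).smul 2)), (v.y.smul n).sub (w.y.mul ((herm w v).smul 2)),
    (v.z.smul n).sub (w.z.mul ((herm w v).smul 2))⟩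

/-! ### residues -/

/-- the modulus `2 ^ 40` -/
def MM : ℕ := 1099511627776

/-- residues of quaternions -/
structure R where
  a : ℕ
  b : ℕ
  c : ℕ
  d : ℕ
  e : ℕ
  f : ℕ
  g : ℕ
  h : ℕ

/-- evaluate `e` before passing it to `k` (in the kernel) -/
noncomputable def force {α : Type} (e : ℕ) (k : ℕ → α) : α :=
  Nat.rec (motive := fun _ => α) (k 0) (fun m _ => k m) (Nat.add e 1)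

theorem force_eq {α : Type} (e : ℕ) (k : ℕ → α) : force e k = k e := rfl

/-- evaluate all coordinates -/
noncomputable def forceR {α : Type} (x : R) (k : R → α) : α :=
  force x.a fun a => force x.b fun b => force x.c fun c => force x.d fun d =>
  force x.e fun e => force x.f fun f => force x.g fun g => force x.h fun h => k ⟨a, b, c, d, e, f, g, h⟩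

theorem forceR_eq {α : Type} (x : R) (k : R → α) : forceR x k = k x := rfl

namespace R

def n0 (a b c d : ℕ) : ℕ := Nat.add (Nat.mul a c) (Nat.mul b d)
def n1 (a b c d : ℕ) : ℕ := Nat.add (Nat.add (Nat.mul a d) (Nat.mul b c)) (Nat.mul b d)

/-- `p + q + 3 r - 3 s` -/
def cb (p q r s : ℕ) : ℕ :=
  Nat.mod (Nat.add (Nat.add p q) (Nat.add (Nat.mul 3 r) (Nat.mul 3298534883325 s))) 1099511627776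
/-- `p + q + r - s` -/
def cb' (p q r s : ℕ) : ℕ :=
  Nat.mod (Nat.add (Nat.add p q) (Nat.add r (Nat.mul 1099511627775 s))) 1099511627776
/-- `p - q - 3 r - 3 s` -/
def cb0 (p q r s : ℕ) : ℕ :=
  Nat.mod (Nat.add p (Nat.mul 1099511627775 (Nat.add q (Nat.mul 3 (Nat.add r s))))) 1099511627776

def mul (x y : R) : R :=
  ⟨cb0 (n0 x.a x.b y.a y.b) (n0 x.c x.d y.c y.d) (n0 x.e x.f y.e y.f) (n0 x.g x.h y.g y.h),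
   cb0 (n1 x.a x.b y.a y.b) (n1 x.c x.d y.c y.d) (n1 x.e x.f y.e y.f) (n1 x.g x.h y.g y.h),
   cb (n0 x.a x.b y.c y.d) (n0 x.c x.d y.a y.b) (n0 x.e x.f y.g y.h) (n0 x.g x.h y.e y.f),
   cb (n1 x.a x.b y.c y.d) (n1 x.c x.d y.a y.b) (n1 x.e x.f y.g y.h) (n1 x.g x.h y.e y.f),
   cb' (n0 x.a x.b y.e y.f) (n0 x.e x.f y.a y.b) (n0 x.g x.h y.c y.d) (n0 x.c x.d y.g y.h),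
   cb' (n1 x.a x.b y.e y.f) (n1 x.e x.f y.a y.b) (n1 x.g x.h y.c y.d) (n1 x.c x.d y.g y.h),
   cb' (n0 x.a x.b y.g y.h) (n0 x.g x.h y.a y.b) (n0 x.c x.d y.e y.f) (n0 x.e x.f y.c y.d),
   cb' (n1 x.a x.b y.g y.h) (n1 x.g x.h y.a y.b) (n1 x.c x.d y.e y.f) (n1 x.e x.f y.c y.d)⟩

def neg1 (n : ℕ) : ℕ := Nat.mul 1099511627775 n
def conj (x : R) : R := ⟨x.a, x.b, neg1 x.c, neg1 x.d, neg1 x.e, neg1 x.f, neg1 x.g, neg1 x.h⟩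

/-- `2 (x + y + z)` -/
def sum2 (x y z : R) : R :=
  ⟨Nat.mul 2 (Nat.add (Nat.add x.a y.a) z.a), Nat.mul 2 (Nat.add (Nat.add x.b y.b) z.b),
   Nat.mul 2 (Nat.add (Nat.add x.c y.c) z.c), Nat.mul 2 (Nat.add (Nat.add x.d y.d) z.d),
   Nat.mul 2 (Nat.add (Nat.add x.e y.e) z.e), Nat.mul 2 (Nat.add (Nat.add x.f y.f) z.f),
   Nat.mul 2 (Nat.add (Nat.add x.g y.g) z.g), Nat.mul 2 (Nat.add (Nat.add x.h y.h) z.h)⟩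

def ms (n p q : ℕ) : ℕ := Nat.mod (Nat.add (Nat.mul n p) (Nat.mul 1099511627775 q)) 1099511627776
/-- `n x - y` -/
def msub (n : ℕ) (x y : R) : R :=
  ⟨ms n x.a y.a, ms n x.b y.b, ms n x.c y.c, ms n x.d y.d, ms n x.e y.e, ms n x.f y.f, ms n x.g y.g, ms n x.h y.h⟩

def eqm (d p q : ℕ) : Bool := Nat.beq p (Nat.mod (Nat.mul d q) 1099511627776)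
/-- `x = d y` (`x` reduced) -/
def eqs (d : ℕ) (x y : R) : Bool :=
  eqm d x.a y.a && (eqm d x.b y.b && (eqm d x.c y.c && (eqm d x.d y.d && (eqm d x.e y.e && (eqm d x.f y.f &&
    (eqm d x.g y.g && eqm d x.h y.h))))))

end R

/-- residue of an integer -/
def res : Int → ℕ
  | .ofNat n => n
  | .negSucc n => Nat.mul 1099511627775 (Nat.succ n)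

def resQ (x : Q) : R := ⟨res x.a, res x.b, res x.c, res x.d, res x.e, res x.f, res x.g, res x.h⟩

structure RV where
  x : R
  y : R
  z : R

noncomputable def forceV {α : Type} (v : V) (k : RV → α) : α :=
  forceR (resQ v.x) fun x => forceR (resQ v.y) fun y => forceR (resQ v.z) fun z => k ⟨x, y, z⟩

theorem forceV_eq {α : Type} (v : V) (k : RV → α) : forceV v k = k ⟨resQ v.x, resQ v.y, resQ v.z⟩ := rfl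

/-- product, all coordinates evaluated -/
noncomputable def mulK {α : Type} (x y : R) (k : R → α) : α :=
  force (R.cb0 (R.n0 x.a x.b y.a y.b) (R.n0 x.c x.d y.c y.d) (R.n0 x.e x.f y.e y.f) (R.n0 x.g x.h y.g y.h)) fun a =>
  force (R.cb0 (R.n1 x.a x.b y.a y.b) (R.n1 x.c x.d y.c y.d) (R.n1 x.e x.f y.e y.f) (R.n1 x.g x.h y.g y.h)) fun b =>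
  force (R.cb (R.n0 x.a x.b y.c y.d) (R.n0 x.c x.d y.a y.b) (R.n0 x.e x.f y.g y.h) (R.n0 x.g x.h y.e y.f)) fun c =>
  force (R.cb (R.n1 x.a x.b y.c y.d) (R.n1 x.c x.d y.a y.b) (R.n1 x.e x.f y.g y.h) (R.n1 x.g x.h y.e y.f)) fun d =>
  force (R.cb' (R.n0 x.a x.b y.e y.f) (R.n0 x.e x.f y.a y.b) (R.n0 x.g x.h y.c y.d) (R.n0 x.c x.d y.g y.h)) fun e =>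
  force (R.cb' (R.n1 x.a x.b y.e y.f) (R.n1 x.e x.f y.a y.b) (R.n1 x.g x.h y.c y.d) (R.n1 x.c x.d y.g y.h)) fun f =>
  force (R.cb' (R.n0 x.a x.b y.g y.h) (R.n0 x.g x.h y.a y.b) (R.n0 x.c x.d y.e y.f) (R.n0 x.e x.f y.c y.d)) fun g =>
  force (R.cb' (R.n1 x.a x.b y.g y.h) (R.n1 x.g x.h y.a y.b) (R.n1 x.c x.d y.e y.f) (R.n1 x.e x.f y.c y.d)) fun h =>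
  k ⟨a, b, c, d, e, f, g, h⟩

theorem mulK_eq {α : Type} (x y : R) (k : R → α) : mulK x y k = k (x.mul y) := by
  unfold mulK R.mul
  simp only [force_eq]

def reflR (n : ℕ) (wc w v : RV) : RV :=
  let s := R.sum2 (wc.x.mul v.x) (wc.y.mul v.y) (wc.z.mul v.z)
  ⟨R.msub n v.x (w.x.mul s), R.msub n v.y (w.y.mul s), R.msub n v.z (w.z.mul s)⟩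

/-- the reflection -/
noncomputable def reflK {α : Type} (n : ℕ) (wc w v : RV) (k : RV → α) : α :=
  mulK wc.x v.x fun p => mulK wc.y v.y fun q => mulK wc.z v.z fun r =>
  forceR (R.sum2 p q r) fun s =>
  mulK w.x s fun x => mulK w.y s fun y => mulK w.z s fun z =>
  forceR (R.msub n v.x x) fun x => forceR (R.msub n v.y y) fun y =>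
  forceR (R.msub n v.z z) fun z => k ⟨x, y, z⟩

theorem reflK_eq {α : Type} (n : ℕ) (wc w v : RV) (k : RV → α) : reflK n wc w v k = k (reflR n wc w v) := by
  unfold reflK reflR
  simp only [forceR_eq, mulK_eq]

/-- `v' u = d y` -/
noncomputable def eqvK (d : ℕ) (v' : RV) (u : R) (y : RV) : Bool :=
  (mulK v'.x u fun p => p.eqs d y.x) && ((mulK v'.y u fun p => p.eqs d y.y) &&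
   (mulK v'.z u fun p => p.eqs d y.z))

/-- `d` is a divisor of 12 -/
def okd (d : ℕ) : Bool := Nat.ble 1 d && Nat.beq (Nat.mod 12 d) 0

noncomputable def chkK (n : ℕ) (wc w v v' : RV) : Bool :=
  reflK n wc w v fun y =>
  bif Nat.beq v'.x.a 0 then
    (bif Nat.beq v'.y.a 0 then okd v'.z.a && eqvK v'.z.a v' y.z y
     else okd v'.y.a && eqvK v'.y.a v' y.y y)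
  else okd v'.x.a && eqvK v'.x.a v' y.x y

/-- binary trees of root vectors, with the images under the generators -/
inductive T where
  | l (v : V) (ks : List ℕ)
  | n (a b : T)

namespace T

/-- look up -/
def get : T → ℕ → V
  | l v _, _ => v
  | n a b, k => bif Nat.beq (Nat.mod k 2) 0 then a.get (Nat.div k 2) else b.get (Nat.div k 2)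

/-- the list of the vectors -/
def toL : T → List V
  | l v _ => [v]
  | n a b => a.toL ++ b.toL

end T

/-- the root vectors -/
def tree : T :=
.n (.n (.n (.n (.n (.n (.n (.n (.n (.l ⟨⟨1, 0, 0, 0, 0, 0, 0, 0⟩, ⟨0, 0, 0, 0, 0, 0, 0, 0⟩, ⟨0, 0, 0, 0, 0, 0, 0, 0⟩⟩ [0, 0, 0, 1, 0, 3, 8])
  (.l ⟨⟨12, 0, 0, 0, 0, 0, 0, 0⟩, ⟨3, 0, 3, 0, 3, -2, 1, 2⟩, ⟨3, 0, -3, 6, 1, 0, 1, -2⟩⟩ [300, 305, 116, 306, 297, 289, 292]))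
  (.l ⟨⟨6, 0, 0, 0, 0, 0, 0, 0⟩, ⟨-6, 3, -6, 3, -2, 1, -4, 3⟩, ⟨-3, 3, -3, 3, -3, 1, 1, -1⟩⟩ [146, 233, 240, 241, 157, 41, 196]))
  (.n (.l ⟨⟨6, 0, 0, 0, 0, 0, 0, 0⟩, ⟨-3, 3, 3, -3, -1, 1, -3, 1⟩, ⟨6, -3, 6, -3, -2, 1, -4, 3⟩⟩ [32, 94, 39, 27, 164, 149, 16])
  (.l ⟨⟨6, 0, 0, 0, 0, 0, 0, 0⟩, ⟨0, 0, -6, 0, 0, 0, 0, 0⟩, ⟨-3, 0, 3, -6, 1, -2, -1, 0⟩⟩ [194, 163, 151, 304, 72, 234, 254])))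
  (.n (.n (.n (.l ⟨⟨6, 0, 0, 0, 0, 0, 0, 0⟩, ⟨3, -3, -3, 3, 1, -1, 3, -1⟩, ⟨-6, 3, -6, 3, 2, -1, 4, -3⟩⟩ [64, 29, 40, 8, 107, 52, 60])
  (.l ⟨⟨6, 0, 0, 0, 0, 0, 0, 0⟩, ⟨-3, 3, 3, -3, 1, -1, 3, -1⟩, ⟨-6, 3, 6, -3, -4, 3, 2, -1⟩⟩ [247, 157, 150, 280, 267, 183, 244]))
  (.l ⟨⟨0, 0, 0, 0, 0, 0, 0, 0⟩, ⟨3, 0, 0, 0, 0, 0, 0, 0⟩, ⟨0, 0, 0, 0, 1, -1, 0, -1⟩⟩ [160, 62, 62, 285, 62, 57, 209]))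
  (.n (.l ⟨⟨6, 0, 0, 0, 0, 0, 0, 0⟩, ⟨0, 0, 0, 0, -2, 2, 0, 2⟩, ⟨-3, 6, 3, 0, 1, -2, -1, 0⟩⟩ [118, 37, 99, 216, 227, 26, 228])
  (.l ⟨⟨12, 0, 0, 0, 0, 0, 0, 0⟩, ⟨-3, 0, -3, 0, 3, -2, 1, 2⟩, ⟨3, -6, 3, 0, 1, -2, -1, 0⟩⟩ [112, 246, 93, 237, 106, 199, 280]))))
  (.n (.n (.n (.n (.l ⟨⟨1, 0, 0, 0, 0, 0, 0, 0⟩, ⟨-1, 0, 0, 0, 0, 0, 0, 0⟩, ⟨0, 0, 0, 0, 0, 0, 0, 0⟩⟩ [4, 4, 54, 16, 63, 44, 64])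
  (.l ⟨⟨2, 0, 0, 0, 0, 0, 0, 0⟩, ⟨0, 0, -2, 0, 0, 0, 0, 0⟩, ⟨1, 0, 1, 0, -1, 0, -1, 0⟩⟩ [198, 156, 171, 136, 138, 172, 153]))
  (.l ⟨⟨6, 0, 0, 0, 0, 0, 0, 0⟩, ⟨-3, 3, -3, 3, -3, 1, 1, -1⟩, ⟨-6, 3, -6, 3, -2, 1, -4, 3⟩⟩ [240, 284, 146, 225, 251, 48, 263]))
  (.n (.l ⟨⟨4, 0, 0, 0, 0, 0, 0, 0⟩, ⟨-1, 0, -1, 0, 1, 0, -1, 0⟩, ⟨-1, 0, 1, 0, -1, 0, -1, 0⟩⟩ [22, 82, 202, 184, 80, 78, 80])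
  (.l ⟨⟨6, 0, 0, 0, 0, 0, 0, 0⟩, ⟨0, 3, 0, -3, -2, -1, 0, -1⟩, ⟨-3, 3, 3, -3, 1, -1, 3, -1⟩⟩ [207, 130, 309, 121, 265, 166, 189])))
  (.n (.n (.n (.l ⟨⟨6, 0, 0, 0, 0, 0, 0, 0⟩, ⟨0, -3, 0, -3, 0, 1, -2, -1⟩, ⟨3, 3, -3, -3, 1, 1, -1, -3⟩⟩ [49, 12, 122, 97, 143, 144, 40])
  (.l ⟨⟨6, 0, 0, 0, 0, 0, 0, 0⟩, ⟨0, 0, 6, 0, 0, 0, 0, 0⟩, ⟨3, -6, 3, 0, 1, 0, 1, -2⟩⟩ [293, 302, 301, 192, 262, 219, 301]))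
  (.l ⟨⟨6, 0, 0, 0, 0, 0, 0, 0⟩, ⟨0, 0, 0, 0, -2, 2, 0, 2⟩, ⟨-3, 0, -3, 6, -1, 0, -1, 2⟩⟩ [67, 105, 245, 295, 200, 206, 243]))
  (.n (.l ⟨⟨12, 0, 0, 0, 0, 0, 0, 0⟩, ⟨3, 0, 3, 0, -3, 2, -1, -2⟩, ⟨-3, 6, -3, 0, -1, 2, 1, 0⟩⟩ [224, 248, 142, 135, 34, 134, 187])
  (.l ⟨⟨6, 0, 0, 0, 0, 0, 0, 0⟩, ⟨3, -3, 3, -3, 3, -1, -1, 1⟩, ⟨6, -3, 6, -3, 2, -1, 4, -3⟩⟩ [144, 234, 128, 103, 252, 122, 305])))))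
  (.n (.n (.n (.n (.n (.l ⟨⟨6, 0, 0, 0, 0, 0, 0, 0⟩, ⟨0, -3, 0, -3, 0, 1, -2, -1⟩, ⟨-3, 3, 3, -3, -1, 1, -3, 1⟩⟩ [7, 27, 31, 32, 33, 34, 0])
  (.l ⟨⟨3, 0, 0, 0, 0, 0, 0, 0⟩, ⟨0, 0, 0, 0, 0, 1, 1, -1⟩, ⟨0, 0, 0, 0, 0, 0, 0, 0⟩⟩ [311, 311, 310, 311, 166, 282, 123]))
  (.l ⟨⟨2, 0, 0, 0, 0, 0, 0, 0⟩, ⟨0, 0, 2, 0, 0, 0, 0, 0⟩, ⟨1, 0, -1, 0, 1, 0, -1, 0⟩⟩ [185, 87, 158, 272, 44, 115, 273]))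
  (.n (.l ⟨⟨6, 0, 0, 0, 0, 0, 0, 0⟩, ⟨-3, 6, -3, 0, 1, 0, 1, -2⟩, ⟨-6, 0, 0, 0, 0, 0, 0, 0⟩⟩ [73, 19, 191, 59, 192, 193, 154])
  (.l ⟨⟨6, 0, 0, 0, 0, 0, 0, 0⟩, ⟨3, -6, -3, 0, 1, -2, -1, 0⟩, ⟨0, 0, 0, 0, 0, 2, 2, -2⟩⟩ [180, 199, 242, 297, 176, 195, 107])))
  (.n (.n (.n (.l ⟨⟨6, 0, 0, 0, 0, 0, 0, 0⟩, ⟨6, -3, 6, -3, -2, 1, -4, 3⟩, ⟨-3, 3, 3, -3, -1, 1, -3, 1⟩⟩ [39, 38, 32, 125, 76, 126, 48])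
  (.l ⟨⟨6, 0, 0, 0, 0, 0, 0, 0⟩, ⟨0, 0, 0, 0, 2, -2, 0, -2⟩, ⟨3, 0, 3, 0, 1, 2, -3, 2⟩⟩ [179, 222, 220, 177, 282, 265, 248]))
  (.l ⟨⟨6, 0, 0, 0, 0, 0, 0, 0⟩, ⟨-3, -3, -3, -3, 1, 3, 1, 1⟩, ⟨0, 3, 0, 3, 0, 1, -2, -1⟩⟩ [243, 236, 193, 129, 183, 73, 63]))
  (.n (.l ⟨⟨6, 0, 0, 0, 0, 0, 0, 0⟩, ⟨0, -3, 0, 3, 2, 1, 0, 1⟩, ⟨3, 3, -3, -3, -1, -1, 1, 3⟩⟩ [229, 108, 241, 30, 236, 239, 242])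
  (.l ⟨⟨6, 0, 0, 0, 0, 0, 0, 0⟩, ⟨0, 0, 0, 0, 0, 2, 2, -2⟩, ⟨-3, 0, -3, 6, 1, 0, 1, -2⟩⟩ [274, 137, 170, 283, 99, 255, 302]))))
  (.n (.n (.n (.n (.l ⟨⟨2, 0, 0, 0, 0, 0, 0, 0⟩, ⟨1, 0, 1, 0, 1, 0, 1, 0⟩, ⟨-2, 0, 0, 0, 0, 0, 0, 0⟩⟩ [35, 85, 68, 6, 87, 24, 88])
  (.l ⟨⟨6, 0, 0, 0, 0, 0, 0, 0⟩, ⟨0, 3, 0, 3, 0, 1, -2, -1⟩, ⟨-3, 3, -3, 3, -3, 1, 1, -1⟩⟩ [279, 278, 210, 288, 211, 187, 224]))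
  (.l ⟨⟨6, 0, 0, 0, 0, 0, 0, 0⟩, ⟨-3, 0, 3, -6, 1, -2, -1, 0⟩, ⟨0, 0, -6, 0, 0, 0, 0, 0⟩⟩ [151, 147, 194, 189, 191, 233, 146]))
  (.n (.l ⟨⟨6, 0, 0, 0, 0, 0, 0, 0⟩, ⟨3, 0, 3, 0, -1, -2, 3, -2⟩, ⟨0, 0, 0, 0, 0, -2, -2, 2⟩⟩ [213, 214, 43, 206, 216, 38, 24])
  (.l ⟨⟨6, 0, 0, 0, 0, 0, 0, 0⟩, ⟨0, 0, 0, 0, 2, -2, 0, -2⟩, ⟨3, 0, -3, 0, 3, -2, 1, 2⟩⟩ [119, 260, 239, 96, 88, 229, 174])))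
  (.n (.n (.n (.l ⟨⟨2, 0, 0, 0, 0, 0, 0, 0⟩, ⟨2, 0, 0, 0, 0, 0, 0, 0⟩, ⟨1, 0, 1, 0, 1, 0, 1, 0⟩⟩ [18, 69, 85, 68, 158, 14, 158])
  (.l ⟨⟨6, 0, 0, 0, 0, 0, 0, 0⟩, ⟨-3, 0, 3, 0, 3, -2, 1, 2⟩, ⟨0, 0, 0, 0, 0, 2, 2, -2⟩⟩ [306, 298, 231, 305, 222, 312, 314]))
  (.l ⟨⟨2, 0, 0, 0, 0, 0, 0, 0⟩, ⟨-1, 0, 1, 0, -1, 0, 1, 0⟩, ⟨0, 0, 2, 0, 0, 0, 0, 0⟩⟩ [182, 70, 87, 80, 69, 173, 180]))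
  (.n (.l ⟨⟨6, 0, 0, 0, 0, 0, 0, 0⟩, ⟨-3, 0, -3, 6, 1, 0, 1, -2⟩, ⟨0, 0, 0, 0, 0, -2, -2, 2⟩⟩ [259, 170, 261, 255, 37, 262, 185])
  (.l ⟨⟨12, 0, 0, 0, 0, 0, 0, 0⟩, ⟨-3, 0, -3, 0, 3, -2, 1, 2⟩, ⟨-3, 6, -3, 0, -1, 2, 1, 0⟩⟩ [246, 112, 221, 239, 111, 291, 296]))))))
  (.n (.n (.n (.n (.n (.n (.l ⟨⟨1, 0, 0, 0, 0, 0, 0, 0⟩, ⟨1, 0, 0, 0, 0, 0, 0, 0⟩, ⟨0, 0, 0, 0, 0, 0, 0, 0⟩⟩ [16, 16, 14, 4, 17, 18, 19])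
  (.l ⟨⟨6, 0, 0, 0, 0, 0, 0, 0⟩, ⟨0, 0, 0, 0, -2, 2, 0, 2⟩, ⟨3, 0, -3, 0, 3, -2, 1, 2⟩⟩ [258, 216, 237, 118, 215, 157, 215]))
  (.l ⟨⟨6, 0, 0, 0, 0, 0, 0, 0⟩, ⟨0, 0, 0, 0, 0, -2, -2, 2⟩, ⟨-3, 0, -3, 0, 1, 2, -3, 2⟩⟩ [133, 43, 215, 197, 270, 228, 124]))
  (.n (.l ⟨⟨2, 0, 0, 0, 0, 0, 0, 0⟩, ⟨2, 0, 0, 0, 0, 0, 0, 0⟩, ⟨-1, 0, -1, 0, -1, 0, -1, 0⟩⟩ [69, 18, 24, 56, 182, 35, 183])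
  (.l ⟨⟨2, 0, 0, 0, 0, 0, 0, 0⟩, ⟨-1, 0, 1, 0, 1, 0, -1, 0⟩, ⟨2, 0, 0, 0, 0, 0, 0, 0⟩⟩ [115, 78, 174, 77, 156, 158, 128])))
  (.n (.n (.n (.l ⟨⟨4, 0, 0, 0, 0, 0, 0, 0⟩, ⟨1, 0, 1, 0, 1, 0, -1, 0⟩, ⟨1, 0, 1, 0, 1, 0, -1, 0⟩⟩ [45, 77, 45, 115, 9, 45, 116])
  (.l ⟨⟨0, 0, 0, 0, 0, 0, 0, 0⟩, ⟨3, 0, 0, 0, 0, 0, 0, 0⟩, ⟨0, 0, 0, 0, 0, -1, -1, 1⟩⟩ [292, 290, 290, 212, 290, 162, 256]))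
  (.l ⟨⟨6, 0, 0, 0, 0, 0, 0, 0⟩, ⟨-6, 3, 6, -3, 4, -3, -2, 1⟩, ⟨3, -3, 3, -3, -3, 1, 1, -1⟩⟩ [107, 101, 76, 263, 64, 60, 182]))
  (.n (.l ⟨⟨6, 0, 0, 0, 0, 0, 0, 0⟩, ⟨0, 3, 0, -3, 2, 1, 0, 1⟩, ⟨3, -3, 3, -3, -3, 1, 1, -1⟩⟩ [103, 148, 33, 234, 28, 235, 159])
  (.l ⟨⟨6, 0, 0, 0, 0, 0, 0, 0⟩, ⟨0, -3, 0, 3, -2, -1, 0, -1⟩, ⟨3, 3, 3, 3, 1, 3, 1, 1⟩⟩ [127, 124, 145, 308, 122, 132, 96]))))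
  (.n (.n (.n (.n (.l ⟨⟨0, 0, 0, 0, 0, 0, 0, 0⟩, ⟨1, 0, 0, 0, 0, 0, 0, 0⟩, ⟨0, 0, -1, 0, 0, 0, 0, 0⟩⟩ [20, 5, 5, 63, 20, 77, 33])
  (.l ⟨⟨6, 0, 0, 0, 0, 0, 0, 0⟩, ⟨6, 0, 0, 0, 0, 0, 0, 0⟩, ⟨-3, 0, 3, -6, -1, 2, 1, 0⟩⟩ [271, 303, 165, 314, 301, 137, 149]))
  (.l ⟨⟨6, 0, 0, 0, 0, 0, 0, 0⟩, ⟨0, -3, 0, 3, -2, -1, 0, -1⟩, ⟨3, -3, 3, -3, -3, 1, 1, -1⟩⟩ [225, 100, 98, 284, 51, 287, 219]))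
  (.n (.l ⟨⟨2, 0, 0, 0, 0, 0, 0, 0⟩, ⟨-2, 0, 0, 0, 0, 0, 0, 0⟩, ⟨-1, 0, 1, 0, 1, 0, -1, 0⟩⟩ [204, 205, 78, 84, 171, 22, 93])
  (.l ⟨⟨3, 0, 0, 0, 0, 0, 0, 0⟩, ⟨0, 0, 0, 0, 0, 0, 0, 0⟩, ⟨0, 0, 0, 0, 0, 1, 1, -1⟩⟩ [310, 212, 311, 292, 175, 283, 87])))
  (.n (.n (.n (.l ⟨⟨6, 0, 0, 0, 0, 0, 0, 0⟩, ⟨3, 3, 3, 3, 1, 3, 1, 1⟩, ⟨0, 3, 0, -3, 2, 1, 0, 1⟩⟩ [126, 145, 149, 150, 12, 32, 82])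
  (.l ⟨⟨6, 0, 0, 0, 0, 0, 0, 0⟩, ⟨3, -3, 3, -3, 3, -1, -1, 1⟩, ⟨0, 3, 0, 3, 0, 1, -2, -1⟩⟩ [265, 266, 278, 228, 207, 220, 308]))
  (.l ⟨⟨6, 0, 0, 0, 0, 0, 0, 0⟩, ⟨-3, 6, 3, 0, -1, 2, 1, 0⟩, ⟨0, 0, 0, 0, 0, -2, -2, 2⟩⟩ [200, 79, 238, 226, 67, 299, 184]))
  (.n (.l ⟨⟨12, 0, 0, 0, 0, 0, 0, 0⟩, ⟨-3, 0, 3, -6, -1, 0, -1, 2⟩, ⟨-3, 0, -3, 0, -3, 2, -1, -2⟩⟩ [253, 254, 256, 227, 206, 257, 36])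
  (.l ⟨⟨6, 0, 0, 0, 0, 0, 0, 0⟩, ⟨-3, -3, 3, 3, 1, 1, -1, -3⟩, ⟨0, -3, 0, 3, 2, 1, 0, 1⟩⟩ [249, 250, 108, 267, 193, 114, 288])))))
  (.n (.n (.n (.n (.n (.l ⟨⟨6, 0, 0, 0, 0, 0, 0, 0⟩, ⟨0, 3, 0, 3, 0, -1, 2, 1⟩, ⟨3, 3, -3, -3, 1, 1, -1, -3⟩⟩ [47, 48, 50, 51, 52, 53, 2])
  (.l ⟨⟨6, 0, 0, 0, 0, 0, 0, 0⟩, ⟨0, -3, 0, -3, 0, -1, 2, 1⟩, ⟨-3, -3, -3, -3, 1, 3, 1, 1⟩⟩ [131, 269, 236, 309, 250, 129, 205]))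
  (.l ⟨⟨6, 0, 0, 0, 0, 0, 0, 0⟩, ⟨-3, 6, 3, 0, 1, -2, -1, 0⟩, ⟨0, 0, 0, 0, 2, -2, 0, -2⟩⟩ [46, 99, 117, 219, 261, 110, 117]))
  (.n (.l ⟨⟨6, 0, 0, 0, 0, 0, 0, 0⟩, ⟨-3, 3, -3, 3, 3, -1, -1, 1⟩, ⟨6, -3, -6, 3, -4, 3, 2, -1⟩⟩ [123, 42, 164, 86, 40, 19, 92])
  (.l ⟨⟨2, 0, 0, 0, 0, 0, 0, 0⟩, ⟨2, 0, 0, 0, 0, 0, 0, 0⟩, ⟨1, 0, -1, 0, -1, 0, 1, 0⟩⟩ [84, 174, 138, 205, 172, 83, 235])))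
  (.n (.n (.n (.l ⟨⟨2, 0, 0, 0, 0, 0, 0, 0⟩, ⟨1, 0, 1, 0, 1, 0, 1, 0⟩, ⟨2, 0, 0, 0, 0, 0, 0, 0⟩⟩ [85, 35, 18, 11, 136, 16, 137])
  (.l ⟨⟨12, 0, 0, 0, 0, 0, 0, 0⟩, ⟨-3, 0, -3, 0, -3, 2, -1, -2⟩, ⟨-3, 0, 3, -6, -1, 0, -1, 2⟩⟩ [256, 313, 253, 282, 181, 314, 300]))
  (.l ⟨⟨2, 0, 0, 0, 0, 0, 0, 0⟩, ⟨1, 0, 1, 0, -1, 0, -1, 0⟩, ⟨0, 0, -2, 0, 0, 0, 0, 0⟩⟩ [171, 169, 198, 202, 204, 272, 210]))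
  (.n (.l ⟨⟨6, 0, 0, 0, 0, 0, 0, 0⟩, ⟨0, 3, 0, -3, -2, -1, 0, -1⟩, ⟨3, 3, -3, -3, -1, -1, 1, 3⟩⟩ [183, 104, 244, 33, 243, 150, 163])
  (.l ⟨⟨6, 0, 0, 0, 0, 0, 0, 0⟩, ⟨3, 3, 3, 3, -1, -3, -1, -1⟩, ⟨0, 3, 0, 3, 0, 1, -2, -1⟩⟩ [263, 168, 268, 101, 104, 101, 313]))))
  (.n (.n (.n (.n (.l ⟨⟨6, 0, 0, 0, 0, 0, 0, 0⟩, ⟨-3, 3, 3, -3, -1, 1, -3, 1⟩, ⟨0, -3, 0, -3, 0, 1, -2, -1⟩⟩ [31, 97, 7, 49, 100, 89, 28])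
  (.l ⟨⟨6, 0, 0, 0, 0, 0, 0, 0⟩, ⟨3, -3, 3, -3, 3, -1, -1, 1⟩, ⟨-6, 3, -6, 3, -2, 1, -4, 3⟩⟩ [234, 144, 233, 148, 150, 151, 294]))
  (.l ⟨⟨2, 0, 0, 0, 0, 0, 0, 0⟩, ⟨0, 0, 2, 0, 0, 0, 0, 0⟩, ⟨1, 0, 1, 0, -1, 0, -1, 0⟩⟩ [167, 272, 169, 185, 196, 55, 127]))
  (.n (.l ⟨⟨6, 0, 0, 0, 0, 0, 0, 0⟩, ⟨-3, 0, -3, 0, -1, -2, 3, -2⟩, ⟨0, 0, 0, 0, 2, -2, 0, -2⟩⟩ [218, 217, 222, 25, 223, 71, 76])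
  (.l ⟨⟨6, 0, 0, 0, 0, 0, 0, 0⟩, ⟨-3, 0, -3, 0, -1, -2, 3, -2⟩, ⟨0, 0, 0, 0, -2, 2, 0, 2⟩⟩ [217, 218, 296, 91, 283, 308, 223])))
  (.n (.n (.l ⟨⟨6, 0, 0, 0, 0, 0, 0, 0⟩, ⟨-3, 6, -3, 0, 1, 0, 1, -2⟩, ⟨6, 0, 0, 0, 0, 0, 0, 0⟩⟩ [19, 73, 154, 15, 163, 164, 32])
  (.l ⟨⟨12, 0, 0, 0, 0, 0, 0, 0⟩, ⟨-3, 6, 3, 0, 1, 0, 1, -2⟩, ⟨-3, 0, -3, 6, -1, 2, 1, 0⟩⟩ [187, 186, 277, 301, 187, 210, 279]))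
  (.n (.l ⟨⟨6, 0, 0, 0, 0, 0, 0, 0⟩, ⟨0, 3, 0, -3, 2, 1, 0, 1⟩, ⟨3, 3, 3, 3, 1, 3, 1, 1⟩⟩ [149, 228, 126, 265, 50, 39, 132])
  (.l ⟨⟨6, 0, 0, 0, 0, 0, 0, 0⟩, ⟨-6, 3, 6, -3, -4, 3, 2, -1⟩, ⟨3, -3, -3, 3, -1, 1, -3, 1⟩⟩ [251, 150, 281, 126, 240, 270, 245])))))))
  (.n (.n (.n (.n (.n (.n (.n (.l ⟨⟨0, 0, 0, 0, 0, 0, 0, 0⟩, ⟨0, 0, 0, 0, 0, 0, 0, 0⟩, ⟨1, 0, 0, 0, 0, 0, 0, 0⟩⟩ [2, 2, 1, 2, 1, 11, 12])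
  (.l ⟨⟨6, 0, 0, 0, 0, 0, 0, 0⟩, ⟨0, 0, 0, 0, 2, -2, 0, -2⟩, ⟨-3, 0, 3, 0, -3, 2, -1, -2⟩⟩ [260, 119, 270, 117, 214, 251, 173]))
  (.l ⟨⟨6, 0, 0, 0, 0, 0, 0, 0⟩, ⟨0, -3, 0, 3, 2, 1, 0, 1⟩, ⟨-3, 3, 3, -3, 1, -1, 3, -1⟩⟩ [86, 208, 211, 42, 266, 130, 89]))
  (.n (.l ⟨⟨2, 0, 0, 0, 0, 0, 0, 0⟩, ⟨1, 0, 1, 0, -1, 0, -1, 0⟩, ⟨0, 0, 2, 0, 0, 0, 0, 0⟩⟩ [169, 171, 167, 173, 174, 17, 175])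
  (.l ⟨⟨6, 0, 0, 0, 0, 0, 0, 0⟩, ⟨0, 0, 6, 0, 0, 0, 0, 0⟩, ⟨3, 0, -3, 6, -1, 2, 1, 0⟩⟩ [192, 75, 152, 302, 73, 267, 135])))
  (.n (.n (.n (.l ⟨⟨12, 0, 0, 0, 0, 0, 0, 0⟩, ⟨3, 0, -3, 6, -1, 0, -1, 2⟩, ⟨3, 0, -3, 0, -1, -2, 3, -2⟩⟩ [106, 110, 25, 109, 112, 8, 62])
  (.l ⟨⟨0, 0, 0, 0, 0, 0, 0, 0⟩, ⟨3, 0, 0, 0, 0, 0, 0, 0⟩, ⟨0, 0, 0, 0, 0, 1, 1, -1⟩⟩ [290, 292, 292, 310, 292, 161, 265]))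
  (.l ⟨⟨12, 0, 0, 0, 0, 0, 0, 0⟩, ⟨-3, 0, -3, 6, 1, -2, -1, 0⟩, ⟨3, 0, 3, -6, -1, 2, 1, 0⟩⟩ [161, 61, 162, 262, 59, 292, 293]))
  (.n (.l ⟨⟨6, 0, 0, 0, 0, 0, 0, 0⟩, ⟨-3, 3, -3, 3, 3, -1, -1, 1⟩, ⟨0, 3, 0, -3, 2, 1, 0, 1⟩⟩ [95, 30, 148, 229, 27, 230, 231])
  (.l ⟨⟨12, 0, 0, 0, 0, 0, 0, 0⟩, ⟨-3, 6, -3, 0, 1, -2, -1, 0⟩, ⟨3, 0, -3, 0, 1, 2, -3, 2⟩⟩ [201, 297, 230, 180, 313, 95, 303]))))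
  (.n (.n (.n (.n (.l ⟨⟨2, 0, 0, 0, 0, 0, 0, 0⟩, ⟨-2, 0, 0, 0, 0, 0, 0, 0⟩, ⟨-1, 0, -1, 0, -1, 0, -1, 0⟩⟩ [56, 68, 44, 18, 70, 4, 71])
  (.l ⟨⟨6, 0, 0, 0, 0, 0, 0, 0⟩, ⟨0, 0, 0, 0, 0, -2, -2, 2⟩, ⟨3, 0, 3, -6, -1, 0, -1, 2⟩⟩ [232, 261, 227, 223, 141, 305, 269]))
  (.l ⟨⟨6, 0, 0, 0, 0, 0, 0, 0⟩, ⟨6, -3, 6, -3, 2, -1, 4, -3⟩, ⟨3, -3, 3, -3, 3, -1, -1, 1⟩⟩ [128, 267, 144, 249, 281, 49, 152]))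
  (.n (.l ⟨⟨4, 0, 0, 0, 0, 0, 0, 0⟩, ⟨1, 0, 1, 0, -1, 0, 1, 0⟩, ⟨-1, 0, 1, 0, -1, 0, -1, 0⟩⟩ [81, 80, 173, 182, 81, 182, 52])
  (.l ⟨⟨6, 0, 0, 0, 0, 0, 0, 0⟩, ⟨3, -3, 3, -3, 3, -1, -1, 1⟩, ⟨0, -3, 0, -3, 0, -1, 2, 1⟩⟩ [266, 265, 280, 149, 86, 188, 172])))
  (.n (.n (.n (.l ⟨⟨6, 0, 0, 0, 0, 0, 0, 0⟩, ⟨-3, -3, 3, 3, -1, -1, 1, 3⟩, ⟨0, -3, 0, -3, 0, 1, -2, -1⟩⟩ [125, 41, 12, 38, 124, 147, 59])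
  (.l ⟨⟨6, 0, 0, 0, 0, 0, 0, 0⟩, ⟨3, 0, -3, 0, -3, 2, -1, -2⟩, ⟨0, 0, 0, 0, 0, -2, -2, 2⟩⟩ [312, 282, 223, 256, 295, 231, 201]))
  (.l ⟨⟨6, 0, 0, 0, 0, 0, 0, 0⟩, ⟨-3, 0, -3, 6, -1, 0, -1, 2⟩, ⟨0, 0, 0, 0, -2, 2, 0, 2⟩⟩ [245, 109, 67, 106, 242, 297, 190]))
  (.n (.l ⟨⟨6, 0, 0, 0, 0, 0, 0, 0⟩, ⟨-6, 3, 6, -3, -4, 3, 2, -1⟩, ⟨-3, 3, 3, -3, 1, -1, 3, -1⟩⟩ [150, 251, 247, 145, 234, 244, 35])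
  (.l ⟨⟨6, 0, 0, 0, 0, 0, 0, 0⟩, ⟨0, 0, 0, 0, 0, -2, -2, 2⟩, ⟨-3, 6, 3, 0, -1, 2, 1, 0⟩⟩ [238, 197, 200, 133, 178, 302, 104])))))
  (.n (.n (.n (.n (.n (.l ⟨⟨6, 0, 0, 0, 0, 0, 0, 0⟩, ⟨6, -3, 6, -3, -2, 1, -4, 3⟩, ⟨3, -3, -3, 3, 1, -1, 3, -1⟩⟩ [38, 39, 29, 41, 42, 43, 1])
  (.l ⟨⟨6, 0, 0, 0, 0, 0, 0, 0⟩, ⟨-3, 3, -3, 3, -3, 1, 1, -1⟩, ⟨0, 3, 0, 3, 0, 1, -2, -1⟩⟩ [210, 308, 279, 127, 130, 277, 177]))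
  (.l ⟨⟨2, 0, 0, 0, 0, 0, 0, 0⟩, ⟨-1, 0, 1, 0, 1, 0, -1, 0⟩, ⟨-2, 0, 0, 0, 0, 0, 0, 0⟩⟩ [78, 115, 204, 45, 272, 202, 277]))
  (.n (.l ⟨⟨6, 0, 0, 0, 0, 0, 0, 0⟩, ⟨6, 0, 0, 0, 0, 0, 0, 0⟩, ⟨-3, 6, -3, 0, 1, 0, 1, -2⟩⟩ [154, 155, 19, 191, 147, 123, 97])
  (.l ⟨⟨4, 0, 0, 0, 0, 0, 0, 0⟩, ⟨1, 0, -1, 0, 1, 0, 1, 0⟩, ⟨1, 0, 1, 0, -1, 0, 1, 0⟩⟩ [83, 203, 80, 172, 83, 138, 103])))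
  (.n (.n (.n (.l ⟨⟨6, 0, 0, 0, 0, 0, 0, 0⟩, ⟨3, -3, 3, -3, -3, 1, 1, -1⟩, ⟨6, -3, -6, 3, -4, 3, 2, -1⟩⟩ [121, 76, 129, 130, 10, 131, 81])
  (.l ⟨⟨6, 0, 0, 0, 0, 0, 0, 0⟩, ⟨3, 0, -3, 0, -3, 2, -1, -2⟩, ⟨0, 0, 0, 0, 0, 2, 2, -2⟩⟩ [282, 312, 283, 313, 179, 310, 267]))
  (.l ⟨⟨6, 0, 0, 0, 0, 0, 0, 0⟩, ⟨3, 0, 3, -6, -1, 0, -1, 2⟩, ⟨0, 0, 0, 0, 0, -2, -2, 2⟩⟩ [227, 120, 232, 254, 118, 254, 65]))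
  (.n (.l ⟨⟨12, 0, 0, 0, 0, 0, 0, 0⟩, ⟨-3, 0, 3, -6, 1, 0, 1, -2⟩, ⟨-3, 0, 3, 0, 1, 2, -3, 2⟩⟩ [34, 111, 89, 178, 224, 31, 106])
  (.l ⟨⟨6, 0, 0, 0, 0, 0, 0, 0⟩, ⟨-3, 3, -3, 3, -3, 1, 1, -1⟩, ⟨6, -3, 6, -3, 2, -1, 4, -3⟩⟩ [284, 240, 267, 100, 114, 192, 169]))))
  (.n (.n (.n (.n (.l ⟨⟨6, 0, 0, 0, 0, 0, 0, 0⟩, ⟨0, -3, 0, -3, 0, 1, -2, -1⟩, ⟨3, -3, -3, 3, 1, -1, 3, -1⟩⟩ [27, 7, 51, 94, 95, 96, 39])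
  (.l ⟨⟨6, 0, 0, 0, 0, 0, 0, 0⟩, ⟨-3, 0, 3, 0, 3, -2, 1, 2⟩, ⟨0, 0, 0, 0, 0, -2, -2, 2⟩⟩ [298, 306, 275, 300, 296, 264, 141]))
  (.l ⟨⟨6, 0, 0, 0, 0, 0, 0, 0⟩, ⟨-6, 0, 0, 0, 0, 0, 0, 0⟩, ⟨3, -6, 3, 0, -1, 0, -1, 2⟩⟩ [74, 191, 60, 154, 53, 107, 72]))
  (.n (.l ⟨⟨12, 0, 0, 0, 0, 0, 0, 0⟩, ⟨3, 0, -3, 0, -1, -2, 3, -2⟩, ⟨-3, 0, 3, -6, 1, 0, 1, -2⟩⟩ [91, 25, 111, 218, 219, 37, 43])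
  (.l ⟨⟨6, 0, 0, 0, 0, 0, 0, 0⟩, ⟨3, 0, 3, 0, 1, 2, -3, 2⟩, ⟨0, 0, 0, 0, -2, 2, 0, 2⟩⟩ [92, 220, 295, 90, 231, 189, 311])))
  (.n (.n (.n (.l ⟨⟨12, 0, 0, 0, 0, 0, 0, 0⟩, ⟨3, -6, -3, 0, 1, 0, 1, -2⟩, ⟨3, -6, -3, 0, 1, 0, 1, -2⟩⟩ [59, 15, 59, 19, 161, 59, 29])
  (.l ⟨⟨6, 0, 0, 0, 0, 0, 0, 0⟩, ⟨6, 0, 0, 0, 0, 0, 0, 0⟩, ⟨3, 0, -3, 6, 1, -2, -1, 0⟩⟩ [303, 271, 289, 276, 299, 300, 312]))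
  (.l ⟨⟨12, 0, 0, 0, 0, 0, 0, 0⟩, ⟨3, -6, -3, 0, -1, 0, -1, 2⟩, ⟨-3, 0, -3, 6, -1, 2, 1, 0⟩⟩ [71, 188, 286, 291, 186, 222, 70]))
  (.n (.l ⟨⟨6, 0, 0, 0, 0, 0, 0, 0⟩, ⟨-3, -3, 3, 3, -1, -1, 1, 3⟩, ⟨0, 3, 0, 3, 0, -1, 2, 1⟩⟩ [41, 125, 48, 39, 228, 240, 191])
  (.l ⟨⟨6, 0, 0, 0, 0, 0, 0, 0⟩, ⟨3, 3, -3, -3, -1, -1, 1, 3⟩, ⟨0, -3, 0, 3, 2, 1, 0, 1⟩⟩ [241, 244, 229, 233, 268, 119, 113]))))))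
  (.n (.n (.n (.n (.n (.n (.l ⟨⟨4, 0, 0, 0, 0, 0, 0, 0⟩, ⟨1, 0, -1, 0, -1, 0, -1, 0⟩, ⟨1, 0, -1, 0, -1, 0, -1, 0⟩⟩ [23, 9, 23, 24, 21, 6, 25])
  (.l ⟨⟨6, 0, 0, 0, 0, 0, 0, 0⟩, ⟨-3, 0, 3, -6, -1, 2, 1, 0⟩, ⟨6, 0, 0, 0, 0, 0, 0, 0⟩⟩ [165, 257, 271, 162, 304, 120, 129]))
  (.l ⟨⟨6, 0, 0, 0, 0, 0, 0, 0⟩, ⟨0, 0, 0, 0, 0, -2, -2, 2⟩, ⟨3, -6, -3, 0, 1, -2, -1, 0⟩⟩ [197, 238, 199, 43, 109, 112, 199]))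
  (.n (.l ⟨⟨2, 0, 0, 0, 0, 0, 0, 0⟩, ⟨1, 0, -1, 0, 1, 0, -1, 0⟩, ⟨0, 0, 2, 0, 0, 0, 0, 0⟩⟩ [158, 184, 185, 22, 18, 174, 186])
  (.l ⟨⟨2, 0, 0, 0, 0, 0, 0, 0⟩, ⟨0, 0, 2, 0, 0, 0, 0, 0⟩, ⟨-1, 0, -1, 0, 1, 0, 1, 0⟩⟩ [272, 167, 172, 87, 78, 198, 78])))
  (.n (.n (.n (.l ⟨⟨6, 0, 0, 0, 0, 0, 0, 0⟩, ⟨-6, 3, -6, 3, 2, -1, 4, -3⟩, ⟨-3, 3, 3, -3, -1, 1, -3, 1⟩⟩ [10, 40, 94, 50, 121, 88, 38])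
  (.l ⟨⟨3, 0, 0, 0, 0, 0, 0, 0⟩, ⟨0, 0, 0, 0, 1, -1, 0, -1⟩, ⟨0, 0, 0, 0, 0, 0, 0, 0⟩⟩ [175, 175, 285, 175, 310, 273, 284]))
  (.l ⟨⟨3, 0, 0, 0, 0, 0, 0, 0⟩, ⟨0, 0, 0, 0, 0, 0, 0, 0⟩, ⟨0, 0, 0, 0, 1, -1, 0, -1⟩⟩ [285, 166, 175, 62, 264, 208, 275]))
  (.n (.l ⟨⟨6, 0, 0, 0, 0, 0, 0, 0⟩, ⟨0, 0, 0, 0, 0, -2, -2, 2⟩, ⟨3, 0, 3, 0, -1, -2, 3, -2⟩⟩ [43, 133, 213, 238, 239, 29, 147])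
  (.l ⟨⟨12, 0, 0, 0, 0, 0, 0, 0⟩, ⟨-3, 0, 3, 0, -1, -2, 3, -2⟩, ⟨3, -6, 3, 0, -1, 2, 1, 0⟩⟩ [287, 206, 226, 213, 255, 98, 225]))))
  (.n (.n (.n (.n (.l ⟨⟨4, 0, 0, 0, 0, 0, 0, 0⟩, ⟨1, 0, 1, 0, -1, 0, 1, 0⟩, ⟨1, 0, -1, 0, 1, 0, 1, 0⟩⟩ [80, 81, 83, 70, 22, 84, 5])
  (.l ⟨⟨6, 0, 0, 0, 0, 0, 0, 0⟩, ⟨0, -3, 0, -3, 0, -1, 2, 1⟩, ⟨-3, 3, -3, 3, -3, 1, 1, -1⟩⟩ [139, 280, 308, 247, 309, 217, 253]))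
  (.l ⟨⟨6, 0, 0, 0, 0, 0, 0, 0⟩, ⟨6, -3, -6, 3, 4, -3, -2, 1⟩, ⟨3, -3, -3, 3, -1, 1, -3, 1⟩⟩ [114, 252, 288, 52, 284, 108, 213]))
  (.n (.l ⟨⟨6, 0, 0, 0, 0, 0, 0, 0⟩, ⟨0, 3, 0, -3, -2, -1, 0, -1⟩, ⟨3, -3, -3, 3, -1, 1, -3, 1⟩⟩ [130, 207, 209, 76, 210, 211, 23])
  (.l ⟨⟨6, 0, 0, 0, 0, 0, 0, 0⟩, ⟨-3, 0, -3, 0, 1, 2, -3, 2⟩, ⟨0, 0, 0, 0, 0, -2, -2, 2⟩⟩ [215, 88, 133, 307, 258, 143, 203])))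
  (.n (.n (.n (.l ⟨⟨1, 0, 0, 0, 0, 0, 0, 0⟩, ⟨0, 0, 0, 0, 0, 0, 0, 0⟩, ⟨1, 0, 0, 0, 0, 0, 0, 0⟩⟩ [14, 54, 16, 13, 65, 85, 155])
  (.l ⟨⟨3, 0, 0, 0, 0, 0, 0, 0⟩, ⟨0, 0, 0, 0, 0, 0, 0, 0⟩, ⟨0, 0, 0, 0, 0, -1, -1, 1⟩⟩ [212, 310, 264, 290, 294, 298, 241]))
  (.l ⟨⟨2, 0, 0, 0, 0, 0, 0, 0⟩, ⟨1, 0, -1, 0, 1, 0, -1, 0⟩, ⟨0, 0, -2, 0, 0, 0, 0, 0⟩⟩ [184, 158, 113, 82, 68, 82, 164]))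
  (.n (.l ⟨⟨6, 0, 0, 0, 0, 0, 0, 0⟩, ⟨0, 0, 0, 0, 2, -2, 0, -2⟩, ⟨3, -6, -3, 0, -1, 2, 1, 0⟩⟩ [96, 117, 141, 260, 170, 51, 167])
  (.l ⟨⟨12, 0, 0, 0, 0, 0, 0, 0⟩, ⟨3, 0, 3, 0, -3, 2, -1, -2⟩, ⟨3, -6, 3, 0, 1, -2, -1, 0⟩⟩ [248, 224, 219, 270, 110, 293, 289])))))
  (.n (.n (.n (.n (.n (.l ⟨⟨1, 0, 0, 0, 0, 0, 0, 0⟩, ⟨0, 0, 0, 0, 0, 0, 0, 0⟩, ⟨-1, 0, 0, 0, 0, 0, 0, 0⟩⟩ [54, 14, 4, 3, 55, 56, 41])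
  (.l ⟨⟨6, 0, 0, 0, 0, 0, 0, 0⟩, ⟨3, 0, -3, 0, 3, -2, 1, 2⟩, ⟨0, 0, 0, 0, -2, 2, 0, 2⟩⟩ [237, 239, 258, 246, 132, 252, 165]))
  (.l ⟨⟨12, 0, 0, 0, 0, 0, 0, 0⟩, ⟨3, -6, 3, 0, 1, -2, -1, 0⟩, ⟨-3, 0, -3, 0, 3, -2, 1, 2⟩⟩ [93, 219, 112, 46, 89, 197, 109]))
  (.n (.l ⟨⟨2, 0, 0, 0, 0, 0, 0, 0⟩, ⟨1, 0, -1, 0, -1, 0, 1, 0⟩, ⟨2, 0, 0, 0, 0, 0, 0, 0⟩⟩ [138, 196, 84, 21, 198, 80, 198])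
  (.l ⟨⟨12, 0, 0, 0, 0, 0, 0, 0⟩, ⟨3, 0, -3, 0, 1, 2, -3, 2⟩, ⟨3, -6, 3, 0, -1, 2, 1, 0⟩⟩ [307, 230, 181, 88, 116, 176, 85])))
  (.n (.n (.n (.l ⟨⟨6, 0, 0, 0, 0, 0, 0, 0⟩, ⟨3, -6, -3, 0, -1, 2, 1, 0⟩, ⟨0, 0, 0, 0, -2, 2, 0, 2⟩⟩ [140, 141, 37, 142, 137, 91, 11])
  (.l ⟨⟨6, 0, 0, 0, 0, 0, 0, 0⟩, ⟨0, 0, -6, 0, 0, 0, 0, 0⟩, ⟨3, -6, 3, 0, 1, 0, 1, -2⟩⟩ [195, 304, 190, 194, 289, 242, 232]))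
  (.l ⟨⟨2, 0, 0, 0, 0, 0, 0, 0⟩, ⟨-2, 0, 0, 0, 0, 0, 0, 0⟩, ⟨1, 0, -1, 0, -1, 0, 1, 0⟩⟩ [205, 204, 196, 174, 66, 70, 216]))
  (.n (.l ⟨⟨12, 0, 0, 0, 0, 0, 0, 0⟩, ⟨-3, 0, 3, -6, 1, 0, 1, -2⟩, ⟨3, 0, -3, 0, -1, -2, 3, -2⟩⟩ [111, 34, 91, 235, 246, 140, 247])
  (.l ⟨⟨6, 0, 0, 0, 0, 0, 0, 0⟩, ⟨0, 0, 0, 0, 0, 2, 2, -2⟩, ⟨3, -6, -3, 0, 1, -2, -1, 0⟩⟩ [242, 134, 180, 102, 245, 190, 295]))))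
  (.n (.n (.n (.n (.l ⟨⟨6, 0, 0, 0, 0, 0, 0, 0⟩, ⟨3, -3, 3, -3, -3, 1, 1, -1⟩, ⟨0, 3, 0, -3, 2, 1, 0, 1⟩⟩ [33, 98, 103, 104, 7, 105, 30])
  (.l ⟨⟨12, 0, 0, 0, 0, 0, 0, 0⟩, ⟨3, 0, 3, -6, 1, -2, -1, 0⟩, ⟨-3, 6, 3, 0, 1, 0, 1, -2⟩⟩ [189, 153, 186, 147, 189, 295, 297]))
  (.l ⟨⟨2, 0, 0, 0, 0, 0, 0, 0⟩, ⟨-1, 0, 1, 0, -1, 0, 1, 0⟩, ⟨0, 0, -2, 0, 0, 0, 0, 0⟩⟩ [70, 182, 136, 81, 56, 196, 56]))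
  (.n (.l ⟨⟨6, 0, 0, 0, 0, 0, 0, 0⟩, ⟨3, -3, -3, 3, 1, -1, 3, -1⟩, ⟨6, -3, 6, -3, -2, 1, -4, 3⟩⟩ [29, 64, 38, 26, 129, 213, 125])
  (.l ⟨⟨6, 0, 0, 0, 0, 0, 0, 0⟩, ⟨0, 0, 0, 0, -2, 2, 0, 2⟩, ⟨3, 0, 3, 0, 1, 2, -3, 2⟩⟩ [295, 296, 92, 105, 312, 186, 229])))
  (.n (.n (.l ⟨⟨0, 0, 0, 0, 0, 0, 0, 0⟩, ⟨3, 0, 0, 0, 0, 0, 0, 0⟩, ⟨0, 0, 0, 0, -1, 1, 0, 1⟩⟩ [62, 160, 160, 166, 160, 15, 34])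
  (.l ⟨⟨6, 0, 0, 0, 0, 0, 0, 0⟩, ⟨-3, 6, -3, 0, -1, 0, -1, 2⟩, ⟨0, 0, 6, 0, 0, 0, 0, 0⟩⟩ [299, 291, 302, 71, 303, 238, 178]))
  (.n (.l ⟨⟨6, 0, 0, 0, 0, 0, 0, 0⟩, ⟨-3, -3, -3, -3, -1, -3, -1, -1⟩, ⟨0, -3, 0, 3, -2, -1, 0, -1⟩⟩ [52, 143, 124, 252, 47, 40, 121])
  (.l ⟨⟨12, 0, 0, 0, 0, 0, 0, 0⟩, ⟨3, 0, -3, 6, 1, 0, 1, -2⟩, ⟨-3, 0, -3, 0, -3, 2, -1, -2⟩⟩ [255, 116, 313, 170, 287, 170, 192]))))))))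
  (.n (.n (.n (.n (.n (.n (.n (.n (.l ⟨⟨0, 0, 0, 0, 0, 0, 0, 0⟩, ⟨1, 0, 0, 0, 0, 0, 0, 0⟩, ⟨0, 0, 0, 0, 0, 0, 0, 0⟩⟩ [1, 1, 2, 0, 2, 9, 10])
  (.l ⟨⟨6, 0, 0, 0, 0, 0, 0, 0⟩, ⟨3, 0, -3, 6, 1, -2, -1, 0⟩, ⟨6, 0, 0, 0, 0, 0, 0, 0⟩⟩ [289, 262, 303, 161, 195, 116, 179]))
  (.l ⟨⟨6, 0, 0, 0, 0, 0, 0, 0⟩, ⟨-6, 3, 6, -3, 4, -3, -2, 1⟩, ⟨-3, 3, -3, 3, 3, -1, -1, 1⟩⟩ [101, 107, 42, 168, 94, 268, 262]))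
  (.n (.l ⟨⟨1, 0, 0, 0, 0, 0, 0, 0⟩, ⟨0, 0, 1, 0, 0, 0, 0, 0⟩, ⟨0, 0, 0, 0, 0, 0, 0, 0⟩⟩ [55, 55, 17, 55, 54, 169, 170])
  (.l ⟨⟨6, 0, 0, 0, 0, 0, 0, 0⟩, ⟨0, -3, 0, -3, 0, -1, 2, 1⟩, ⟨3, 3, 3, 3, -1, -3, -1, -1⟩⟩ [269, 131, 168, 211, 244, 72, 195])))
  (.n (.n (.n (.l ⟨⟨6, 0, 0, 0, 0, 0, 0, 0⟩, ⟨-3, 3, -3, 3, 3, -1, -1, 1⟩, ⟨0, -3, 0, 3, -2, -1, 0, -1⟩⟩ [30, 95, 100, 108, 8, 109, 20])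
  (.l ⟨⟨6, 0, 0, 0, 0, 0, 0, 0⟩, ⟨-3, 0, 3, -6, -1, 2, 1, 0⟩, ⟨-6, 0, 0, 0, 0, 0, 0, 0⟩⟩ [257, 165, 314, 159, 302, 256, 246]))
  (.l ⟨⟨12, 0, 0, 0, 0, 0, 0, 0⟩, ⟨3, 0, 3, -6, -1, 2, 1, 0⟩, ⟨-3, 0, -3, 6, 1, -2, -1, 0⟩⟩ [162, 159, 161, 257, 58, 290, 291]))
  (.n (.l ⟨⟨6, 0, 0, 0, 0, 0, 0, 0⟩, ⟨3, -3, -3, 3, 1, -1, 3, -1⟩, ⟨0, -3, 0, -3, 0, 1, -2, -1⟩⟩ [51, 28, 27, 48, 225, 141, 74])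
  (.l ⟨⟨6, 0, 0, 0, 0, 0, 0, 0⟩, ⟨0, 3, 0, -3, 2, 1, 0, 1⟩, ⟨-3, 3, -3, 3, 3, -1, -1, 1⟩⟩ [148, 103, 95, 144, 97, 201, 230]))))
  (.n (.n (.n (.n (.l ⟨⟨1, 0, 0, 0, 0, 0, 0, 0⟩, ⟨0, 0, 0, 0, 0, 0, 0, 0⟩, ⟨0, 0, -1, 0, 0, 0, 0, 0⟩⟩ [63, 17, 65, 5, 4, 66, 67])
  (.l ⟨⟨6, 0, 0, 0, 0, 0, 0, 0⟩, ⟨-3, 3, 3, -3, 1, -1, 3, -1⟩, ⟨0, 3, 0, -3, -2, -1, 0, -1⟩⟩ [309, 211, 207, 269, 139, 294, 136]))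
  (.l ⟨⟨6, 0, 0, 0, 0, 0, 0, 0⟩, ⟨-3, -3, -3, -3, -1, -3, -1, -1⟩, ⟨0, 3, 0, -3, 2, 1, 0, 1⟩⟩ [143, 52, 228, 114, 49, 133, 285]))
  (.n (.l ⟨⟨4, 0, 0, 0, 0, 0, 0, 0⟩, ⟨-1, 0, -1, 0, 1, 0, -1, 0⟩, ⟨1, 0, -1, 0, 1, 0, 1, 0⟩⟩ [82, 22, 203, 158, 82, 113, 42])
  (.l ⟨⟨6, 0, 0, 0, 0, 0, 0, 0⟩, ⟨-3, 3, 3, -3, 1, -1, 3, -1⟩, ⟨0, -3, 0, 3, 2, 1, 0, 1⟩⟩ [211, 309, 86, 131, 279, 209, 160])))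
  (.n (.n (.n (.l ⟨⟨6, 0, 0, 0, 0, 0, 0, 0⟩, ⟨0, 3, 0, 3, 0, -1, 2, 1⟩, ⟨-3, -3, 3, 3, -1, -1, 1, 3⟩⟩ [48, 47, 41, 28, 145, 146, 27])
  (.l ⟨⟨12, 0, 0, 0, 0, 0, 0, 0⟩, ⟨-3, 0, -3, 0, -3, 2, -1, -2⟩, ⟨3, 0, -3, 6, 1, 0, 1, -2⟩⟩ [313, 256, 255, 312, 201, 274, 240]))
  (.l ⟨⟨6, 0, 0, 0, 0, 0, 0, 0⟩, ⟨0, 0, 0, 0, -2, 2, 0, 2⟩, ⟨3, 0, 3, -6, 1, 0, 1, -2⟩⟩ [105, 67, 235, 296, 199, 103, 266]))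
  (.n (.l ⟨⟨2, 0, 0, 0, 0, 0, 0, 0⟩, ⟨0, 0, 2, 0, 0, 0, 0, 0⟩, ⟨-1, 0, 1, 0, -1, 0, 1, 0⟩⟩ [87, 185, 182, 167, 35, 81, 250])
  (.l ⟨⟨6, 0, 0, 0, 0, 0, 0, 0⟩, ⟨-3, -3, 3, 3, 1, 1, -1, -3⟩, ⟨0, 3, 0, -3, -2, -1, 0, -1⟩⟩ [250, 249, 104, 128, 131, 135, 310])))))
  (.n (.n (.n (.n (.n (.l ⟨⟨4, 0, 0, 0, 0, 0, 0, 0⟩, ⟨-1, 0, 1, 0, 1, 0, 1, 0⟩, ⟨1, 0, -1, 0, -1, 0, -1, 0⟩⟩ [11, 6, 9, 35, 36, 1, 37])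
  (.l ⟨⟨6, 0, 0, 0, 0, 0, 0, 0⟩, ⟨-3, 3, -3, 3, -3, 1, 1, -1⟩, ⟨0, -3, 0, -3, 0, -1, 2, 1⟩⟩ [308, 210, 139, 124, 208, 296, 290]))
  (.l ⟨⟨6, 0, 0, 0, 0, 0, 0, 0⟩, ⟨0, 0, 0, 0, 0, -2, -2, 2⟩, ⟨-3, 0, -3, 6, 1, 0, 1, -2⟩⟩ [261, 232, 259, 275, 46, 276, 44]))
  (.n (.l ⟨⟨6, 0, 0, 0, 0, 0, 0, 0⟩, ⟨3, -6, 3, 0, -1, 0, -1, 2⟩, ⟨6, 0, 0, 0, 0, 0, 0, 0⟩⟩ [72, 60, 155, 57, 194, 168, 51])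
  (.l ⟨⟨12, 0, 0, 0, 0, 0, 0, 0⟩, ⟨3, -6, 3, 0, -1, 2, 1, 0⟩, ⟨-3, 0, 3, 0, -1, -2, 3, -2⟩⟩ [226, 181, 287, 79, 305, 225, 306])))
  (.n (.n (.n (.l ⟨⟨6, 0, 0, 0, 0, 0, 0, 0⟩, ⟨3, 3, -3, -3, 1, 1, -1, -3⟩, ⟨0, -3, 0, -3, 0, 1, -2, -1⟩⟩ [122, 50, 49, 10, 127, 128, 14])
  (.l ⟨⟨12, 0, 0, 0, 0, 0, 0, 0⟩, ⟨3, -6, 3, 0, -1, 2, 1, 0⟩, ⟨3, 0, -3, 0, 1, 2, -3, 2⟩⟩ [181, 226, 307, 200, 256, 178, 286]))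
  (.l ⟨⟨2, 0, 0, 0, 0, 0, 0, 0⟩, ⟨-1, 0, -1, 0, 1, 0, 1, 0⟩, ⟨0, 0, -2, 0, 0, 0, 0, 0⟩⟩ [66, 172, 156, 83, 205, 65, 234]))
  (.n (.l ⟨⟨6, 0, 0, 0, 0, 0, 0, 0⟩, ⟨0, 0, 0, 0, 2, -2, 0, -2⟩, ⟨-3, 0, -3, 6, -1, 0, -1, 2⟩⟩ [177, 176, 109, 222, 79, 30, 171])
  (.l ⟨⟨6, 0, 0, 0, 0, 0, 0, 0⟩, ⟨6, -3, 6, -3, 2, -1, 4, -3⟩, ⟨-3, 3, -3, 3, -3, 1, 1, -1⟩⟩ [267, 128, 284, 250, 247, 152, 99]))))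
  (.n (.n (.n (.n (.l ⟨⟨12, 0, 0, 0, 0, 0, 0, 0⟩, ⟨-3, 0, 3, 0, 1, 2, -3, 2⟩, ⟨-3, 0, 3, -6, 1, 0, 1, -2⟩⟩ [89, 90, 34, 92, 93, 7, 6])
  (.l ⟨⟨6, 0, 0, 0, 0, 0, 0, 0⟩, ⟨-3, 3, 3, -3, 1, -1, 3, -1⟩, ⟨6, -3, -6, 3, 4, -3, -2, 1⟩⟩ [157, 247, 252, 139, 146, 237, 227]))
  (.l ⟨⟨12, 0, 0, 0, 0, 0, 0, 0⟩, ⟨-3, 0, -3, 6, -1, 2, 1, 0⟩, ⟨-3, 6, 3, 0, 1, 0, 1, -2⟩⟩ [277, 286, 187, 53, 153, 279, 272]))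
  (.n (.l ⟨⟨12, 0, 0, 0, 0, 0, 0, 0⟩, ⟨3, 0, -3, 0, -1, -2, 3, -2⟩, ⟨3, 0, -3, 6, -1, 0, -1, 2⟩⟩ [25, 91, 106, 217, 142, 28, 130])
  (.l ⟨⟨6, 0, 0, 0, 0, 0, 0, 0⟩, ⟨3, 0, 3, 0, 1, 2, -3, 2⟩, ⟨0, 0, 0, 0, 2, -2, 0, -2⟩⟩ [220, 92, 179, 89, 275, 278, 95])))
  (.n (.n (.n (.l ⟨⟨12, 0, 0, 0, 0, 0, 0, 0⟩, ⟨3, -6, -3, 0, 1, 0, 1, -2⟩, ⟨-3, 6, 3, 0, -1, 0, -1, 2⟩⟩ [15, 59, 57, 73, 159, 160, 57])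
  (.l ⟨⟨12, 0, 0, 0, 0, 0, 0, 0⟩, ⟨3, 0, 3, 0, 3, -2, 1, 2⟩, ⟨-3, 0, 3, -6, -1, 0, -1, 2⟩⟩ [305, 300, 254, 298, 226, 227, 236]))
  (.l ⟨⟨2, 0, 0, 0, 0, 0, 0, 0⟩, ⟨0, 0, -2, 0, 0, 0, 0, 0⟩, ⟨-1, 0, 1, 0, -1, 0, 1, 0⟩⟩ [136, 113, 70, 156, 85, 205, 120]))
  (.n (.l ⟨⟨6, 0, 0, 0, 0, 0, 0, 0⟩, ⟨-3, 3, -3, 3, 3, -1, -1, 1⟩, ⟨-6, 3, 6, -3, 4, -3, -2, 1⟩⟩ [42, 123, 101, 208, 38, 263, 126])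
  (.l ⟨⟨6, 0, 0, 0, 0, 0, 0, 0⟩, ⟨3, 3, -3, -3, -1, -1, 1, 3⟩, ⟨0, 3, 0, -3, -2, -1, 0, -1⟩⟩ [244, 241, 183, 146, 269, 247, 111]))))))
  (.n (.n (.n (.n (.n (.n (.l ⟨⟨0, 0, 0, 0, 0, 0, 0, 0⟩, ⟨1, 0, 0, 0, 0, 0, 0, 0⟩, ⟨0, 0, 1, 0, 0, 0, 0, 0⟩⟩ [5, 20, 20, 17, 5, 21, 22])
  (.l ⟨⟨6, 0, 0, 0, 0, 0, 0, 0⟩, ⟨0, 0, 0, 0, 0, 2, 2, -2⟩, ⟨3, 0, 3, -6, -1, 0, -1, 2⟩⟩ [137, 274, 120, 231, 140, 165, 307]))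
  (.l ⟨⟨6, 0, 0, 0, 0, 0, 0, 0⟩, ⟨0, 0, 0, 0, 0, 2, 2, -2⟩, ⟨3, 0, 3, 0, -1, -2, 3, -2⟩⟩ [132, 102, 214, 242, 237, 145, 271]))
  (.n (.l ⟨⟨2, 0, 0, 0, 0, 0, 0, 0⟩, ⟨-2, 0, 0, 0, 0, 0, 0, 0⟩, ⟨1, 0, 1, 0, 1, 0, 1, 0⟩⟩ [68, 56, 35, 69, 184, 69, 75])
  (.l ⟨⟨6, 0, 0, 0, 0, 0, 0, 0⟩, ⟨0, 0, 0, 0, 0, 2, 2, -2⟩, ⟨-3, 6, 3, 0, -1, 2, 1, 0⟩⟩ [134, 242, 79, 132, 235, 142, 77])))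
  (.n (.n (.n (.l ⟨⟨6, 0, 0, 0, 0, 0, 0, 0⟩, ⟨0, 0, 0, 0, 2, -2, 0, -2⟩, ⟨-3, 6, 3, 0, 1, -2, -1, 0⟩⟩ [117, 96, 46, 119, 120, 90, 9])
  (.l ⟨⟨6, 0, 0, 0, 0, 0, 0, 0⟩, ⟨0, 0, -6, 0, 0, 0, 0, 0⟩, ⟨-3, 6, -3, 0, -1, 0, -1, 2⟩⟩ [304, 195, 291, 163, 165, 246, 162]))
  (.l ⟨⟨6, 0, 0, 0, 0, 0, 0, 0⟩, ⟨3, 0, -3, 6, 1, -2, -1, 0⟩, ⟨-6, 0, 0, 0, 0, 0, 0, 0⟩⟩ [262, 289, 276, 61, 293, 261, 270]))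
  (.n (.l ⟨⟨6, 0, 0, 0, 0, 0, 0, 0⟩, ⟨6, -3, -6, 3, -4, 3, 2, -1⟩, ⟨3, -3, 3, -3, -3, 1, 1, -1⟩⟩ [129, 164, 121, 236, 29, 236, 237])
  (.l ⟨⟨6, 0, 0, 0, 0, 0, 0, 0⟩, ⟨0, 3, 0, -3, -2, -1, 0, -1⟩, ⟨-3, -3, 3, 3, 1, 1, -1, -3⟩⟩ [104, 183, 250, 98, 263, 216, 222]))))
  (.n (.n (.n (.n (.l ⟨⟨4, 0, 0, 0, 0, 0, 0, 0⟩, ⟨1, 0, 1, 0, 1, 0, -1, 0⟩, ⟨-1, 0, -1, 0, -1, 0, 1, 0⟩⟩ [77, 45, 21, 78, 6, 5, 79])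
  (.l ⟨⟨12, 0, 0, 0, 0, 0, 0, 0⟩, ⟨3, 0, 3, -6, 1, -2, -1, 0⟩, ⟨3, -6, -3, 0, -1, 0, -1, 2⟩⟩ [153, 189, 188, 151, 277, 266, 138]))
  (.l ⟨⟨6, 0, 0, 0, 0, 0, 0, 0⟩, ⟨0, -3, 0, 3, -2, -1, 0, -1⟩, ⟨-3, -3, -3, -3, -1, -3, -1, -1⟩⟩ [124, 127, 52, 210, 125, 64, 276]))
  (.n (.l ⟨⟨2, 0, 0, 0, 0, 0, 0, 0⟩, ⟨-1, 0, -1, 0, -1, 0, -1, 0⟩, ⟨-2, 0, 0, 0, 0, 0, 0, 0⟩⟩ [44, 24, 56, 23, 185, 54, 206])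
  (.l ⟨⟨6, 0, 0, 0, 0, 0, 0, 0⟩, ⟨-3, 0, -3, 0, 1, 2, -3, 2⟩, ⟨0, 0, 0, 0, 0, 2, 2, -2⟩⟩ [88, 215, 102, 230, 119, 94, 150])))
  (.n (.n (.n (.l ⟨⟨6, 0, 0, 0, 0, 0, 0, 0⟩, ⟨-3, 0, 3, -6, 1, -2, -1, 0⟩, ⟨0, 0, 6, 0, 0, 0, 0, 0⟩⟩ [147, 151, 75, 153, 154, 12, 91])
  (.l ⟨⟨6, 0, 0, 0, 0, 0, 0, 0⟩, ⟨3, -3, -3, 3, -1, 1, -3, 1⟩, ⟨0, -3, 0, 3, 2, 1, 0, 1⟩⟩ [273, 209, 208, 268, 278, 285, 259]))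
  (.l ⟨⟨12, 0, 0, 0, 0, 0, 0, 0⟩, ⟨-3, 6, -3, 0, 1, -2, -1, 0⟩, ⟨-3, 0, 3, 0, -1, -2, 3, -2⟩⟩ [297, 201, 206, 199, 300, 67, 207]))
  (.n (.l ⟨⟨6, 0, 0, 0, 0, 0, 0, 0⟩, ⟨0, 0, 0, 0, -2, 2, 0, 2⟩, ⟨3, -6, -3, 0, -1, 2, 1, 0⟩⟩ [37, 118, 140, 258, 259, 111, 140])
  (.l ⟨⟨6, 0, 0, 0, 0, 0, 0, 0⟩, ⟨3, 0, 3, -6, 1, 0, 1, -2⟩, ⟨0, 0, 0, 0, 2, -2, 0, -2⟩⟩ [178, 235, 176, 111, 238, 307, 252])))))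
  (.n (.n (.n (.n (.n (.l ⟨⟨0, 0, 0, 0, 0, 0, 0, 0⟩, ⟨1, 0, 0, 0, 0, 0, 0, 0⟩, ⟨-1, 0, 0, 0, 0, 0, 0, 0⟩⟩ [13, 3, 13, 54, 3, 13, 31])
  (.l ⟨⟨6, 0, 0, 0, 0, 0, 0, 0⟩, ⟨0, 3, 0, 3, 0, 1, -2, -1⟩, ⟨-3, -3, -3, -3, 1, 3, 1, 1⟩⟩ [193, 268, 243, 273, 249, 191, 274]))
  (.l ⟨⟨6, 0, 0, 0, 0, 0, 0, 0⟩, ⟨-3, 6, 3, 0, 1, -2, -1, 0⟩, ⟨0, 0, 0, 0, -2, 2, 0, 2⟩⟩ [99, 46, 118, 93, 274, 97, 282]))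
  (.n (.l ⟨⟨4, 0, 0, 0, 0, 0, 0, 0⟩, ⟨-1, 0, -1, 0, -1, 0, 1, 0⟩, ⟨1, 0, 1, 0, 1, 0, -1, 0⟩⟩ [21, 36, 77, 196, 23, 20, 197])
  (.l ⟨⟨2, 0, 0, 0, 0, 0, 0, 0⟩, ⟨2, 0, 0, 0, 0, 0, 0, 0⟩, ⟨-1, 0, 1, 0, 1, 0, -1, 0⟩⟩ [174, 84, 115, 204, 169, 185, 268])))
  (.n (.n (.n (.l ⟨⟨4, 0, 0, 0, 0, 0, 0, 0⟩, ⟨-1, 0, -1, 0, -1, 0, 1, 0⟩, ⟨-1, 0, -1, 0, -1, 0, 1, 0⟩⟩ [36, 21, 36, 138, 11, 36, 139])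
  (.l ⟨⟨6, 0, 0, 0, 0, 0, 0, 0⟩, ⟨-3, 6, -3, 0, -1, 0, -1, 2⟩, ⟨0, 0, -6, 0, 0, 0, 0, 0⟩⟩ [291, 299, 304, 188, 276, 221, 304]))
  (.l ⟨⟨4, 0, 0, 0, 0, 0, 0, 0⟩, ⟨1, 0, -1, 0, 1, 0, 1, 0⟩, ⟨-1, 0, -1, 0, 1, 0, -1, 0⟩⟩ [203, 83, 82, 66, 173, 184, 258]))
  (.n (.l ⟨⟨6, 0, 0, 0, 0, 0, 0, 0⟩, ⟨3, 0, 3, -6, 1, 0, 1, -2⟩, ⟨0, 0, 0, 0, -2, 2, 0, 2⟩⟩ [235, 178, 105, 34, 134, 33, 142])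
  (.l ⟨⟨6, 0, 0, 0, 0, 0, 0, 0⟩, ⟨-3, 0, 3, 0, -3, 2, -1, -2⟩, ⟨0, 0, 0, 0, 2, -2, 0, -2⟩⟩ [270, 135, 260, 224, 133, 281, 101]))))
  (.n (.n (.n (.n (.l ⟨⟨6, 0, 0, 0, 0, 0, 0, 0⟩, ⟨-3, 3, 3, -3, -1, 1, -3, 1⟩, ⟨-6, 3, -6, 3, 2, -1, 4, -3⟩⟩ [94, 32, 10, 7, 101, 102, 58])
  (.l ⟨⟨3, 0, 0, 0, 0, 0, 0, 0⟩, ⟨0, 0, 0, 0, 0, 0, 0, 0⟩, ⟨0, 0, 0, 0, -1, 1, 0, 1⟩⟩ [166, 285, 294, 160, 311, 309, 145]))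
  (.l ⟨⟨6, 0, 0, 0, 0, 0, 0, 0⟩, ⟨3, -3, -3, 3, -1, 1, -3, 1⟩, ⟨-6, 3, 6, -3, -4, 3, 2, -1⟩⟩ [281, 288, 251, 279, 128, 260, 55]))
  (.n (.l ⟨⟨12, 0, 0, 0, 0, 0, 0, 0⟩, ⟨-3, 6, -3, 0, -1, 2, 1, 0⟩, ⟨3, 0, 3, 0, -3, 2, -1, -2⟩⟩ [142, 221, 224, 141, 25, 79, 84])
  (.l ⟨⟨12, 0, 0, 0, 0, 0, 0, 0⟩, ⟨3, -6, 3, 0, 1, -2, -1, 0⟩, ⟨3, 0, 3, 0, -3, 2, -1, -2⟩⟩ [219, 93, 248, 99, 91, 301, 287])))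
  (.n (.n (.l ⟨⟨12, 0, 0, 0, 0, 0, 0, 0⟩, ⟨3, 0, 3, -6, -1, 2, 1, 0⟩, ⟨3, 0, 3, -6, -1, 2, 1, 0⟩⟩ [159, 162, 159, 165, 15, 159, 83])
  (.l ⟨⟨12, 0, 0, 0, 0, 0, 0, 0⟩, ⟨-3, 0, -3, 6, -1, 2, 1, 0⟩, ⟨3, -6, -3, 0, -1, 0, -1, 2⟩⟩ [286, 277, 71, 152, 286, 218, 208]))
  (.n (.l ⟨⟨6, 0, 0, 0, 0, 0, 0, 0⟩, ⟨3, 3, -3, -3, 1, 1, -1, -3⟩, ⟨0, 3, 0, 3, 0, -1, 2, 1⟩⟩ [50, 122, 47, 40, 149, 163, 94])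
  (.l ⟨⟨12, 0, 0, 0, 0, 0, 0, 0⟩, ⟨3, 0, -3, 6, 1, 0, 1, -2⟩, ⟨3, 0, 3, 0, 3, -2, 1, 2⟩⟩ [116, 255, 300, 259, 307, 303, 278])))))))
  (.n (.n (.n (.n (.n (.n (.n (.l ⟨⟨0, 0, 0, 0, 0, 0, 0, 0⟩, ⟨1, 0, 0, 0, 0, 0, 0, 0⟩, ⟨1, 0, 0, 0, 0, 0, 0, 0⟩⟩ [3, 13, 3, 14, 13, 0, 15])
  (.l ⟨⟨6, 0, 0, 0, 0, 0, 0, 0⟩, ⟨3, 0, 3, -6, -1, 0, -1, 2⟩, ⟨0, 0, 0, 0, 0, 2, 2, -2⟩⟩ [120, 227, 137, 253, 117, 271, 309]))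
  (.l ⟨⟨6, 0, 0, 0, 0, 0, 0, 0⟩, ⟨0, 3, 0, 3, 0, 1, -2, -1⟩, ⟨3, 3, 3, 3, -1, -3, -1, -1⟩⟩ [268, 193, 263, 209, 241, 42, 119]))
  (.n (.l ⟨⟨6, 0, 0, 0, 0, 0, 0, 0⟩, ⟨0, 0, 0, 0, 2, -2, 0, -2⟩, ⟨3, 0, 3, -6, 1, 0, 1, -2⟩⟩ [176, 177, 178, 179, 180, 181, 17])
  (.l ⟨⟨6, 0, 0, 0, 0, 0, 0, 0⟩, ⟨0, 0, 6, 0, 0, 0, 0, 0⟩, ⟨-3, 6, -3, 0, -1, 0, -1, 2⟩⟩ [302, 293, 299, 75, 257, 200, 193])))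
  (.n (.n (.n (.l ⟨⟨2, 0, 0, 0, 0, 0, 0, 0⟩, ⟨-1, 0, -1, 0, -1, 0, -1, 0⟩, ⟨2, 0, 0, 0, 0, 0, 0, 0⟩⟩ [24, 44, 69, 9, 113, 68, 114])
  (.l ⟨⟨6, 0, 0, 0, 0, 0, 0, 0⟩, ⟨3, -6, 3, 0, 1, 0, 1, -2⟩, ⟨0, 0, 6, 0, 0, 0, 0, 0⟩⟩ [301, 190, 293, 186, 271, 248, 161]))
  (.l ⟨⟨6, 0, 0, 0, 0, 0, 0, 0⟩, ⟨0, 0, 6, 0, 0, 0, 0, 0⟩, ⟨-3, 0, 3, -6, 1, -2, -1, 0⟩⟩ [75, 192, 147, 293, 60, 125, 108]))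
  (.n (.l ⟨⟨6, 0, 0, 0, 0, 0, 0, 0⟩, ⟨3, -6, -3, 0, -1, 2, 1, 0⟩, ⟨0, 0, 0, 0, 2, -2, 0, -2⟩⟩ [141, 140, 96, 221, 232, 27, 233])
  (.l ⟨⟨6, 0, 0, 0, 0, 0, 0, 0⟩, ⟨-3, 0, -3, 6, 1, 0, 1, -2⟩, ⟨0, 0, 0, 0, 0, 2, 2, -2⟩⟩ [170, 259, 274, 116, 96, 313, 281]))))
  (.n (.n (.n (.n (.l ⟨⟨6, 0, 0, 0, 0, 0, 0, 0⟩, ⟨3, -6, 3, 0, -1, 0, -1, 2⟩, ⟨-6, 0, 0, 0, 0, 0, 0, 0⟩⟩ [60, 72, 74, 58, 75, 76, 4])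
  (.l ⟨⟨6, 0, 0, 0, 0, 0, 0, 0⟩, ⟨0, 0, 0, 0, 0, 2, 2, -2⟩, ⟨3, 0, -3, 0, -3, 2, -1, -2⟩⟩ [283, 231, 282, 137, 217, 311, 166]))
  (.l ⟨⟨6, 0, 0, 0, 0, 0, 0, 0⟩, ⟨3, 0, -3, 6, -1, 2, 1, 0⟩, ⟨0, 0, -6, 0, 0, 0, 0, 0⟩⟩ [53, 152, 163, 286, 74, 50, 102]))
  (.n (.l ⟨⟨4, 0, 0, 0, 0, 0, 0, 0⟩, ⟨-1, 0, 1, 0, -1, 0, -1, 0⟩, ⟨-1, 0, -1, 0, 1, 0, -1, 0⟩⟩ [202, 173, 22, 169, 202, 204, 61])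
  (.l ⟨⟨6, 0, 0, 0, 0, 0, 0, 0⟩, ⟨3, -3, -3, 3, -1, 1, -3, 1⟩, ⟨0, 3, 0, -3, -2, -1, 0, -1⟩⟩ [209, 273, 130, 193, 280, 86, 211])))
  (.n (.n (.n (.l ⟨⟨6, 0, 0, 0, 0, 0, 0, 0⟩, ⟨-3, 3, 3, -3, -1, 1, -3, 1⟩, ⟨0, 3, 0, 3, 0, -1, 2, 1⟩⟩ [97, 31, 26, 12, 148, 118, 73])
  (.l ⟨⟨12, 0, 0, 0, 0, 0, 0, 0⟩, ⟨-3, 0, 3, 0, -1, -2, 3, -2⟩, ⟨-3, 6, -3, 0, 1, -2, -1, 0⟩⟩ [206, 287, 297, 214, 253, 245, 261]))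
  (.l ⟨⟨6, 0, 0, 0, 0, 0, 0, 0⟩, ⟨0, 0, 0, 0, -2, 2, 0, 2⟩, ⟨-3, 0, -3, 0, -1, -2, 3, -2⟩⟩ [296, 295, 217, 67, 298, 139, 257]))
  (.n (.l ⟨⟨2, 0, 0, 0, 0, 0, 0, 0⟩, ⟨1, 0, -1, 0, -1, 0, 1, 0⟩, ⟨-2, 0, 0, 0, 0, 0, 0, 0⟩⟩ [196, 138, 205, 36, 167, 136, 151])
  (.l ⟨⟨6, 0, 0, 0, 0, 0, 0, 0⟩, ⟨3, 3, 3, 3, -1, -3, -1, -1⟩, ⟨0, -3, 0, -3, 0, -1, 2, 1⟩⟩ [168, 263, 269, 107, 108, 155, 176])))))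
  (.n (.n (.n (.n (.n (.l ⟨⟨4, 0, 0, 0, 0, 0, 0, 0⟩, ⟨1, 0, -1, 0, -1, 0, -1, 0⟩, ⟨-1, 0, 1, 0, 1, 0, 1, 0⟩⟩ [9, 23, 11, 44, 45, 2, 46])
  (.l ⟨⟨6, 0, 0, 0, 0, 0, 0, 0⟩, ⟨-6, 3, -6, 3, -2, 1, -4, 3⟩, ⟨3, -3, 3, -3, 3, -1, -1, 1⟩⟩ [233, 146, 234, 244, 288, 194, 298]))
  (.l ⟨⟨6, 0, 0, 0, 0, 0, 0, 0⟩, ⟨0, 3, 0, 3, 0, 1, -2, -1⟩, ⟨3, -3, 3, -3, 3, -1, -1, 1⟩⟩ [278, 279, 265, 281, 273, 179, 45]))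
  (.n (.l ⟨⟨6, 0, 0, 0, 0, 0, 0, 0⟩, ⟨0, 0, -6, 0, 0, 0, 0, 0⟩, ⟨3, 0, -3, 6, -1, 2, 1, 0⟩⟩ [163, 194, 53, 195, 19, 47, 69])
  (.l ⟨⟨4, 0, 0, 0, 0, 0, 0, 0⟩, ⟨-1, 0, 1, 0, -1, 0, -1, 0⟩, ⟨1, 0, 1, 0, -1, 0, 1, 0⟩⟩ [173, 202, 81, 171, 203, 87, 214])))
  (.n (.n (.n (.l ⟨⟨6, 0, 0, 0, 0, 0, 0, 0⟩, ⟨0, 0, 0, 0, 0, 2, 2, -2⟩, ⟨-3, 0, -3, 0, 1, 2, -3, 2⟩⟩ [102, 132, 88, 134, 135, 10, 90])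
  (.l ⟨⟨6, 0, 0, 0, 0, 0, 0, 0⟩, ⟨3, -6, 3, 0, 1, 0, 1, -2⟩, ⟨0, 0, -6, 0, 0, 0, 0, 0⟩⟩ [190, 301, 195, 187, 314, 180, 251]))
  (.l ⟨⟨2, 0, 0, 0, 0, 0, 0, 0⟩, ⟨-1, 0, -1, 0, 1, 0, 1, 0⟩, ⟨0, 0, 2, 0, 0, 0, 0, 0⟩⟩ [172, 66, 272, 203, 84, 171, 105]))
  (.n (.l ⟨⟨6, 0, 0, 0, 0, 0, 0, 0⟩, ⟨6, -3, -6, 3, -4, 3, 2, -1⟩, ⟨-3, 3, -3, 3, 3, -1, -1, 1⟩⟩ [164, 129, 123, 243, 32, 154, 200])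
  (.l ⟨⟨6, 0, 0, 0, 0, 0, 0, 0⟩, ⟨-3, 0, -3, 6, -1, 0, -1, 2⟩, ⟨0, 0, 0, 0, 2, -2, 0, -2⟩⟩ [109, 245, 177, 110, 197, 100, 204]))))
  (.n (.n (.n (.n (.l ⟨⟨6, 0, 0, 0, 0, 0, 0, 0⟩, ⟨0, 3, 0, 3, 0, -1, 2, 1⟩, ⟨-3, 3, 3, -3, -1, 1, -3, 1⟩⟩ [26, 8, 97, 64, 98, 99, 49])
  (.l ⟨⟨6, 0, 0, 0, 0, 0, 0, 0⟩, ⟨0, 0, 0, 0, 0, -2, -2, 2⟩, ⟨-3, 0, 3, 0, 3, -2, 1, 2⟩⟩ [275, 223, 298, 232, 220, 212, 143]))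
  (.l ⟨⟨6, 0, 0, 0, 0, 0, 0, 0⟩, ⟨-6, 0, 0, 0, 0, 0, 0, 0⟩, ⟨-3, 6, -3, 0, 1, 0, 1, -2⟩⟩ [191, 74, 73, 155, 151, 243, 54]))
  (.n (.l ⟨⟨12, 0, 0, 0, 0, 0, 0, 0⟩, ⟨-3, 0, 3, 0, 1, 2, -3, 2⟩, ⟨3, 0, -3, 6, -1, 0, -1, 2⟩⟩ [90, 89, 110, 220, 221, 46, 53])
  (.l ⟨⟨12, 0, 0, 0, 0, 0, 0, 0⟩, ⟨-3, 6, -3, 0, -1, 2, 1, 0⟩, ⟨-3, 0, -3, 0, 3, -2, 1, 2⟩⟩ [221, 142, 246, 140, 90, 304, 148])))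
  (.n (.n (.l ⟨⟨12, 0, 0, 0, 0, 0, 0, 0⟩, ⟨-3, 6, 3, 0, -1, 0, -1, 2⟩, ⟨-3, 6, 3, 0, -1, 0, -1, 2⟩⟩ [58, 57, 58, 72, 162, 58, 50])
  (.l ⟨⟨12, 0, 0, 0, 0, 0, 0, 0⟩, ⟨3, -6, -3, 0, -1, 0, -1, 2⟩, ⟨3, 0, 3, -6, 1, -2, -1, 0⟩⟩ [188, 71, 153, 299, 188, 280, 112]))
  (.n (.l ⟨⟨6, 0, 0, 0, 0, 0, 0, 0⟩, ⟨3, -3, 3, -3, -3, 1, 1, -1⟩, ⟨-6, 3, 6, -3, 4, -3, -2, 1⟩⟩ [76, 121, 107, 207, 39, 74, 264])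
  (.l ⟨⟨6, 0, 0, 0, 0, 0, 0, 0⟩, ⟨6, -3, -6, 3, 4, -3, -2, 1⟩, ⟨-3, 3, 3, -3, 1, -1, 3, -1⟩⟩ [252, 114, 157, 143, 144, 258, 299]))))))
  (.n (.n (.n (.n (.n (.n (.l ⟨⟨6, 0, 0, 0, 0, 0, 0, 0⟩, ⟨0, 3, 0, 3, 0, -1, 2, 1⟩, ⟨3, -3, -3, 3, 1, -1, 3, -1⟩⟩ [8, 26, 28, 29, 30, 25, 7])
  (.l ⟨⟨6, 0, 0, 0, 0, 0, 0, 0⟩, ⟨-3, -3, -3, -3, 1, 3, 1, 1⟩, ⟨0, -3, 0, -3, 0, -1, 2, 1⟩⟩ [236, 243, 131, 164, 229, 121, 144]))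
  (.l ⟨⟨6, 0, 0, 0, 0, 0, 0, 0⟩, ⟨3, 0, -3, 0, 3, -2, 1, 2⟩, ⟨0, 0, 0, 0, 2, -2, 0, -2⟩⟩ [239, 237, 119, 112, 43, 241, 194]))
  (.n (.l ⟨⟨12, 0, 0, 0, 0, 0, 0, 0⟩, ⟨-3, 6, 3, 0, 1, 0, 1, -2⟩, ⟨3, 0, 3, -6, 1, -2, -1, 0⟩⟩ [186, 187, 189, 190, 71, 92, 18])
  (.l ⟨⟨6, 0, 0, 0, 0, 0, 0, 0⟩, ⟨-3, 6, 3, 0, -1, 2, 1, 0⟩, ⟨0, 0, 0, 0, 0, 2, 2, -2⟩⟩ [79, 200, 134, 181, 177, 224, 134])))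
  (.n (.n (.n (.l ⟨⟨6, 0, 0, 0, 0, 0, 0, 0⟩, ⟨-6, 3, -6, 3, 2, -1, 4, -3⟩, ⟨3, -3, -3, 3, 1, -1, 3, -1⟩⟩ [40, 10, 64, 122, 123, 124, 26])
  (.l ⟨⟨6, 0, 0, 0, 0, 0, 0, 0⟩, ⟨0, 0, 0, 0, 2, -2, 0, -2⟩, ⟨-3, 0, -3, 0, -1, -2, 3, -2⟩⟩ [222, 179, 218, 176, 306, 286, 238]))
  (.l ⟨⟨2, 0, 0, 0, 0, 0, 0, 0⟩, ⟨0, 0, -2, 0, 0, 0, 0, 0⟩, ⟨-1, 0, -1, 0, 1, 0, 1, 0⟩⟩ [156, 198, 66, 113, 115, 63, 118]))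
  (.n (.l ⟨⟨6, 0, 0, 0, 0, 0, 0, 0⟩, ⟨0, -3, 0, 3, -2, -1, 0, -1⟩, ⟨-3, 3, -3, 3, 3, -1, -1, 1⟩⟩ [100, 225, 30, 240, 31, 177, 202])
  (.l ⟨⟨6, 0, 0, 0, 0, 0, 0, 0⟩, ⟨0, 0, 0, 0, 0, -2, -2, 2⟩, ⟨3, 0, -3, 0, -3, 2, -1, -2⟩⟩ [223, 275, 312, 261, 218, 306, 98]))))
  (.n (.n (.n (.n (.l ⟨⟨4, 0, 0, 0, 0, 0, 0, 0⟩, ⟨-1, 0, 1, 0, 1, 0, 1, 0⟩, ⟨-1, 0, 1, 0, 1, 0, 1, 0⟩⟩ [6, 11, 6, 85, 77, 23, 86])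
  (.l ⟨⟨6, 0, 0, 0, 0, 0, 0, 0⟩, ⟨0, -3, 0, -3, 0, -1, 2, 1⟩, ⟨3, -3, 3, -3, 3, -1, -1, 1⟩⟩ [280, 139, 266, 157, 209, 153, 188]))
  (.l ⟨⟨6, 0, 0, 0, 0, 0, 0, 0⟩, ⟨3, 0, -3, 6, -1, 2, 1, 0⟩, ⟨0, 0, 6, 0, 0, 0, 0, 0⟩⟩ [152, 53, 192, 277, 155, 284, 115]))
  (.n (.l ⟨⟨2, 0, 0, 0, 0, 0, 0, 0⟩, ⟨0, 0, -2, 0, 0, 0, 0, 0⟩, ⟨1, 0, -1, 0, 1, 0, -1, 0⟩⟩ [113, 136, 184, 198, 24, 203, 212])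
  (.l ⟨⟨6, 0, 0, 0, 0, 0, 0, 0⟩, ⟨3, 0, 3, 0, -1, -2, 3, -2⟩, ⟨0, 0, 0, 0, 0, 2, 2, -2⟩⟩ [214, 213, 132, 287, 260, 127, 260])))
  (.n (.n (.n (.l ⟨⟨1, 0, 0, 0, 0, 0, 0, 0⟩, ⟨0, 0, -1, 0, 0, 0, 0, 0⟩, ⟨0, 0, 0, 0, 0, 0, 0, 0⟩⟩ [65, 65, 63, 65, 14, 156, 157])
  (.l ⟨⟨3, 0, 0, 0, 0, 0, 0, 0⟩, ⟨0, 0, 0, 0, 0, -1, -1, 1⟩, ⟨0, 0, 0, 0, 0, 0, 0, 0⟩⟩ [264, 264, 212, 264, 285, 275, 218]))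
  (.l ⟨⟨6, 0, 0, 0, 0, 0, 0, 0⟩, ⟨0, -3, 0, 3, 2, 1, 0, 1⟩, ⟨-3, -3, 3, 3, 1, 1, -1, -3⟩⟩ [108, 229, 249, 95, 168, 288, 68]))
  (.n (.l ⟨⟨6, 0, 0, 0, 0, 0, 0, 0⟩, ⟨0, 0, 0, 0, -2, 2, 0, 2⟩, ⟨-3, 0, 3, 0, -3, 2, -1, -2⟩⟩ [216, 258, 135, 37, 213, 250, 131])
  (.l ⟨⟨6, 0, 0, 0, 0, 0, 0, 0⟩, ⟨3, -3, -3, 3, -1, 1, -3, 1⟩, ⟨6, -3, -6, 3, 4, -3, -2, 1⟩⟩ [288, 281, 114, 278, 233, 249, 110])))))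
  (.n (.n (.n (.n (.n (.l ⟨⟨12, 0, 0, 0, 0, 0, 0, 0⟩, ⟨-3, 6, 3, 0, -1, 0, -1, 2⟩, ⟨3, -6, -3, 0, 1, 0, 1, -2⟩⟩ [57, 58, 15, 60, 61, 62, 3])
  (.l ⟨⟨6, 0, 0, 0, 0, 0, 0, 0⟩, ⟨-6, 0, 0, 0, 0, 0, 0, 0⟩, ⟨3, 0, -3, 6, 1, -2, -1, 0⟩⟩ [276, 314, 262, 271, 291, 259, 133]))
  (.l ⟨⟨6, 0, 0, 0, 0, 0, 0, 0⟩, ⟨3, 3, 3, 3, 1, 3, 1, 1⟩, ⟨0, -3, 0, 3, -2, -1, 0, -1⟩⟩ [145, 126, 127, 251, 48, 214, 283]))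
  (.n (.l ⟨⟨6, 0, 0, 0, 0, 0, 0, 0⟩, ⟨3, -6, -3, 0, 1, -2, -1, 0⟩, ⟨0, 0, 0, 0, 0, -2, -2, 2⟩⟩ [199, 180, 197, 201, 105, 93, 21])
  (.l ⟨⟨6, 0, 0, 0, 0, 0, 0, 0⟩, ⟨0, -3, 0, 3, 2, 1, 0, 1⟩, ⟨3, -3, -3, 3, -1, 1, -3, 1⟩⟩ [208, 86, 273, 123, 308, 175, 181])))
  (.n (.n (.n (.l ⟨⟨6, 0, 0, 0, 0, 0, 0, 0⟩, ⟨0, -3, 0, -3, 0, 1, -2, -1⟩, ⟨-3, -3, 3, 3, -1, -1, 1, 3⟩⟩ [12, 49, 125, 31, 126, 75, 47])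
  (.l ⟨⟨6, 0, 0, 0, 0, 0, 0, 0⟩, ⟨-6, 0, 0, 0, 0, 0, 0, 0⟩, ⟨-3, 0, 3, -6, -1, 2, 1, 0⟩⟩ [314, 276, 257, 303, 190, 253, 226]))
  (.l ⟨⟨3, 0, 0, 0, 0, 0, 0, 0⟩, ⟨0, 0, 0, 0, -1, 1, 0, 1⟩, ⟨0, 0, 0, 0, 0, 0, 0, 0⟩⟩ [294, 294, 166, 294, 212, 207, 66]))
  (.n (.l ⟨⟨12, 0, 0, 0, 0, 0, 0, 0⟩, ⟨3, 0, -3, 6, -1, 0, -1, 2⟩, ⟨-3, 0, 3, 0, 1, 2, -3, 2⟩⟩ [110, 106, 90, 245, 248, 117, 249])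
  (.l ⟨⟨6, 0, 0, 0, 0, 0, 0, 0⟩, ⟨-3, 0, 3, 0, -3, 2, -1, -2⟩, ⟨0, 0, 0, 0, -2, 2, 0, 2⟩⟩ [135, 270, 216, 248, 102, 104, 255]))))
  (.n (.n (.n (.n (.l ⟨⟨6, 0, 0, 0, 0, 0, 0, 0⟩, ⟨3, -3, -3, 3, 1, -1, 3, -1⟩, ⟨0, 3, 0, 3, 0, -1, 2, 1⟩⟩ [28, 51, 8, 47, 103, 106, 13])
  (.l ⟨⟨12, 0, 0, 0, 0, 0, 0, 0⟩, ⟨3, 0, -3, 0, 1, 2, -3, 2⟩, ⟨-3, 6, -3, 0, 1, -2, -1, 0⟩⟩ [230, 307, 201, 215, 254, 148, 221]))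
  (.l ⟨⟨12, 0, 0, 0, 0, 0, 0, 0⟩, ⟨-3, 0, -3, 6, 1, -2, -1, 0⟩, ⟨-3, 0, -3, 6, 1, -2, -1, 0⟩⟩ [61, 161, 61, 289, 57, 61, 100]))
  (.n (.l ⟨⟨6, 0, 0, 0, 0, 0, 0, 0⟩, ⟨3, -3, 3, -3, -3, 1, 1, -1⟩, ⟨0, -3, 0, 3, -2, -1, 0, -1⟩⟩ [98, 33, 225, 183, 26, 226, 217])
  (.l ⟨⟨6, 0, 0, 0, 0, 0, 0, 0⟩, ⟨0, 0, 0, 0, 0, 2, 2, -2⟩, ⟨-3, 0, 3, 0, 3, -2, 1, 2⟩⟩ [231, 283, 306, 274, 92, 223, 220])))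
  (.n (.n (.l ⟨⟨1, 0, 0, 0, 0, 0, 0, 0⟩, ⟨0, 0, 0, 0, 0, 0, 0, 0⟩, ⟨0, 0, 1, 0, 0, 0, 0, 0⟩⟩ [17, 63, 55, 20, 16, 167, 168])
  (.l ⟨⟨6, 0, 0, 0, 0, 0, 0, 0⟩, ⟨6, 0, 0, 0, 0, 0, 0, 0⟩, ⟨3, -6, 3, 0, -1, 0, -1, 2⟩⟩ [155, 154, 72, 74, 152, 269, 122]))
  (.n (.l ⟨⟨6, 0, 0, 0, 0, 0, 0, 0⟩, ⟨0, 3, 0, -3, 2, 1, 0, 1⟩, ⟨-3, -3, -3, -3, -1, -3, -1, -1⟩⟩ [228, 149, 143, 266, 41, 215, 156])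
  (.l ⟨⟨12, 0, 0, 0, 0, 0, 0, 0⟩, ⟨-3, 0, 3, -6, -1, 0, -1, 2⟩, ⟨3, 0, 3, 0, 3, -2, 1, 2⟩⟩ [254, 253, 305, 120, 230, 232, 239]))))))))

/-! the generating reflections -/

def w_g1 : V := ⟨⟨1, 0, 0, 0, 0, 0, 0, 0⟩, ⟨0, 0, 0, 0, 0, 0, 0, 0⟩, ⟨0, 0, 0, 0, 0, 0, 0, 0⟩⟩
def w_g2 : V := ⟨⟨0, 0, 0, 0, 0, 0, 0, 0⟩, ⟨1, 0, 0, 0, 0, 0, 0, 0⟩, ⟨0, 0, 0, 0, 0, 0, 0, 0⟩⟩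
def w_g4 : V := ⟨⟨0, 0, 0, 0, 0, 0, 0, 0⟩, ⟨1, 0, 0, 0, 0, 0, 0, 0⟩, ⟨1, 0, 0, 0, 0, 0, 0, 0⟩⟩
def w_g5 : V := ⟨⟨1, 0, 0, 0, 0, 0, 0, 0⟩, ⟨1, 0, 0, 0, 0, 0, 0, 0⟩, ⟨0, 0, 0, 0, 0, 0, 0, 0⟩⟩
def w_g8 : V := ⟨⟨0, 0, 0, 0, 0, 0, 0, 0⟩, ⟨1, 0, 0, 0, 0, 0, 0, 0⟩, ⟨0, 0, 1, 0, 0, 0, 0, 0⟩⟩
def w_g6 : V := ⟨⟨1, 0, 1, 0, 1, 0, 1, 0⟩, ⟨2, 0, 0, 0, 0, 0, 0, 0⟩, ⟨2, 0, 0, 0, 0, 0, 0, 0⟩⟩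
def w_g0 : V := ⟨⟨6, 0, 0, 0, 0, 0, 0, 0⟩, ⟨0, 3, 0, 3, 0, -1, 2, 1⟩, ⟨3, -3, -3, 3, 1, -1, 3, -1⟩⟩

/-- check of all vectors of a tree -/
noncomputable def chkT (n : ℕ) (wc w : RV) (j : ℕ) : T → Bool
  | .l v ks => forceV v fun v' => forceV (tree.get (ks.getD j 0)) fun v'' => chkK n wc w v' v''
  | .n a b => chkT n wc w j a && chkT n wc w j b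

/-- check of a generator -/
noncomputable def chkG (n : ℕ) (w : V) (j : ℕ) : Bool :=
  forceV w fun w => forceR w.x.conj fun x => forceR w.y.conj fun y => forceR w.z.conj fun z => chkT n ⟨x, y, z⟩ w j tree

theorem chk_g1 : chkG 1 w_g1 0 = true := by decide +kernel

theorem chk_g2 : chkG 1 w_g2 1 = true := by decide +kernel

theorem chk_g4 : chkG 2 w_g4 2 = true := by decide +kernel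

theorem chk_g5 : chkG 2 w_g5 3 = true := by decide +kernel

theorem chk_g8 : chkG 2 w_g8 4 = true := by decide +kernel

theorem chk_g6 : chkG 16 w_g6 5 = true := by decide +kernel

theorem chk_g0 : chkG 144 w_g0 6 = true := by decide +kernel

end Cfsg.Agent.H476.JTwo
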