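import Cfsg.Agent.H476.JTwo.Tps

/-!
# The outer automorphism (helper476, for S5806)
-/

set_option autoImplicit false
set_option linter.unusedSectionVars false

namespace Cfsg.Agent.H476.JTwo

open Cfsg Cfsg.Geo Matrix Module

universe u v

namespace Frm

variable {R : Type*} [Ring R] {st : R → R} {ε p1 p3 q1 q3 e8 e6 : R} (H : Frm st ε p1 p3 q1 q3 e8 e6)
include H

theorem colD {e3 e4 : R} (h3 : e3 = p3 * q3) (h4 : 2 * e4 = (ε + p3) * (ε + q3)) :
    (1 - 2 * e4) * (1 - 2 * e8) * (1 - 2 * e3) * (p1 * qX ε q1 e6 + ε + p3) =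
      p1 * qX ε q1 e6 + qI ε p3 e8 + p3 * qI ε p3 e8 := by
  have h8 := H.form8
  generalize qX ε q1 e6 = X at *
  have a1 : (1 - 2 * e3) * (p1 * X + ε + p3) = p1 * X + ε - p3 := by
    rw [h3]
    linear_combination (norm := noncomm_ring) -2 * p3 * (H.q31 * X + H.q3e + H.q33) - 2 * H.p3e
  have a2 : (1 - 2 * e8) * (p1 * X + ε - p3) = p1 * X - qI ε p3 e8 - p3 * qI ε p3 e8 := by
    rw [h8]
    linear_combination (norm := noncomm_ring) -(ε + p3 * qI ε p3 e8) * (H.ep1 * X + H.ee - H.ep3 -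
      qI ε p3 e8 * H.q31 * X - qI ε p3 e8 * H.q3e + qI ε p3 e8 * H.q33 + H.Ie) - H.ee - H.eI - p3 * H.Ie -
      p3 * H.II + H.p3e
  have a3 : (1 - 2 * e4) * (p1 * X - qI ε p3 e8 - p3 * qI ε p3 e8) =
      p1 * X + qI ε p3 e8 + p3 * qI ε p3 e8 := by
    rw [h4]
    linear_combination (norm := noncomm_ring) -(ε + p3) * (H.ep1 * X - H.eI - H.ep3 * qI ε p3 e8 + H.q31 * X -
      H.q3I - H.q33 * qI ε p3 e8 - H.eI) + 2 * H.eI
  rw [mul_assoc, mul_assoc, a1, a2, a3]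

theorem rowD {e3 e4 : R} (s3 : st e3 = e3) (s4 : st e4 = e4) (h3 : e3 = p3 * q3) (h4 : 2 * e4 = (ε + p3) * (ε + q3)) :
    ((ε - qX ε q1 e6) * q1 + ε + q3) * ((1 - 2 * e3) * (1 - 2 * e8) * (1 - 2 * e4)) =
      (ε - qX ε q1 e6) * q1 - qI ε p3 e8 - qI ε p3 e8 * q3 := by
  have h := congrArg st (H.colD h3 h4)
  simp only [H.ad.mul, H.ad.add, H.ad.sub, H.ad.one, H.ad.two, s3, s4, H.s8, H.stX, H.s1, H.s3, H.se, H.stI] at h
  linear_combination (norm := noncomm_ring) h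

/-- `4 q1 (D e6 D⁻¹) ε = - X i` -/
theorem D6 {e3 e4 : R} (s3 : st e3 = e3) (s4 : st e4 = e4) (h3 : e3 = p3 * q3) (h4 : 2 * e4 = (ε + p3) * (ε + q3)) :
    4 * (q1 * ((1 - 2 * e4) * (1 - 2 * e8) * (1 - 2 * e3) * e6 * ((1 - 2 * e3) * (1 - 2 * e8) * (1 - 2 * e4))) * ε) =
      -(qX ε q1 e6 * qI ε p3 e8) := by
  have hc := H.colD h3 h4
  have hr := H.rowD s3 s4 h3 h4
  have h6 := H.form6
  have h : 4 * (q1 * ((1 - 2 * e4) * (1 - 2 * e8) * (1 - 2 * e3) * e6 * ((1 - 2 * e3) * (1 - 2 * e8) * (1 - 2 * e4))) * ε) =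
      q1 * (p1 * qX ε q1 e6 + qI ε p3 e8 + p3 * qI ε p3 e8) *
        (((ε - qX ε q1 e6) * q1 - qI ε p3 e8 - qI ε p3 e8 * q3) * ε) := by
    rw [← hc, ← hr]
    generalize (1 - 2 * e4) * (1 - 2 * e8) * (1 - 2 * e3) = D at *
    generalize (1 - 2 * e3) * (1 - 2 * e8) * (1 - 2 * e4) = D' at *
    linear_combination (norm := noncomm_ring) q1 * D * h6 * D' * ε
  rw [h]
  have a1 : q1 * (p1 * qX ε q1 e6 + qI ε p3 e8 + p3 * qI ε p3 e8) = qX ε q1 e6 := by
    linear_combination (norm := noncomm_ring) H.q11 * qX ε q1 e6 + H.eX + H.q1I + H.q13 * qI ε p3 e8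
  have a2 : ((ε - qX ε q1 e6) * q1 - qI ε p3 e8 - qI ε p3 e8 * q3) * ε = -qI ε p3 e8 := by
    linear_combination (norm := noncomm_ring) (ε - qX ε q1 e6) * H.q1e - H.Ie - qI ε p3 e8 * H.q3e
  rw [a1, a2, mul_neg]

end Frm

variable {F : Type u} [Field F]

theorem three_ne (h3 : (3 : F) ≠ 0) {ε : M6 F} (he : ε ≠ 0) : 3 * ε ≠ 0 := by
  rw [three_mul_eq]
  exact smul_ne_zero h3 he

/-- an element of the quaternion algebra commuting with `i`, `j` is a scalar -/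
theorem Fr.scalar_of_comm {ε p1 p3 q1 q3 I J : M6 F} (K : Fr sa ε p1 p3 q1 q3 I J) (he : Rf ε) (h2 : (2 : F) ≠ 0)
    (h3 : (3 : F) ≠ 0) {m : M6 F} (hm : ε * m = m) (hm' : m * ε = m) (hI : m * I = I * m) (hJ : m * J = J * m) :
    ∃ c : F, m = c • ε := by
  have hS := adj_sa (F := F)
  have hsm : ε * sa m = sa m := by
    have h := congrArg sa hm'
    rwa [hS.mul, K.se] at h
  have hsm' : sa m * ε = sa m := by
    have h := congrArg sa hm
    rwa [hS.mul, K.se] at h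
  obtain ⟨t, ht⟩ := he.scalar h2 (A := m + sa m) (by rw [hS.add, hS.st_st]; abel)
  have ht' : m + sa m = t • ε := by
    rw [← ht, mul_add, add_mul, hm, hm', hsm, hsm']
  set m0 := m - (t / 2) • ε with hm0
  have s0 : sa m0 = -m0 := by
    rw [hm0, hS.sub, sa_smul, K.se]
    have h5 : sa m = t • ε - m := by rw [← ht']; abel
    rw [h5]
    have h6 : t • ε = (t / 2) • ε + (t / 2) • ε := by
      rw [← add_smul]
      congr 1
      field_simp
      ring
    rw [h6]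
    abel
  have c0 : m0 * I = I * m0 := by
    rw [hm0, sub_mul, mul_sub, smul_mul_assoc, mul_smul_comm, hI, K.eI, K.Ie]
  have c1 : m0 * J = J * m0 := by
    rw [hm0, sub_mul, mul_sub, smul_mul_assoc, mul_smul_comm, hJ, K.eJ, K.Je]
  have e0' : ε * m0 = m0 := by rw [hm0, mul_sub, hm, mul_smul_comm, K.ee]
  have sI : sa (m0 * I) = m0 * I := by
    rw [hS.mul, K.sI, s0, neg_mul_neg, c0]
  obtain ⟨l, hl⟩ := he.scalar h2 sI
  have hl' : m0 * I = l • ε := by
    rw [← hl, ← mul_assoc, e0', mul_assoc, K.Ie]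
  have hm0' : m0 = -(l • I) := by
    have h5 : m0 * I * I = l • I := by rw [hl', smul_mul_assoc, K.eI]
    rw [mul_assoc, K.II, mul_neg] at h5
    have h6 : m0 * ε = m0 := by rw [hm0, sub_mul, hm', smul_mul_assoc, K.ee]
    rw [h6] at h5
    rw [← h5, neg_neg]
  have hIJ : I * J ≠ 0 := by
    intro h0
    have h5 := K.IJIJ
    rw [h0, mul_zero] at h5
    exact three_ne h3 he.ne_zero (neg_eq_zero.1 h5.symm)
  have hl0 : l = 0 := by
    rw [hm0', neg_mul, mul_neg, smul_mul_assoc, mul_smul_comm, K.JI, smul_neg, neg_neg] at c1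
    have h5 : (2 * l) • (I * J) = 0 := by
      rw [mul_smul, two_smul]
      nth_rw 1 [← c1]
      abel
    rcases smul_eq_zero.1 h5 with h6 | h6
    · exact (mul_eq_zero.1 h6).resolve_left h2
    · exact absurd h6 hIJ
  rw [hl0, zero_smul, neg_zero] at hm0'
  exact ⟨t / 2, sub_eq_zero.1 (hm0.symm.trans hm0')⟩

variable {e1 e2 e3 e4 e5 e6 e8 : M6 F} (H : Rels sa e1 e2 e3 e4 e5 e6 e8)

include H

/-- **an element inducing the outer automorphism gives a square root of three** -/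
theorem Rels.outer (he2 : Rf e2) (h2 : (2 : F) ≠ 0) (h3 : (3 : F) ≠ 0) {k k' : M6 F} (hk : k * k' = 1)
    (hk' : k' * k = 1) (hs : sa k = k') (c1 : k * e1 = e1 * k) (c2 : k * e2 = e2 * k) (c3 : k * e3 = e3 * k)
    (c4 : k * e4 = e4 * k) (c5 : k * e5 = e5 * k) (c8 : k * e8 = rr e3 * e8 * rr e3 * k)
    (c6 : k * e6 = rr e4 * rr e8 * rr e3 * e6 * (rr e3 * rr e8 * rr e4) * k) : ∃ c : F, c * c = 3 := by
  have hS := adj_sa (F := F)
  have K := H.frm
  have L := H.fr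
  have hD := K.D6 H.s3 H.s4 H.e3_eq H.e4_eq
  have kp3 : k * fp3 e2 e3 e4 = fp3 e2 e3 e4 * k := by
    unfold fp3
    linear_combination (norm := noncomm_ring) 2 * c3 * e4 * e2 + 2 * e3 * c4 * e2 + 2 * e3 * e4 * c2
  have kq1 : k * fq1 e1 e2 e5 = fq1 e1 e2 e5 * k := by
    unfold fq1
    linear_combination (norm := noncomm_ring) 2 * c2 * e5 * e1 + 2 * e2 * c5 * e1 + 2 * e2 * e5 * c1
  have kI : k * rI e2 e3 e4 e8 = -(rI e2 e3 e4 e8 * k) := by
    have a1 : e2 * rr e3 = e2 := by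
      unfold rr
      linear_combination (norm := noncomm_ring) -2 * H.z23
    have a2 : rr e3 * fp3 e2 e3 e4 = -fp3 e2 e3 e4 := by
      unfold rr fp3
      linear_combination (norm := noncomm_ring) -4 * H.i3 * e4 * e2
    unfold rI qI
    linear_combination (norm := noncomm_ring) -2 * c2 * e8 * fp3 e2 e3 e4 - 2 * e2 * c8 * fp3 e2 e3 e4 -
      2 * a1 * e8 * rr e3 * k * fp3 e2 e3 e4 - 2 * e2 * e8 * rr e3 * kp3 - 2 * e2 * e8 * a2 * k
  have kX : k * qX e2 (fq1 e1 e2 e5) e6 = -(qX e2 (fq1 e1 e2 e5) e6 * rI e2 e3 e4 e8 * k) := by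
    change _ = -(qX e2 (fq1 e1 e2 e5) e6 * qI e2 (fp3 e2 e3 e4) e8 * k)
    have hD' : qX e2 (fq1 e1 e2 e5) e6 * qI e2 (fp3 e2 e3 e4) e8 =
        -(4 * (fq1 e1 e2 e5 * (rr e4 * rr e8 * rr e3 * e6 * (rr e3 * rr e8 * rr e4)) * e2)) := by
      unfold rr
      rw [hD, neg_neg]
    rw [hD']
    unfold qX
    generalize rr e4 * rr e8 * rr e3 = D at *
    generalize rr e3 * rr e8 * rr e4 = D' at *
    linear_combination (norm := noncomm_ring) 4 * kq1 * e6 * e2 + 4 * fq1 e1 e2 e5 * c6 * e2 +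
      4 * fq1 e1 e2 e5 * D * e6 * D' * c2
  have hXI := K.XI H.h9
  change qX e2 (fq1 e1 e2 e5) e6 * rI e2 e3 e4 e8 + rI e2 e3 e4 e8 * qX e2 (fq1 e1 e2 e5) e6 =
    rI e2 e3 e4 e8 - e2 at hXI
  have eX := K.eX
  have kJ : k * rJ e1 e2 e3 e4 e5 e6 e8 = -(rJ e1 e2 e3 e4 e5 e6 e8 * k) := by
    have hII := L.II
    have hIe := L.Ie
    have heI := L.eI
    unfold rJ qJ
    generalize rI e2 e3 e4 e8 = I at *
    generalize qX e2 (fq1 e1 e2 e5) e6 = X at *
    linear_combination (norm := noncomm_ring) c2 * X - kI * X + e2 * kX + I * kX - c2 - e2 * hXI * k - I * hXI * k +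
      heI * X * k + hII * X * k - hII * k + hIe * k + H.i2 * k - heI * k
  have k'I : k' * rI e2 e3 e4 e8 = -(rI e2 e3 e4 e8 * k') := by
    linear_combination (norm := noncomm_ring) k' * kI * k' - hk' * rI e2 e3 e4 e8 * k' - k' * rI e2 e3 e4 e8 * hk
  have k'J : k' * rJ e1 e2 e3 e4 e5 e6 e8 = -(rJ e1 e2 e3 e4 e5 e6 e8 * k') := by
    linear_combination (norm := noncomm_ring) k' * kJ * k' - hk' * rJ e1 e2 e3 e4 e5 e6 e8 * k' -
      k' * rJ e1 e2 e3 e4 e5 e6 e8 * hk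
  have k'e : k' * e2 = e2 * k' := by
    linear_combination (norm := noncomm_ring) -k' * c2 * k' + hk' * e2 * k' - k' * e2 * hk
  have hIJI := L.IJI
  have hIIJ := L.IIJ
  have hIJJ := L.IJJ
  have hJIJ := L.JIJ
  have hIJIJ := L.IJIJ
  have heI := L.eI
  have hJe := L.Je
  have hsI := L.sI
  have hsJ := L.sJ
  have hJI := L.JI
  generalize hIg : rI e2 e3 e4 e8 = I at *
  generalize hJg : rJ e1 e2 e3 e4 e5 e6 e8 = J at *
  obtain ⟨c, hc⟩ := L.scalar_of_comm he2 h2 h3 (m := k' * (I * J))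
    (by linear_combination (norm := noncomm_ring) -k'e * (I * J) + k' * heI * J)
    (by linear_combination (norm := noncomm_ring) k' * I * hJe)
    (by linear_combination (norm := noncomm_ring) k' * hIJI + k' * hIIJ - k'I * (I * J))
    (by linear_combination (norm := noncomm_ring) k' * hIJJ + k' * hJIJ - k'J * (I * J))
  refine ⟨c, ?_⟩
  have h5 : sa (k' * (I * J)) = -(I * J * k) := by
    rw [hS.mul, ← hs, hS.st_st, hS.mul, hsI, hsJ]
    linear_combination (norm := noncomm_ring) hJI * k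
  have h6 : k' * (I * J) * sa (k' * (I * J)) = 3 * e2 := by
    rw [h5]
    linear_combination (norm := noncomm_ring) -k' * hIJIJ * k + 3 * k'e * k + 3 * e2 * hk'
  rw [hc, sa_smul, H.s2, smul_mul_smul_comm, H.i2, three_mul_eq] at h6
  exact smul_left_injective F he2.ne_zero h6

end Cfsg.Agent.H476.JTwo
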