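import Cfsg.Agent.H476.JTwo.Mat

/-!
# Two reflections (helper476, for S5806)
-/

set_option autoImplicit false
set_option linter.unusedSectionVars false

namespace Cfsg.Agent.H476.JTwo

open Cfsg Cfsg.Geo Matrix Module

universe u

variable {F : Type u} [Field F] {e f : M6 F}

theorem two_mul_eq (x : M6 F) : 2 * x = (2 : F) • x := by
  rw [ofNat_smul_eq_nsmul, nsmul_eq_mul]; rfl

theorem four_mul_eq (x : M6 F) : 4 * x = (4 : F) • x := by
  rw [ofNat_smul_eq_nsmul, nsmul_eq_mul]; rfl

theorem three_mul_eq (x : M6 F) : 3 * x = (3 : F) • x := by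
  rw [ofNat_smul_eq_nsmul, nsmul_eq_mul]; rfl

/-- the reflection -/
def rr (e : M6 F) : M6 F := 1 - 2 * e

theorem Rf.rr_rr (he : Rf e) : rr e * rr e = 1 := by
  unfold rr
  linear_combination (norm := noncomm_ring) 4 * he.idem

theorem pow_form (e f : M6 F) (m : ℕ) : ∃ a b : M6 F, (rr e * rr f) ^ m = 1 - (e * a + f * b) := by
  induction m with
  | zero => exact ⟨0, 0, by simp⟩
  | succ m ih =>
    obtain ⟨a, b, h⟩ := ih
    have h1 : rr e * rr f = 1 - (e * (2 - 4 * f) + f * 2) := by
      unfold rr
      noncomm_ring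
    refine ⟨a + (2 - 4 * f) - a * (e * (2 - 4 * f) + f * 2), b + 2 - b * (e * (2 - 4 * f) + f * 2), ?_⟩
    rw [pow_succ, h, h1]
    noncomm_ring

theorem Rf.pow_one_of (he : Rf e) (hf : Rf f) (h2 : (2 : F) ≠ 0) {m : ℕ}
    (h : (rr e * rr f) ^ m = 1 ∨ (rr e * rr f) ^ m = -1) : (rr e * rr f) ^ m = 1 := by
  rcases h with h | h
  · exact h
  · exfalso
    obtain ⟨a, b, hab⟩ := pow_form e f m
    apply he.no_unit hf a b 2 h2
    rw [← two_mul_eq]
    rw [h] at hab
    linear_combination (norm := noncomm_ring) hab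

theorem Rf.st_mul_zero (he : Rf e) (hf : Rf f) (h : e * f = 0) : f * e = 0 := by
  have h1 := congrArg sa h
  rwa [adj_sa.mul, he.adj, hf.adj, adj_sa.zero] at h1

/-- `s e = e` -/
theorem Rf.eq_of_fix (he : Rf e) (hf : Rf f) (h2 : (2 : F) ≠ 0) (h : rr e * rr f * e = e) : e = f := by
  have h1 : rr f * e = -e := by
    have h3 : rr e * (rr e * rr f * e) = rr e * e := by rw [h]
    have h4 : rr e * e = -e := by
      unfold rr
      linear_combination (norm := noncomm_ring) -2 * he.idem
    rw [← mul_assoc, ← mul_assoc, he.rr_rr, one_mul, h4] at h3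
    exact h3
  have h5 : f * e = e := by
    have h6 : (2 : F) • (f * e) = (2 : F) • e := by
      rw [← two_mul_eq, ← two_mul_eq]
      unfold rr at h1
      linear_combination (norm := noncomm_ring) -h1
    exact smul_right_injective _ h2 h6
  have h7 : e * f = e := by
    have := congrArg sa h5
    rwa [adj_sa.mul, he.adj, hf.adj] at this
  obtain ⟨c, hc⟩ := hf.scalar h2 he.adj
  rw [h5, h7] at hc
  have h8 : (c * c) • f = c • f := by
    have := he.idem
    rw [hc, smul_mul_smul_comm, hf.idem] at this
    exact this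
  have h9 : c * c = c := smul_left_injective F hf.ne_zero h8
  have hc0 : c ≠ 0 := by
    rintro rfl
    rw [zero_smul] at hc
    exact he.ne_zero hc
  have hc1 : c = 1 := mul_left_cancel₀ hc0 (by rw [h9, mul_one])
  rw [hc, hc1, one_smul]

/-- `s e = - e` -/
theorem Rf.orth_of_neg (he : Rf e) (h2 : (2 : F) ≠ 0) (h : rr e * rr f * e = -e) : f * e = 0 := by
  have h1 : rr f * e = e := by
    have h3 : rr e * (rr e * rr f * e) = rr e * -e := by rw [h]
    have h4 : rr e * -e = e := by
      unfold rr
      linear_combination (norm := noncomm_ring) 2 * he.idem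
    rw [← mul_assoc, ← mul_assoc, he.rr_rr, one_mul, h4] at h3
    exact h3
  have h6 : (2 : F) • (f * e) = (2 : F) • 0 := by
    rw [← two_mul_eq, smul_zero]
    unfold rr at h1
    linear_combination (norm := noncomm_ring) -h1
  exact smul_right_injective _ h2 h6

/-- the eigenvalue of `s + s⁻¹` -/
theorem Rf.exists_mu (he : Rf e) (hf : Rf f) (h2 : (2 : F) ≠ 0) : ∃ μ : F,
    (rr e * rr f + rr f * rr e) * e = μ • e ∧ (4 : F) • (e * f * e) = (μ + 2) • e := by
  obtain ⟨c, hc⟩ := he.scalar h2 hf.adj
  refine ⟨4 * c - 2, ?_, ?_⟩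
  · have h1 : (rr e * rr f + rr f * rr e) * e = 4 * (e * f * e) - 2 * e := by
      unfold rr
      linear_combination (norm := noncomm_ring) -4 * he.idem + 4 * f * he.idem
    rw [h1, hc, two_mul_eq, four_mul_eq]
    module
  · rw [hc]
    module

theorem pair2 (he : Rf e) (hf : Rf f) (h2 : (2 : F) ≠ 0) (h : (rr e * rr f) ^ 2 = 1 ∨ (rr e * rr f) ^ 2 = -1)
    (hne : e ≠ f) : e * f = 0 := by
  have h1 := he.pow_one_of hf h2 h
  obtain ⟨μ, hμ, -⟩ := he.exists_mu hf h2
  have hs : rr f * rr e = rr e * rr f := by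
    have h3 : rr f * rr e * (rr e * rr f) ^ 2 = rr e * rr f := by
      rw [pow_two]
      calc rr f * rr e * (rr e * rr f * (rr e * rr f)) = rr f * (rr e * rr e) * rr f * (rr e * rr f) := by noncomm_ring
        _ = rr e * rr f := by rw [he.rr_rr, mul_one, hf.rr_rr, one_mul]
    rw [h1, mul_one] at h3
    exact h3
  rw [hs] at hμ
  have h4 : (μ * μ) • e = (4 : F) • e := by
    rw [← smul_smul, ← hμ, ← mul_smul_comm, ← hμ, ← four_mul_eq]
    rw [pow_two] at h1
    linear_combination (norm := noncomm_ring) 4 * h1 * e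
  have h5 : μ * μ = 4 := smul_left_injective F he.ne_zero h4
  have h6 : (μ - 2) * (μ + 2) = 0 := by linear_combination h5
  rcases mul_eq_zero.1 h6 with h7 | h7
  · exfalso
    apply hne
    apply he.eq_of_fix hf h2
    apply smul_right_injective _ h2
    simp only
    rw [← two_mul_eq]
    rw [sub_eq_zero.1 h7] at hμ
    linear_combination (norm := noncomm_ring) hμ
  · apply hf.st_mul_zero he
    apply he.orth_of_neg h2
    apply smul_right_injective _ h2
    simp only
    rw [← two_mul_eq, smul_neg]
    rw [eq_neg_of_add_eq_zero_left h7, neg_smul] at hμ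
    linear_combination (norm := noncomm_ring) hμ

/-- `s⁻¹` -/
theorem Rf.s_t (he : Rf e) (hf : Rf f) : rr e * rr f * (rr f * rr e) = 1 := by
  calc rr e * rr f * (rr f * rr e) = rr e * (rr f * rr f) * rr e := by noncomm_ring
    _ = 1 := by rw [hf.rr_rr, mul_one, he.rr_rr]

theorem Rf.unip (he : Rf e) (hf : Rf f) (hμ : (rr e * rr f + rr f * rr e) * e = (2 : F) • e) :
    (rr e * rr f - 1) * ((rr e * rr f - 1) * e) = 0 := by
  have h1 := he.s_t hf
  have h3 : (rr e * rr f - 1) * ((rr e * rr f - 1) * e) = rr e * rr f * ((rr e * rr f + rr f * rr e) * e) -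
      2 * (rr e * rr f * e) := by
    linear_combination (norm := noncomm_ring) -h1 * e
  rw [h3, hμ, mul_smul_comm, two_mul_eq, sub_self]

theorem Rf.unip' (he : Rf e) (hf : Rf f) (hμ : (rr e * rr f + rr f * rr e) * e = (-2 : F) • e) :
    (rr e * rr f + 1) * ((rr e * rr f + 1) * e) = 0 := by
  have h1 := he.s_t hf
  have h3 : (rr e * rr f + 1) * ((rr e * rr f + 1) * e) = rr e * rr f * ((rr e * rr f + rr f * rr e) * e) +
      2 * (rr e * rr f * e) := by
    linear_combination (norm := noncomm_ring) -h1 * e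
  rw [h3, hμ, mul_smul_comm, two_mul_eq, neg_smul, neg_add_cancel]

theorem pair3 (he : Rf e) (hf : Rf f) (h2 : (2 : F) ≠ 0) (h3 : (3 : F) ≠ 0)
    (h : (rr e * rr f) ^ 3 = 1 ∨ (rr e * rr f) ^ 3 = -1) (hne : e ≠ f) : 4 * (e * f * e) = e := by
  have h1 := he.pow_one_of hf h2 h
  obtain ⟨μ, hμ, hl⟩ := he.exists_mu hf h2
  have hst := he.s_t hf
  have hts := hf.s_t he
  have hs : rr f * rr e = (rr e * rr f) ^ 2 := by
    have h4 : rr f * rr e * (rr e * rr f) ^ 3 = (rr e * rr f) ^ 2 := by
      rw [pow_succ' _ 2, ← mul_assoc, hts, one_mul]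
    rw [h1, mul_one] at h4
    exact h4
  have h4 : (μ * μ) • e = (μ + 2) • e := by
    have h5 : (rr e * rr f + rr f * rr e) * ((rr e * rr f + rr f * rr e) * e) =
        (rr e * rr f + rr f * rr e) * e + 2 * e := by
      generalize rr e * rr f = s at *
      generalize rr f * rr e = t at *
      have h6 : t * t = s := by
        rw [hs]
        calc s ^ 2 * s ^ 2 = s ^ 3 * s := by rw [← pow_add, ← pow_succ]
          _ = s := by rw [h1, one_mul]
      rw [pow_two] at hs
      linear_combination (norm := noncomm_ring) h6 * e + hst * e + hts * e - hs * e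
    rw [hμ, mul_smul_comm, hμ, smul_smul, two_mul_eq] at h5
    rw [h5, add_smul]
  have h5 : μ * μ = μ + 2 := smul_left_injective F he.ne_zero h4
  have h6 : (μ - 2) * (μ + 1) = 0 := by linear_combination h5
  rcases mul_eq_zero.1 h6 with h7 | h7
  · exfalso
    apply hne
    rw [sub_eq_zero.1 h7] at hμ
    have hN := he.unip hf hμ
    apply he.eq_of_fix hf h2
    generalize rr e * rr f = s at *
    have h8 : (3 : F) • ((s - 1) * e) = (3 : F) • 0 := by
      rw [← three_mul_eq, smul_zero]
      have h9 : s ^ 3 = s * s * s := by rw [pow_succ, pow_two]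
      rw [h9] at h1
      linear_combination (norm := noncomm_ring) h1 * e - 3 * hN - (s - 1) * hN
    have h9 := smul_right_injective _ h3 h8
    linear_combination (norm := noncomm_ring) h9
  · rw [four_mul_eq, hl]
    have h8 : μ + 2 = 1 := by linear_combination h7
    rw [h8, one_smul]

theorem pair4 (he : Rf e) (hf : Rf f) (h2 : (2 : F) ≠ 0)
    (h : (rr e * rr f) ^ 4 = 1 ∨ (rr e * rr f) ^ 4 = -1) (hne : (rr e * rr f) ^ 2 ≠ 1) : 2 * (e * f * e) = e := by
  have h4 : (4 : F) ≠ 0 := by
    have : (4 : F) = 2 * 2 := by norm_num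
    rw [this]
    exact mul_ne_zero h2 h2
  have h1 := he.pow_one_of hf h2 h
  obtain ⟨μ, hμ, hl⟩ := he.exists_mu hf h2
  have hst := he.s_t hf
  have hts := hf.s_t he
  have hs : rr f * rr e = (rr e * rr f) ^ 3 := by
    have h4 : rr f * rr e * (rr e * rr f) ^ 4 = (rr e * rr f) ^ 3 := by
      rw [pow_succ' _ 3, ← mul_assoc, hts, one_mul]
    rw [h1, mul_one] at h4
    exact h4
  have h4' : (μ * (μ * μ)) • e = (4 * μ) • e := by
    have h5 : (rr e * rr f + rr f * rr e) * ((rr e * rr f + rr f * rr e) * ((rr e * rr f + rr f * rr e) * e)) =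
        4 * ((rr e * rr f + rr f * rr e) * e) := by
      have h1' := h1
      generalize rr e * rr f = s at *
      generalize rr f * rr e = t at *
      have h6 : t * t = s * s := by
        rw [hs, ← pow_add, ← pow_two]
        calc s ^ (3 + 3) = s ^ 4 * s ^ 2 := by rw [← pow_add]
          _ = s ^ 2 := by rw [h1, one_mul]
      have h7 : s * s * s = t := by rw [hs, pow_succ, pow_two]
      linear_combination (norm := noncomm_ring) (s + t) * h6 * e + (s + t) * hst * e + (s + t) * hts * e + 2 * h7 * e +
        2 * hts * s * e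
    simp only [hμ, mul_smul_comm, smul_smul, four_mul_eq] at h5
    rw [mul_comm 4 μ, ← h5, mul_assoc]
  have h5 : μ * (μ * μ) = 4 * μ := smul_left_injective F he.ne_zero h4'
  have h6 : μ * ((μ - 2) * (μ + 2)) = 0 := by linear_combination h5
  rcases mul_eq_zero.1 h6 with h7 | h7
  · rw [h7, zero_add] at hl
    apply smul_right_injective _ h2
    simp only
    rw [← hl, two_mul_eq, smul_smul]
    norm_num
  · exfalso
    rcases mul_eq_zero.1 h7 with h7 | h7
    · rw [sub_eq_zero.1 h7] at hμ
      have hN := he.unip hf hμ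
      have hef : e = f := by
        apply he.eq_of_fix hf h2
        generalize rr e * rr f = s at *
        have h8 : (4 : F) • ((s - 1) * e) = (4 : F) • 0 := by
          rw [← four_mul_eq, smul_zero]
          have h9 : s ^ 4 = s * s * s * s := by rw [pow_succ, pow_succ, pow_two]
          rw [h9] at h1
          linear_combination (norm := noncomm_ring) h1 * e - 6 * hN - 4 * (s - 1) * hN - (s - 1) * (s - 1) * hN
        have h9 := smul_right_injective _ h4 h8
        linear_combination (norm := noncomm_ring) h9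
      apply hne
      rw [hef, hf.rr_rr, one_pow]
    · rw [eq_neg_of_add_eq_zero_left h7] at hμ
      have hN := he.unip' hf hμ
      have h0 : f * e = 0 := by
        apply he.orth_of_neg h2
        generalize rr e * rr f = s at *
        have h8 : (4 : F) • ((s + 1) * e) = (4 : F) • 0 := by
          rw [← four_mul_eq, smul_zero]
          have h9 : s ^ 4 = s * s * s * s := by rw [pow_succ, pow_succ, pow_two]
          rw [h9] at h1
          linear_combination (norm := noncomm_ring) -h1 * e + 6 * hN - 4 * (s + 1) * hN + (s + 1) * (s + 1) * hN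
        have h9 := smul_right_injective _ h4 h8
        linear_combination (norm := noncomm_ring) h9
      have h0' := hf.st_mul_zero he h0
      apply hne
      have hc : rr e * rr f = rr f * rr e := by
        unfold rr
        linear_combination (norm := noncomm_ring) 4 * h0' - 4 * h0
      rw [pow_two]
      conv_lhs => arg 2; rw [hc]
      exact hst

end Cfsg.Agent.H476.JTwo
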