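import Cfsg.Agent.H476.JTwo.Frame

/-!
# The quaternions `i`, `j` (helper476, for S5806)
-/

set_option autoImplicit false

namespace Cfsg.Agent.H476.JTwo

/-- a frame with quaternions `i² = -1`, `j² = -3` -/
structure Fr {R : Type*} [Ring R] (st : R → R) (ε p1 p3 q1 q3 I J : R) : Prop where
  tw : ∀ x y : R, 2 * x = 2 * y → x = y
  ad : Adj st
  ee : ε * ε = ε
  se : st ε = ε
  s1 : st p1 = q1
  s3 : st p3 = q3
  p1e : p1 * ε = p1
  p3e : p3 * ε = p3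
  eq1 : ε * q1 = q1
  eq3 : ε * q3 = q3
  q11 : q1 * p1 = ε
  q33 : q3 * p3 = ε
  q13 : q1 * p3 = 0
  q31 : q3 * p1 = 0
  q1e : q1 * ε = 0
  ep1 : ε * p1 = 0
  q3e : q3 * ε = 0
  ep3 : ε * p3 = 0
  sum : p1 * q1 + ε + p3 * q3 = 1
  eI : ε * I = I
  Ie : I * ε = I
  eJ : ε * J = J
  Je : J * ε = J
  II : I * I = -ε
  JJ : J * J = -(3 * ε)
  JI : J * I = -(I * J)
  sI : st I = -I
  sJ : st J = -J

/-- the quaternion `j` -/
def qJ {R : Type*} [Ring R] (ε I X : R) : R := (ε - I) * X - ε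

theorem quat_facts {R : Type*} [Ring R] {st : R → R} {ε I X : R} (ad : Adj st) (ee : ε * ε = ε) (se : st ε = ε)
    (eI : ε * I = I) (Ie : I * ε = I) (eX : ε * X = X) (Xe : X * ε = X) (II : I * I = -ε) (sI : st I = -I)
    (XX : X * X = X - 2 * ε) (sX : st X = ε - X) (XI : X * I + I * X = I - ε) :
    ε * qJ ε I X = qJ ε I X ∧ qJ ε I X * ε = qJ ε I X ∧ qJ ε I X * qJ ε I X = -(3 * ε) ∧
      qJ ε I X * I = -(I * qJ ε I X) ∧ st (qJ ε I X) = -qJ ε I X ∧ 2 * X = (ε + I) * (ε + qJ ε I X) := by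
  unfold qJ
  refine ⟨?_, ?_, ?_, ?_, ?_, ?_⟩
  · linear_combination (norm := noncomm_ring) ee * X - eI * X - ee
  · linear_combination (norm := noncomm_ring) (ε - I) * Xe - ee
  · linear_combination (norm := noncomm_ring) (ε - I) * Xe * X - (ε - I) * XI * X + (ε - I) * I * XX + (ε - I) * XX -
      (ε - I) * Xe - ee * X + eI * X + ee + 2 * Ie - II * X + ee * X - Ie * X - eI * X + II * X - ee * X + eX +
      ε * eX + eX + eI * X - 2 * ee - 2 * eI * ε - 2 * Ie + 2 * I * Ie + 2 * II - 2 * eX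
  · linear_combination (norm := noncomm_ring) (ε - I) * XI + Ie - II - ee - Ie + I * eX - eI * X
  · rw [ad.sub, ad.mul, ad.sub, se, sI, sX]
    linear_combination (norm := noncomm_ring) ee - Xe - XI + eI + eX
  · linear_combination (norm := noncomm_ring) -(ee - eI + Ie - II) * X - 2 * eX

theorem Frm.fr {R : Type*} [Ring R] {st : R → R} {ε p1 p3 q1 q3 e8 e6 : R} (H : Frm st ε p1 p3 q1 q3 e8 e6)
    (h9 : 2 * ((q1 - qI ε p3 e8) * e6 * (p1 + qI ε p3 e8)) = ε) :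
    Fr st ε p1 p3 q1 q3 (qI ε p3 e8) (qJ ε (qI ε p3 e8) (qX ε q1 e6)) := by
  obtain ⟨h1, h2, h3, h4, h5, -⟩ := quat_facts H.ad H.ee H.se H.eI H.Ie H.eX H.Xe H.II H.stI H.XX H.stX (H.XI h9)
  exact ⟨H.tw, H.ad, H.ee, H.se, H.s1, H.s3, H.p1e, H.p3e, H.eq1, H.eq3, H.q11, H.q33, H.q13, H.q31, H.q1e, H.ep1,
    H.q3e, H.ep3, H.sum, H.eI, H.Ie, h1, h2, H.II, h3, h4, H.stI, h5⟩

theorem Frm.twoX {R : Type*} [Ring R] {st : R → R} {ε p1 p3 q1 q3 e8 e6 : R} (H : Frm st ε p1 p3 q1 q3 e8 e6)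
    (h9 : 2 * ((q1 - qI ε p3 e8) * e6 * (p1 + qI ε p3 e8)) = ε) :
    2 * qX ε q1 e6 = (ε + qI ε p3 e8) * (ε + qJ ε (qI ε p3 e8) (qX ε q1 e6)) :=
  (quat_facts H.ad H.ee H.se H.eI H.Ie H.eX H.Xe H.II H.stI H.XX H.stX (H.XI h9)).2.2.2.2.2

end Cfsg.Agent.H476.JTwo
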