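import Cfsg.Agent.H476.JTwo.Pair

/-!
# Lifts of the reflections (helper476, for S5806)
-/

set_option autoImplicit false
set_option linter.unusedSectionVars false

namespace Cfsg.Agent.H476.JTwo

open Cfsg Cfsg.Geo Matrix Module

universe u v

variable {F : Type u} [Field F] {G : Type v} [Group G] {P : Subgroup (GL (Fin 3 ⊕ Fin 3) F)}

/-- the hypotheses on the representation -/
structure RH (P : Subgroup (GL (Fin 3 ⊕ Fin 3) F)) (θ : P →* G) : Prop where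
  sp : P ≤ spGL 3 F
  surj : Function.Surjective θ
  ker : ∀ b : P, θ b = 1 → (b : GL (Fin 3 ⊕ Fin 3) F) = 1 ∨ (b : GL (Fin 3 ⊕ Fin 3) F) = -1
  ker' : ∀ b : P, (b : GL (Fin 3 ⊕ Fin 3) F) = -1 → θ b = 1
  h2 : (2 : F) ≠ 0
  h3 : (3 : F) ≠ 0

/-- `a` is a lift of `x` up to sign -/
def Lf (θ : P →* G) (a : GL (Fin 3 ⊕ Fin 3) F) (x : G) : Prop :=
  ∃ b : P, θ b = x ∧ (a = b ∨ a = -(b : GL (Fin 3 ⊕ Fin 3) F))

namespace Lf

variable {θ : P →* G} {a b : GL (Fin 3 ⊕ Fin 3) F} {x y : G}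

theorem one : Lf θ 1 1 := ⟨1, map_one θ, Or.inl rfl⟩

theorem neg (h : Lf θ a x) : Lf θ (-a) x := by
  obtain ⟨b, hb, h | h⟩ := h
  · exact ⟨b, hb, Or.inr (by rw [h])⟩
  · exact ⟨b, hb, Or.inl (by rw [h, neg_neg])⟩

theorem mul (h : Lf θ a x) (h' : Lf θ b y) : Lf θ (a * b) (x * y) := by
  obtain ⟨c, hc, h⟩ := h
  obtain ⟨d, hd, h'⟩ := h'
  refine ⟨c * d, by rw [map_mul, hc, hd], ?_⟩
  rw [Subgroup.coe_mul]
  rcases h with h | h <;> rcases h' with h' | h' <;> rw [h, h']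
  · exact Or.inl rfl
  · exact Or.inr (by rw [mul_neg])
  · exact Or.inr (by rw [neg_mul])
  · exact Or.inl (by rw [neg_mul_neg])

theorem inv (h : Lf θ a x) : Lf θ a⁻¹ x⁻¹ := by
  obtain ⟨c, hc, h⟩ := h
  refine ⟨c⁻¹, by rw [map_inv, hc], ?_⟩
  rw [Subgroup.coe_inv]
  rcases h with h | h
  · exact Or.inl (by rw [h])
  · exact Or.inr (by rw [h, inv_neg])

theorem pow (h : Lf θ a x) (n : ℕ) : Lf θ (a ^ n) (x ^ n) := by
  induction n with
  | zero => rw [pow_zero, pow_zero]; exact one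
  | succ n ih => rw [pow_succ, pow_succ]; exact ih.mul h

theorem conj (h : Lf θ a x) (h' : Lf θ b y) : Lf θ (b * a * b⁻¹) (y * x * y⁻¹) := (h'.mul h).mul h'.inv

end Lf

namespace RH

variable {θ : P →* G} (S : RH P θ) {a b : GL (Fin 3 ⊕ Fin 3) F} {x y : G}
include S

theorem exists_lf (x : G) : ∃ a, Lf θ a x := by
  obtain ⟨b, hb⟩ := S.surj x
  exact ⟨b, b, hb, Or.inl rfl⟩

theorem lf_sp (h : Lf θ a x) : a ∈ spGL 3 F := by
  obtain ⟨b, -, h | h⟩ := h
  · rw [h]; exact S.sp b.2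
  · rw [h]; exact H914.S6.neg_mem (S.sp b.2)

theorem lf_one (h : Lf θ a 1) : a = 1 ∨ a = -1 := by
  obtain ⟨b, hb, h⟩ := h
  rcases S.ker b hb with hb | hb <;> rcases h with h | h <;> rw [h, hb]
  · exact Or.inl rfl
  · exact Or.inr rfl
  · exact Or.inr rfl
  · exact Or.inl (neg_neg _)

theorem lf_uniq (h : Lf θ a x) (h' : Lf θ b x) : b = a ∨ b = -a := by
  have h1 := h'.mul h.inv
  rw [mul_inv_cancel] at h1
  rcases S.lf_one h1 with h2 | h2
  · exact Or.inl (mul_inv_eq_one.1 h2)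
  · exact Or.inr (by rw [mul_inv_eq_iff_eq_mul] at h2; rw [h2, neg_one_mul])

theorem lf_eq_one (h : Lf θ 1 x) : x = 1 := by
  obtain ⟨b, hb, h | h⟩ := h
  · rw [← hb, show b = 1 from Subtype.ext h.symm, map_one]
  · rw [← hb]
    exact S.ker' b (by
      calc (b : GL (Fin 3 ⊕ Fin 3) F) = -(-(b : GL (Fin 3 ⊕ Fin 3) F)) := (neg_neg _).symm
        _ = -1 := by rw [← h])

theorem lf_inj (h : Lf θ a x) (h' : Lf θ a y) : x = y := by
  have h1 := h.mul h'.inv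
  rw [mul_inv_cancel] at h1
  exact mul_inv_eq_one.1 (S.lf_eq_one h1)

theorem one_ne : (1 : GL (Fin 3 ⊕ Fin 3) F) ≠ -1 := by
  intro h
  have h1 := congrArg (fun g : GL (Fin 3 ⊕ Fin 3) F => (g : M6 F) (Sum.inl 0) (Sum.inl 0)) h
  simp only [Units.val_one, Units.val_neg, Matrix.one_apply_eq, Matrix.neg_apply] at h1
  exact S.h2 (by linear_combination h1)

end RH

/-- `e` is the idempotent of the reflection lifting `x` -/
def IsR (θ : P →* G) (e : M6 F) (x : G) : Prop :=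
  Rf e ∧ ∃ a, Lf θ a x ∧ (a : M6 F) = rr e

namespace RH

variable {θ : P →* G} (S : RH P θ) {a b : GL (Fin 3 ⊕ Fin 3) F} {x y : G} {e f : M6 F}
include S

theorem exR (h : Lf θ a x) (ha : a * a = 1) (hx : x ≠ 1) : ∃ e, IsR θ e x := by
  have hS := adj_sa (F := F)
  have h1 : (a : M6 F) * a = 1 := by rw [← Units.val_mul, ha, Units.val_one]
  have h2 := sa_mul_self (S.lf_sp h)
  have h3 : sa (a : M6 F) = a := by
    calc sa (a : M6 F) = sa (a : M6 F) * a * a := by rw [mul_assoc, h1, mul_one]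
      _ = a := by rw [h2, one_mul]
  have h4 : (2 : F) * 2⁻¹ = 1 := mul_inv_cancel₀ S.h2
  set e : M6 F := (2 : F)⁻¹ • (1 - (a : M6 F)) with he
  have h5 : 2 * e = 1 - a := by rw [he, two_mul_eq, smul_smul, h4, one_smul]
  have hi : e * e = e := by
    rw [he, smul_mul_smul_comm]
    have : (1 - (a : M6 F)) * (1 - a) = (2 : F) • (1 - (a : M6 F)) := by
      rw [← two_mul_eq]
      linear_combination (norm := noncomm_ring) h1
    rw [this, smul_smul]
    congr 1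
    linear_combination (2 : F)⁻¹ * h4
  have hs : sa e = e := by
    rw [he, sa_smul, hS.sub, hS.one, h3]
  have h0 : e ≠ 0 := by
    intro h0
    rw [h0, mul_zero] at h5
    apply hx
    have h6 : a = 1 := Units.ext (sub_eq_zero.1 h5.symm).symm
    rw [h6] at h
    exact S.lf_eq_one h
  have h1' : e ≠ 1 := by
    intro h0
    rw [h0] at h5
    apply hx
    have h6 : -a = 1 := Units.ext (by
      rw [Units.val_neg, Units.val_one]
      linear_combination (norm := noncomm_ring) -h5)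
    have h7 := h.neg
    rw [h6] at h7
    exact S.lf_eq_one h7
  rcases rf_cases hi hs h0 h1' with h6 | h6
  · exact ⟨e, h6, a, h, by unfold rr; rw [h5]; abel⟩
  · refine ⟨1 - e, h6, -a, h.neg, ?_⟩
    unfold rr
    rw [Units.val_neg]
    linear_combination (norm := noncomm_ring) -h5

theorem isR_uniq (h : IsR θ e x) (h' : IsR θ f x) : e = f := by
  obtain ⟨he, a, ha, hae⟩ := h
  obtain ⟨hf, b, hb, hbf⟩ := h'
  rcases S.lf_uniq ha hb with h1 | h1
  · rw [h1, hae] at hbf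
    unfold rr at hbf
    have h2 : (2 : F) • e = (2 : F) • f := by
      rw [← two_mul_eq, ← two_mul_eq]
      linear_combination (norm := noncomm_ring) -hbf
    exact smul_right_injective _ S.h2 h2
  · exfalso
    rw [h1, Units.val_neg, hae] at hbf
    unfold rr at hbf
    apply he.no_unit hf 1 1 1 one_ne_zero
    apply smul_right_injective _ S.h2
    simp only
    rw [← two_mul_eq, ← two_mul_eq, one_smul]
    linear_combination (norm := noncomm_ring) hbf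

theorem isR_ne (h : IsR θ e x) (h' : IsR θ f y) (hxy : x ≠ y) : e ≠ f := by
  rintro rfl
  obtain ⟨he, a, ha, hae⟩ := h
  obtain ⟨-, b, hb, hbf⟩ := h'
  apply hxy
  have h1 : a = b := Units.ext (by rw [hae, hbf])
  rw [← h1] at hb
  exact S.lf_inj ha hb

theorem isR_conj (h : IsR θ e x) (h' : Lf θ b y) : IsR θ ((b : M6 F) * e * ((b⁻¹ : GL (Fin 3 ⊕ Fin 3) F) : M6 F)) (y * x * y⁻¹) := by
  obtain ⟨he, a, ha, hae⟩ := h
  have h1 : ((b⁻¹ : GL (Fin 3 ⊕ Fin 3) F) : M6 F) * (b : M6 F) = 1 := by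
    rw [← Units.val_mul, inv_mul_cancel, Units.val_one]
  have h2 : (b : M6 F) * ((b⁻¹ : GL (Fin 3 ⊕ Fin 3) F) : M6 F) = 1 := by
    rw [← Units.val_mul, mul_inv_cancel, Units.val_one]
  have h3 : sa (b : M6 F) = ((b⁻¹ : GL (Fin 3 ⊕ Fin 3) F) : M6 F) := by
    calc sa (b : M6 F) = sa (b : M6 F) * (b : M6 F) * ((b⁻¹ : GL (Fin 3 ⊕ Fin 3) F) : M6 F) := by
          rw [mul_assoc, h2, mul_one]
      _ = _ := by rw [sa_mul_self (S.lf_sp h'), one_mul]
  refine ⟨he.conj h1 h3, b * a * b⁻¹, ha.conj h', ?_⟩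
  rw [Units.val_mul, Units.val_mul, hae]
  unfold rr
  linear_combination (norm := noncomm_ring) h2

theorem pow_cases (h : IsR θ e x) (h' : IsR θ f y) {m : ℕ} (hm : (x * y) ^ m = 1) :
    (rr e * rr f) ^ m = 1 ∨ (rr e * rr f) ^ m = -1 := by
  obtain ⟨he, a, ha, hae⟩ := h
  obtain ⟨hf, b, hb, hbf⟩ := h'
  have h1 := (ha.mul hb).pow m
  rw [hm] at h1
  rw [← hae, ← hbf, ← Units.val_mul, ← Units.val_pow_eq_pow_val]
  rcases S.lf_one h1 with h2 | h2
  · left; rw [h2, Units.val_one]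
  · right; rw [h2, Units.val_neg, Units.val_one]

theorem sq_ne (h : IsR θ e x) (h' : IsR θ f y) (hm : (x * y) ^ 2 ≠ 1) : (rr e * rr f) ^ 2 ≠ 1 := by
  obtain ⟨he, a, ha, hae⟩ := h
  obtain ⟨hf, b, hb, hbf⟩ := h'
  have h1 := (ha.mul hb).pow 2
  rw [← hae, ← hbf, ← Units.val_mul, ← Units.val_pow_eq_pow_val]
  intro h2
  have h3 : (a * b) ^ 2 = 1 := Units.ext h2
  rw [h3] at h1
  exact hm (S.lf_eq_one h1)

theorem p2 (h : IsR θ e x) (h' : IsR θ f y) (hm : x * y = y * x) (hx : x * x = 1) (hy : y * y = 1) (hxy : x ≠ y) :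
    e * f = 0 := by
  refine pair2 h.1 h'.1 S.h2 (S.pow_cases h h' ?_) (S.isR_ne h h' hxy)
  rw [pow_two]
  calc x * y * (x * y) = x * (y * x) * y := by group
    _ = x * x * (y * y) := by rw [← hm]; group
    _ = 1 := by rw [hx, hy, one_mul]

theorem p3 (h : IsR θ e x) (h' : IsR θ f y) (hm : (x * y) ^ 3 = 1) (hxy : x ≠ y) : 4 * (e * f * e) = e :=
  pair3 h.1 h'.1 S.h2 S.h3 (S.pow_cases h h' hm) (S.isR_ne h h' hxy)

theorem p4 (h : IsR θ e x) (h' : IsR θ f y) (hm : (x * y) ^ 4 = 1) (hxy : (x * y) ^ 2 ≠ 1) : 2 * (e * f * e) = e :=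
  pair4 h.1 h'.1 S.h2 (S.pow_cases h h' hm) (S.sq_ne h h' hxy)

omit S in
theorem swap_pow {x y : G} {m : ℕ} (hm : (x * y) ^ m = 1) : (y * x) ^ m = 1 := by
  have h : (y * x) ^ m = y * (x * y) ^ m * y⁻¹ := by
    rw [← conj_pow]
    congr 1
    group
  rw [h, hm, mul_one, mul_inv_cancel]

theorem p4' (h : IsR θ e x) (h' : IsR θ f y) (hm : (x * y) ^ 4 = 1) (hxy : (x * y) ^ 2 ≠ 1) :
    2 * (e * f * e) = e ∧ 2 * (f * e * f) = f :=
  ⟨S.p4 h h' hm hxy, S.p4 h' h (swap_pow hm) (fun h0 => hxy (swap_pow h0))⟩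

end RH

end Cfsg.Agent.H476.JTwo
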