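import Cfsg.Agent.H476.JTwo.GD

/-!
# The group of the root lines (helper476, for S5806)
-/

set_option autoImplicit false
set_option linter.unusedSectionVars false

namespace Cfsg.Agent.H476.JTwo

open Cfsg Cfsg.Geo Matrix Module

universe u v

variable {F : Type u} [Field F] {e1 e2 e3 e4 e5 e6 e8 : M6 F} (H : Rels sa e1 e2 e3 e4 e5 e6 e8) {τ : F}
  (hτ : τ * τ = τ + 1) (h2 : (2 : F) ≠ 0) (h3 : (3 : F) ≠ 0)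

/-- `i` -/
def rI (e2 e3 e4 e8 : M6 F) : M6 F := qI e2 (fp3 e2 e3 e4) e8
/-- `j` -/
def rJ (e1 e2 e3 e4 e5 e6 e8 : M6 F) : M6 F := qJ e2 (rI e2 e3 e4 e8) (qX e2 (fq1 e1 e2 e5) e6)

theorem h12 (h2 : (2 : F) ≠ 0) (h3 : (3 : F) ≠ 0) : (12 : F) ≠ 0 := by
  have : (12 : F) = 2 * 2 * 3 := by norm_num
  rw [this]
  exact mul_ne_zero (mul_ne_zero h2 h2) h3

theorem h144 (h2 : (2 : F) ≠ 0) (h3 : (3 : F) ≠ 0) : (144 : F) ≠ 0 := by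
  have : (144 : F) = 12 * 12 := by norm_num
  rw [this]
  exact mul_ne_zero (h12 h2 h3) (h12 h2 h3)

/-- the predicate of the group -/
def TpR (τ : F) (e1 e2 e3 e4 e5 e6 e8 g : M6 F) : Prop :=
  Tp τ e2 (fp1 e1 e2 e5) (fp3 e2 e3 e4) (rI e2 e3 e4 e8) (rJ e1 e2 e3 e4 e5 e6 e8) g

include H

theorem Rels.fr : Fr sa e2 (fp1 e1 e2 e5) (fp3 e2 e3 e4) (fq1 e1 e2 e5) (fq3 e2 e3 e4) (rI e2 e3 e4 e8)
    (rJ e1 e2 e3 e4 e5 e6 e8) := H.frm.fr H.h9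

include hτ h2 h3

theorem Rels.t1 : TpR τ e1 e2 e3 e4 e5 e6 e8 (rr e1) := by
  refine H.fr.tp hτ good_g1 ?_ (by rw [Nat.cast_one]; exact one_ne_zero) (h12 h2 h3)
  rw [H.fr.col_g1, H.fr.row_g1, Nat.cast_one, one_smul]
  exact H.e1_eq

theorem Rels.t2 : TpR τ e1 e2 e3 e4 e5 e6 e8 (rr e2) := by
  refine H.fr.tp hτ good_g2 ?_ (by rw [Nat.cast_one]; exact one_ne_zero) (h12 h2 h3)
  rw [H.fr.col_g2, H.fr.row_g2, Nat.cast_one, one_smul]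
  exact H.i2.symm

theorem Rels.t4 : TpR τ e1 e2 e3 e4 e5 e6 e8 (rr e4) := by
  refine H.fr.tp hτ good_g4 ?_ (by rw [Nat.cast_ofNat]; exact h2) (h12 h2 h3)
  rw [H.fr.col_g4, H.fr.row_g4, Nat.cast_ofNat, ← two_mul_eq]
  exact H.e4_eq

theorem Rels.t5 : TpR τ e1 e2 e3 e4 e5 e6 e8 (rr e5) := by
  refine H.fr.tp hτ good_g5 ?_ (by rw [Nat.cast_ofNat]; exact h2) (h12 h2 h3)
  rw [H.fr.col_g5, H.fr.row_g5, Nat.cast_ofNat, ← two_mul_eq]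
  exact H.e5_eq

theorem Rels.t8 : TpR τ e1 e2 e3 e4 e5 e6 e8 (rr e8) := by
  refine H.fr.tp hτ good_g8 ?_ (by rw [Nat.cast_ofNat]; exact h2) (h12 h2 h3)
  rw [H.fr.col_g8, H.fr.row_g8, Nat.cast_ofNat, ← two_mul_eq]
  exact H.frm.form8

theorem Rels.t6 : TpR τ e1 e2 e3 e4 e5 e6 e8 (rr e6) := by
  refine H.fr.tp hτ good_g6 ?_ ?_ (h12 h2 h3)
  · have hX := H.frm.twoX H.h9
    have h6 := H.frm.form6
    have eJ := H.fr.eJ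
    have Ie := H.fr.Ie
    rw [H.fr.col_g6, H.fr.row_g6]
    have h16 : (((16 : ℕ) : F) • e6) = 16 * e6 := by
      rw [Nat.cast_ofNat, ofNat_smul_eq_nsmul, nsmul_eq_mul]; rfl
    rw [h16]
    change 2 * qX e2 (fq1 e1 e2 e5) e6 = (e2 + rI e2 e3 e4 e8) * (e2 + rJ e1 e2 e3 e4 e5 e6 e8) at hX
    have hc : e2 + rI e2 e3 e4 e8 + rJ e1 e2 e3 e4 e5 e6 e8 + rI e2 e3 e4 e8 * rJ e1 e2 e3 e4 e5 e6 e8 =
        2 * qX e2 (fq1 e1 e2 e5) e6 := by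
      linear_combination (norm := noncomm_ring) -hX - H.i2 - eJ - Ie
    have hc' : e2 - rI e2 e3 e4 e8 - rJ e1 e2 e3 e4 e5 e6 e8 - rI e2 e3 e4 e8 * rJ e1 e2 e3 e4 e5 e6 e8 =
        2 * (e2 - qX e2 (fq1 e1 e2 e5) e6) := by
      linear_combination (norm := noncomm_ring) -hc
    rw [hc, hc']
    linear_combination (norm := noncomm_ring) 4 * h6
  · have : ((16 : ℕ) : F) = 2 * 2 * (2 * 2) := by norm_num
    rw [this]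
    exact mul_ne_zero (mul_ne_zero h2 h2) (mul_ne_zero h2 h2)

omit H hτ h2 h3 in
/-- the idempotent of the extra reflection -/
def ex0 (τ : F) (e1 e2 e3 e4 e5 e6 e8 : M6 F) : M6 F :=
  e0 τ e2 (fp1 e1 e2 e5) (fp3 e2 e3 e4) (fq1 e1 e2 e5) (fq3 e2 e3 e4) (rI e2 e3 e4 e8) (rJ e1 e2 e3 e4 e5 e6 e8)

theorem Rels.t0 : TpR τ e1 e2 e3 e4 e5 e6 e8 (rr (ex0 τ e1 e2 e3 e4 e5 e6 e8)) := by
  refine H.fr.tp hτ good_g0 (e0_eq (h144 h2 h3)) (by rw [Nat.cast_ofNat]; exact h144 h2 h3) (h12 h2 h3)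

theorem Rels.ex0_sq : ex0 τ e1 e2 e3 e4 e5 e6 e8 * ex0 τ e1 e2 e3 e4 e5 e6 e8 = ex0 τ e1 e2 e3 e4 e5 e6 e8 :=
  H.fr.e0_sq hτ (h144 h2 h3)

theorem Rels.ex0_five : (rr (ex0 τ e1 e2 e3 e4 e5 e6 e8) * rr e2) ^ 5 = 1 := H.fr.pow_five hτ (h144 h2 h3)

theorem Rels.ex0_ne (h : e2 ≠ 0) : ex0 τ e1 e2 e3 e4 e5 e6 e8 ≠ e2 := H.fr.e0_ne hτ (h144 h2 h3) h

omit hτ h2 h3 in
theorem Rels.ex0_adj (τ : F) : sa (ex0 τ e1 e2 e3 e4 e5 e6 e8) = ex0 τ e1 e2 e3 e4 e5 e6 e8 := H.fr.st_e0 sa_smul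

omit H hτ h2 h3 in
/-- the unit of a reflection -/
def mkR (e : M6 F) (h : e * e = e) : GL (Fin 3 ⊕ Fin 3) F :=
  ⟨rr e, rr e, by unfold rr; linear_combination (norm := noncomm_ring) 4 * h,
    by unfold rr; linear_combination (norm := noncomm_ring) 4 * h⟩

omit H hτ h2 h3 in
theorem mkR_inv {e : M6 F} (h : e * e = e) : (mkR e h)⁻¹ = mkR e h := Units.ext rfl

omit H hτ h2 h3 in
theorem mkR_sp {e : M6 F} (h : e * e = e) (hs : sa e = e) : mkR e h ∈ spGL 3 F := by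
  apply mem_sp_of_sa
  change sa (rr e) * rr e = 1
  unfold rr
  rw [adj_sa.sub, adj_sa.one, adj_sa.mul, hs, adj_sa.two]
  linear_combination (norm := noncomm_ring) 4 * h

omit H hτ h2 h3 in
/-- the group of the root lines -/
def LL (τ : F) (e1 e2 e3 e4 e5 e6 e8 : M6 F) : Subgroup (GL (Fin 3 ⊕ Fin 3) F) where
  carrier := {g | g ∈ spGL 3 F ∧ TpR τ e1 e2 e3 e4 e5 e6 e8 (g : M6 F) ∧
    TpR τ e1 e2 e3 e4 e5 e6 e8 ((g⁻¹ : GL (Fin 3 ⊕ Fin 3) F) : M6 F)}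
  one_mem' := ⟨one_mem _, Tp.one _ _ _ _ _ _, by rw [inv_one]; exact Tp.one _ _ _ _ _ _⟩
  mul_mem' := by
    rintro a b ⟨ha, ha', ha''⟩ ⟨hb, hb', hb''⟩
    refine ⟨mul_mem ha hb, ?_, ?_⟩
    · rw [Units.val_mul]; exact ha'.mul hb'
    · rw [_root_.mul_inv_rev, Units.val_mul]; exact hb''.mul ha''
  inv_mem' := by
    rintro a ⟨ha, ha', ha''⟩
    exact ⟨inv_mem ha, ha'', by rw [inv_inv]; exact ha'⟩

omit H hτ h2 h3 in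
theorem LL_le : LL τ e1 e2 e3 e4 e5 e6 e8 ≤ spGL 3 F := fun _ h => h.1

omit H hτ h2 h3 in
theorem neg_one_LL : (-1 : GL (Fin 3 ⊕ Fin 3) F) ∈ LL τ e1 e2 e3 e4 e5 e6 e8 := by
  have h : ((-1 : GL (Fin 3 ⊕ Fin 3) F))⁻¹ = -1 := by rw [inv_neg, inv_one]
  refine ⟨H914.S6.neg_one_mem, ?_, ?_⟩
  · rw [Units.val_neg, Units.val_one]; exact Tp.neg_one _ _ _ _ _ _
  · rw [h, Units.val_neg, Units.val_one]; exact Tp.neg_one _ _ _ _ _ _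

omit H hτ h2 h3 in
theorem mem_LL {a : GL (Fin 3 ⊕ Fin 3) F} {e : M6 F} (ha : (a : M6 F) = rr e)
    (ha' : ((a⁻¹ : GL (Fin 3 ⊕ Fin 3) F) : M6 F) = rr e) (hs : a ∈ spGL 3 F)
    (h : TpR τ e1 e2 e3 e4 e5 e6 e8 (rr e)) : a ∈ LL τ e1 e2 e3 e4 e5 e6 e8 :=
  ⟨hs, by rw [ha]; exact h, by rw [ha']; exact h⟩

theorem Rels.ex0_mem : mkR (ex0 τ e1 e2 e3 e4 e5 e6 e8) (H.ex0_sq hτ h2 h3) ∈ LL τ e1 e2 e3 e4 e5 e6 e8 :=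
  mem_LL rfl rfl (mkR_sp _ (H.ex0_adj τ)) (H.t0 hτ h2 h3)

end Cfsg.Agent.H476.JTwo
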